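import Mathlib

set_option autoImplicit false

namespace Cfsg.Agent.Lib.Helper69

open Polynomial

section LA

variable {q : ℕ} [Fact q.Prime] {V : Type*} [AddCommGroup V] [Module (ZMod q) V]

theorem la_ker_invariant (f : V →ₗ[ZMod q] V) (h : (ZMod q)[X]) :
    LinearMap.ker (aeval f h) ≤ (LinearMap.ker (aeval f h)).comap f := by
  intro v hv
  rw [Submodule.mem_comap, LinearMap.mem_ker] at *
  have hc : aeval f h * f = f * aeval f h := by
    have h1 : aeval f (h * X) = aeval f (X * h) := by rw [mul_comm]
    simpa [map_mul] using h1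
  have : (aeval f h * f) v = (f * aeval f h) v := by rw [hc]
  rw [Module.End.mul_apply, Module.End.mul_apply, hv, map_zero] at this
  exact this

theorem la_key (f : V →ₗ[ZMod q] V)
    (hinv : ∀ W : Submodule (ZMod q) V, W ≤ W.comap f → W = ⊥ ∨ W = ⊤)
    (h : (ZMod q)[X]) (v : V) (hv : v ≠ 0) (hhv : aeval f h v = 0) : aeval f h = 0 := by
  rcases hinv _ (la_ker_invariant f h) with h1 | h1
  · exfalso
    have : v ∈ LinearMap.ker (aeval f h) := LinearMap.mem_ker.mpr hhv
    rw [h1, Submodule.mem_bot] at this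
    exact hv this
  · exact LinearMap.ker_eq_top.mp h1

theorem la_card (p : ℕ) [Fact p.Prime] (hpq : p ≠ q) [Finite V] [Nontrivial V]
    (f : V →ₗ[ZMod q] V) (hfp : f ^ p = 1) (hf1 : f ≠ 1)
    (hinv : ∀ W : Submodule (ZMod q) V, W ≤ W.comap f → W = ⊥ ∨ W = ⊤) :
    Nat.card V = q ^ orderOf (q : ZMod p) := by
  have hint : IsIntegral (ZMod q) f := LinearMap.isIntegral f
  set μ := minpoly (ZMod q) f with hμdef
  have hμ0 : aeval f μ = 0 := minpoly.aeval _ _
  have hμm : μ.Monic := minpoly.monic hint
  have hμne : μ ≠ 0 := hμm.ne_zero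
  have K : ∀ h : (ZMod q)[X], ∀ v : V, v ≠ 0 → aeval f h v = 0 → μ ∣ h := by
    intro h v hv hhv
    exact minpoly.dvd _ _ (la_key f hinv h v hv hhv)
  have hirr : Irreducible μ := by
    rw [irreducible_iff]
    refine ⟨?_, ?_⟩
    · intro hu
      have h1 : μ = 1 := hμm.eq_one_of_isUnit hu
      exact minpoly.ne_one _ f h1
    · intro a b hab
      obtain ⟨v, hv⟩ := exists_ne (0 : V)
      by_cases hb : aeval f b v = 0
      · have hdb := K b v hv hb
        left
        have h2 : Associated (b * a) b :=
          associated_of_dvd_dvd (by rw [mul_comm, ← hab]; exact hdb) (dvd_mul_right b a)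
        refine isUnit_of_associated_mul h2 ?_
        rintro rfl
        rw [mul_zero] at hab
        exact hμne hab
      · right
        have h3 : aeval f a (aeval f b v) = 0 := by
          rw [← Module.End.mul_apply, ← map_mul, ← hab, hμ0]
          rfl
        have hda := K a _ hb h3
        have h2 : Associated (a * b) a :=
          associated_of_dvd_dvd (by rw [← hab]; exact hda) (dvd_mul_right a b)
        refine isUnit_of_associated_mul h2 ?_
        rintro rfl
        rw [zero_mul] at hab
        exact hμne hab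
  have hdvd : μ ∣ X ^ p - 1 := by
    apply minpoly.dvd
    simp [hfp]
  rw [← cyclotomic_prime_mul_X_sub_one (ZMod q) p] at hdvd
  have hcyc : μ ∣ cyclotomic p (ZMod q) := by
    rcases hirr.prime.dvd_or_dvd hdvd with h | h
    · exact h
    · exfalso
      obtain ⟨c, hc⟩ := h
      apply hf1
      have h4 : aeval f (X - 1 : (ZMod q)[X]) = 0 := by rw [hc, map_mul, hμ0, zero_mul]
      simpa [sub_eq_zero] using h4
  have hdeg : μ.natDegree = orderOf (q : ZMod p) := by
    have hcop : q.Coprime p :=
      (Nat.coprime_primes (Fact.out : q.Prime) (Fact.out : p.Prime)).mpr (Ne.symm hpq)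
    have h5 := natDegree_of_dvd_cyclotomic_of_irreducible (K := ZMod q) (p := q) (f := 1) (n := p)
      (by simp [ZMod.card]) hcop hcyc hirr
    rw [h5, ← orderOf_units, ZMod.coe_unitOfCoprime]
    simp
  obtain ⟨v, hv⟩ := exists_ne (0 : V)
  set e := orderOf (q : ZMod p) with he
  let T' : (ZMod q)[X] →ₗ[ZMod q] V := (LinearMap.applyₗ v).comp (aeval f).toLinearMap
  have hT' : ∀ h, T' h = aeval f h v := fun h => rfl
  let T : degreeLT (ZMod q) e →ₗ[ZMod q] V := T'.comp (degreeLT (ZMod q) e).subtype
  have hT : ∀ r, T r = aeval f (r : (ZMod q)[X]) v := fun r => rfl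
  have hTinj : Function.Injective T := by
    rw [← LinearMap.ker_eq_bot, LinearMap.ker_eq_bot']
    intro r hr
    rw [hT] at hr
    have h6 := K _ v hv hr
    have h7 : (r : (ZMod q)[X]).degree < μ.degree := by
      have := r.2
      rw [mem_degreeLT] at this
      rw [degree_eq_natDegree hμne, hdeg]
      exact this
    have h8 := eq_zero_of_dvd_of_degree_lt h6 h7
    exact Subtype.ext h8
  have hTsurj : Function.Surjective T := by
    have hTinv : LinearMap.range T' ≤ (LinearMap.range T').comap f := by
      rintro w ⟨h, rfl⟩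
      rw [Submodule.mem_comap]
      refine ⟨X * h, ?_⟩
      rw [hT', hT', map_mul, aeval_X]
      rfl
    have hrange : LinearMap.range T' = ⊤ := by
      rcases hinv (LinearMap.range T') hTinv with h1 | h1
      · exfalso
        have : v ∈ LinearMap.range T' := ⟨1, by rw [hT']; simp⟩
        rw [h1, Submodule.mem_bot] at this
        exact hv this
      · exact h1
    intro w
    have hw : w ∈ LinearMap.range T' := by rw [hrange]; trivial
    obtain ⟨h, rfl⟩ := hw
    have hlt : (h %ₘ μ).degree < (e : WithBot ℕ) := by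
      have := degree_modByMonic_lt h hμm
      rwa [degree_eq_natDegree hμne, hdeg] at this
    refine ⟨⟨h %ₘ μ, mem_degreeLT.mpr hlt⟩, ?_⟩
    rw [hT, hT']
    conv_rhs => rw [← modByMonic_add_div h μ]
    simp only [map_add, map_mul, hμ0, zero_mul, add_zero]
  have h9 := Nat.card_congr (Equiv.ofBijective T ⟨hTinj, hTsurj⟩)
  rw [← h9, Nat.card_congr (degreeLTEquiv (ZMod q) e).toEquiv, Nat.card_fun, Nat.card_zmod,
    Nat.card_fin]

end LA

section GroupPart

variable {G : Type*} [Group G]

theorem eq_top_of_index_prime {p : ℕ} (hp : p.Prime) {A K : Subgroup G} (hidx : A.index = p)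
    (hle : A ≤ K) (x : G) (hx : x ∈ K) (hxA : x ∉ A) : K = ⊤ := by
  rw [← Subgroup.index_eq_one]
  have h1 := Subgroup.relIndex_mul_index hle
  rw [hidx] at h1
  have h2 : K.index ∣ p := Dvd.intro_left _ h1
  rcases (Nat.dvd_prime hp).mp h2 with h3 | h3
  · exact h3
  · exfalso
    rw [h3] at h1
    have h4 : A.relIndex K = 1 := by
      have hp0 : 0 < p := hp.pos
      exact Nat.eq_of_mul_eq_mul_right hp0 (by rw [h1, one_mul])
    rw [Subgroup.relIndex_eq_one] at h4
    exact hxA (h4 hx)

theorem comm_of_central_index_prime [Finite G] {p : ℕ} [Fact p.Prime] (A : Subgroup G) [A.Normal]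
    (hidx : A.index = p) (hA : A ≤ Subgroup.center G) : IsMulCommutative G := by
  have hcard : Nat.card (G ⧸ A) = p := by rw [← Subgroup.index_eq_card, hidx]
  haveI : IsCyclic (G ⧸ A) := isCyclic_of_prime_card hcard
  apply MonoidHom.isMulCommutative_of_isCyclic_of_ker_le_center (QuotientGroup.mk' A)
  rw [QuotientGroup.ker_mk']
  exact hA

theorem card_of_min_normal_aux [Finite G] {p q : ℕ} [Fact p.Prime] [Fact q.Prime] (hpq : q ≠ p)
    (hna : ¬ IsMulCommutative G) (A : Subgroup G) [A.Normal]
    (hAc : ∀ a ∈ A, ∀ b ∈ A, a * b = b * a) (hidx : A.index = p)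
    (hmin : ∀ B : Subgroup G, B.Normal → B ≤ A → B = ⊥ ∨ B = A)
    {V : Type*} [AddCommGroup V] [Module (ZMod q) V] (e : V ≃+ Additive ↥A) :
    Nat.card ↥A = q ^ orderOf (q : ZMod p) := by
  have hp : p.Prime := Fact.out
  haveI : Finite V := Finite.of_equiv _ e.symm.toEquiv
  let toV : ↥A → V := fun a => e.symm (Additive.ofMul a)
  let ofV : V → ↥A := fun v => Additive.toMul (e v)
  have h_to_of : ∀ v, toV (ofV v) = v := fun v => by simp [toV, ofV]
  have h_of_to : ∀ a, ofV (toV a) = a := fun a => by simp [toV, ofV]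
  have h_to_mul : ∀ a b, toV (a * b) = toV a + toV b := fun a b => by simp [toV]
  have h_to_one : toV 1 = 0 := by simp [toV]
  have h_to_inj : ∀ a b, toV a = toV b → a = b := by
    intro a b h
    rw [← h_of_to a, ← h_of_to b, h]
  have h_of_add : ∀ v w, ofV (v + w) = ofV v * ofV w := fun v w => by simp [ofV]
  let L : G → (V →ₗ[ZMod q] V) := fun g =>
    AddMonoidHom.toZModLinearMap q (AddMonoidHom.mk' (fun v => toV (MulAut.conjNormal g (ofV v)))
      (fun v w => by rw [h_of_add, map_mul, h_to_mul]))
  have hL : ∀ (g : G) (v : V), L g v = toV (MulAut.conjNormal g (ofV v)) := fun g v => rfl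
  have hLmul : ∀ g h : G, L (g * h) = L g * L h := by
    intro g h
    ext v
    rw [Module.End.mul_apply, hL, hL, hL, map_mul, h_of_to]
    rfl
  have hL1 : ∀ a ∈ A, L a = 1 := by
    intro a ha
    ext v
    rw [hL, Module.End.one_apply]
    have : MulAut.conjNormal a (ofV v) = ofV v := by
      apply Subtype.ext
      rw [MulAut.conjNormal_apply, hAc a ha _ (ofV v).2, mul_inv_cancel_right]
    rw [this, h_to_of]
  have hLpow : ∀ (g : G) (k : ℕ), L (g ^ k) = L g ^ k := by
    intro g k
    induction k with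
    | zero => rw [pow_zero, pow_zero]; exact hL1 1 A.one_mem
    | succ k ih => rw [pow_succ, pow_succ, hLmul, ih]
  obtain ⟨x, hx⟩ : ∃ x : G, x ∉ A := by
    by_contra hcon
    push Not at hcon
    have : A = ⊤ := (Subgroup.eq_top_iff' A).mpr hcon
    rw [this, Subgroup.index_top] at hidx
    exact hp.one_lt.ne hidx
  have hxp : x ^ p ∈ A := by
    rw [← QuotientGroup.eq_one_iff, QuotientGroup.mk_pow]
    have hcard : Nat.card (G ⧸ A) = p := by rw [← Subgroup.index_eq_card, hidx]
    rw [← hcard]
    exact pow_card_eq_one'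
  set f := L x with hf
  have hfp : f ^ p = 1 := by rw [hf, ← hLpow, hL1 _ hxp]
  have hf1 : f ≠ 1 := by
    intro h1
    apply hna
    apply comm_of_central_index_prime A hidx
    have hcent : Subgroup.centralizer (A : Set G) = ⊤ := by
      apply eq_top_of_index_prime hp hidx (K := Subgroup.centralizer (A : Set G)) _ x _ hx
      · intro a ha
        rw [Subgroup.mem_centralizer_iff]
        intro b hb
        exact hAc b hb a ha
      · rw [Subgroup.mem_centralizer_iff]
        intro b hb
        have h2 : f (toV ⟨b, hb⟩) = toV ⟨b, hb⟩ := by rw [h1]; rfl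
        rw [hf, hL, h_of_to] at h2
        have h3 : ((MulAut.conjNormal x) ⟨b, hb⟩ : G) = b :=
          congrArg (fun t : ↥A => (t : G)) (h_to_inj _ _ h2)
        rw [MulAut.conjNormal_apply] at h3
        calc b * x = x * b * x⁻¹ * x := by rw [h3]
          _ = x * b := by group
    intro a ha
    rw [Subgroup.mem_center_iff]
    intro g
    have hg : g ∈ Subgroup.centralizer (A : Set G) := by rw [hcent]; trivial
    rw [Subgroup.mem_centralizer_iff] at hg
    exact (hg a ha).symm
  haveI : Nontrivial V := by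
    by_contra hnt
    rw [not_nontrivial_iff_subsingleton] at hnt
    apply hf1
    ext v
    exact Subsingleton.elim _ _
  have hinv : ∀ W : Submodule (ZMod q) V, W ≤ W.comap f → W = ⊥ ∨ W = ⊤ := by
    intro W hW
    have hWk : ∀ (k : ℕ) (w : V), w ∈ W → (f ^ k) w ∈ W := by
      intro k
      induction k with
      | zero => intro w hw; simpa using hw
      | succ k ih =>
        intro w hw
        rw [pow_succ, Module.End.mul_apply]
        exact ih _ (hW hw)
    have hWiff : ∀ w : V, w ∈ W ↔ f w ∈ W := by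
      intro w
      refine ⟨fun hw => hW hw, fun hw => ?_⟩
      have h1 : (f ^ p) w = w := by rw [hfp]; rfl
      obtain ⟨k, hk⟩ : ∃ k, p = k + 1 := ⟨p - 1, by have := hp.pos; omega⟩
      rw [hk, pow_succ, Module.End.mul_apply] at h1
      rw [← h1]
      exact hWk k _ hw
    let K : Subgroup G :=
      { carrier := {g | ∀ w : V, w ∈ W ↔ L g w ∈ W}
        one_mem' := by
          intro w
          rw [hL1 1 A.one_mem]
          rfl
        mul_mem' := by
          intro g h hg hh w
          rw [hLmul, Module.End.mul_apply, ← hg, ← hh]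
        inv_mem' := by
          intro g hg w
          have h1 : L g (L g⁻¹ w) = w := by
            rw [← Module.End.mul_apply, ← hLmul, mul_inv_cancel, hL1 1 A.one_mem]
            rfl
          rw [hg (L g⁻¹ w), h1] }
    have hK : K = ⊤ := by
      apply eq_top_of_index_prime hp hidx (K := K) _ x _ hx
      · intro a ha w
        rw [hL1 a ha]
        rfl
      · intro w
        exact hWiff w
    let B : Subgroup G :=
      { carrier := {g | ∃ a : ↥A, (a : G) = g ∧ toV a ∈ W}
        one_mem' := ⟨1, rfl, by rw [h_to_one]; exact W.zero_mem⟩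
        mul_mem' := by
          rintro _ _ ⟨a, rfl, ha⟩ ⟨b, rfl, hb⟩
          exact ⟨a * b, rfl, by rw [h_to_mul]; exact W.add_mem ha hb⟩
        inv_mem' := by
          rintro _ ⟨a, rfl, ha⟩
          refine ⟨a⁻¹, rfl, ?_⟩
          have h0 : toV a⁻¹ + toV a = 0 := by rw [← h_to_mul, inv_mul_cancel, h_to_one]
          have h1 : toV a⁻¹ = - toV a := eq_neg_of_add_eq_zero_left h0
          rw [h1]
          exact W.neg_mem ha }
    have hBn : B.Normal := by
      constructor
      rintro _ ⟨a, rfl, ha⟩ g
      have hg : g ∈ K := by rw [hK]; trivial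
      refine ⟨MulAut.conjNormal g a, MulAut.conjNormal_apply g a, ?_⟩
      have h1 := (hg (toV a)).mp ha
      rw [hL, h_of_to] at h1
      exact h1
    have hBA : B ≤ A := by
      rintro _ ⟨a, rfl, -⟩
      exact a.2
    rcases hmin B hBn hBA with h1 | h1
    · left
      rw [Submodule.eq_bot_iff]
      intro w hw
      have h2 : ((ofV w : ↥A) : G) ∈ B := ⟨ofV w, rfl, by rw [h_to_of]; exact hw⟩
      rw [h1, Subgroup.mem_bot] at h2
      have h3 : ofV w = 1 := Subtype.ext h2
      rw [← h_to_of w, h3, h_to_one]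
    · right
      rw [Submodule.eq_top_iff']
      intro w
      have h2 : ((ofV w : ↥A) : G) ∈ B := by rw [h1]; exact (ofV w).2
      obtain ⟨b, hb, hbW⟩ := h2
      have h3 : b = ofV w := Subtype.ext hb
      rw [h3, h_to_of] at hbW
      exact hbW
  rw [← la_card (q := q) (V := V) p hpq.symm f hfp hf1 hinv]
  exact Nat.card_congr (Additive.ofMul.trans e.symm.toEquiv)

@[reducible] def commGroupOfComm (A : Subgroup G) (hAc : ∀ a ∈ A, ∀ b ∈ A, a * b = b * a) :
    CommGroup ↥A :=
  { (inferInstance : Group ↥A) with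
    mul_comm := fun a b => Subtype.ext (hAc a a.2 b b.2) }

theorem card_of_min_normal [Finite G] {p q : ℕ} [Fact p.Prime] (hq : q.Prime) (hpq : q ≠ p)
    (hna : ¬ IsMulCommutative G) (A : Subgroup G) [A.Normal]
    (hAc : ∀ a ∈ A, ∀ b ∈ A, a * b = b * a) (hAq : ∀ a ∈ A, a ^ q = 1) (hidx : A.index = p)
    (hmin : ∀ B : Subgroup G, B.Normal → B ≤ A → B = ⊥ ∨ B = A) :
    Nat.card ↥A = q ^ orderOf (q : ZMod p) := by
  haveI : Fact q.Prime := ⟨hq⟩
  letI instC : CommGroup ↥A := commGroupOfComm A hAc
  have hexp : ∀ v : Additive ↥A, q • v = 0 := by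
    intro v
    induction v using Additive.rec with
    | ofMul a =>
      rw [← ofMul_pow]
      have : a ^ q = 1 := Subtype.ext (by simpa using hAq a a.2)
      rw [this, ofMul_one]
  exact @card_of_min_normal_aux G _ _ p q _ _ hpq hna A _ hAc hidx hmin (Additive ↥A)
    (@Additive.addCommGroup _ instC) (@AddCommGroup.zmodModule q (Additive ↥A) _ hexp)
    (AddEquiv.refl _)

theorem comm_of_centralizing [Finite G] {p : ℕ} [Fact p.Prime] (A : Subgroup G) [A.Normal]
    (hAc : ∀ a ∈ A, ∀ b ∈ A, a * b = b * a) (hidx : A.index = p) (x : G) (hxA : x ∉ A)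
    (hx : ∀ a ∈ A, a * x = x * a) : IsMulCommutative G := by
  have hp : p.Prime := Fact.out
  apply comm_of_central_index_prime A hidx
  have hcent : Subgroup.centralizer (A : Set G) = ⊤ := by
    apply eq_top_of_index_prime hp hidx (K := Subgroup.centralizer (A : Set G)) _ x _ hxA
    · intro a ha
      rw [Subgroup.mem_centralizer_iff]
      intro b hb
      exact hAc b hb a ha
    · rw [Subgroup.mem_centralizer_iff]
      intro b hb
      exact hx b hb
  intro a ha
  rw [Subgroup.mem_center_iff]
  intro g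
  have hg : g ∈ Subgroup.centralizer (A : Set G) := by rw [hcent]; trivial
  rw [Subgroup.mem_centralizer_iff] at hg
  exact (hg a ha).symm

theorem commutator_mem_of_index_prime [Finite G] {p : ℕ} [Fact p.Prime] (A : Subgroup G) [A.Normal]
    (hidx : A.index = p) (a b : G) : a * b * a⁻¹ * b⁻¹ ∈ A := by
  have hcard : Nat.card (G ⧸ A) = p := by rw [← Subgroup.index_eq_card, hidx]
  haveI : IsCyclic (G ⧸ A) := isCyclic_of_prime_card hcard
  haveI : IsMulCommutative (G ⧸ A) := IsCyclic.isMulCommutative
  rw [← QuotientGroup.eq_one_iff]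
  rw [QuotientGroup.mk_mul, QuotientGroup.mk_mul, QuotientGroup.mk_mul, QuotientGroup.mk_inv,
    QuotientGroup.mk_inv, mul_comm' (a : G ⧸ A) (b : G ⧸ A)]
  group

end GroupPart

end Cfsg.Agent.Lib.Helper69
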