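import Mathlib
import Cfsg.Prelude.Def_LocalStructure
import Cfsg.Agent.Lib.Helper69.IrrAction

set_option autoImplicit false

namespace Cfsg.Agent.Lib.Helper69

section MinNonPClosed

variable {G : Type*} [Group G] [Finite G] {p : ℕ} [Fact p.Prime]

theorem pclosed_le_normalizer (H : Subgroup G) (hH : Cfsg.IsPClosed p ↥H) (P : Sylow p G)
    (hPH : (P : Subgroup G) ≤ H) : H ≤ Subgroup.normalizer ((P : Subgroup G) : Set G) := by
  have hS : ((P.subtype hPH : Sylow p ↥H) : Subgroup ↥H).Normal := hH _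
  have key : ∀ h ∈ H, ∀ x ∈ (P : Subgroup G), h * x * h⁻¹ ∈ (P : Subgroup G) := by
    intro h hh x hx
    have h1 : (⟨x, hPH hx⟩ : ↥H) ∈ ((P.subtype hPH : Sylow p ↥H) : Subgroup ↥H) := by
      rw [Sylow.coe_subtype, Subgroup.mem_subgroupOf]
      exact hx
    have h2 := hS.conj_mem _ h1 ⟨h, hh⟩
    rw [Sylow.coe_subtype, Subgroup.mem_subgroupOf] at h2
    simpa using h2
  intro h hh
  rw [Subgroup.mem_normalizer_iff]
  intro x
  refine ⟨fun hx => key h hh x hx, fun hx => ?_⟩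
  have h3 := key h⁻¹ (H.inv_mem hh) _ hx
  have e : h⁻¹ * (h * x * h⁻¹) * h⁻¹⁻¹ = x := by group
  rwa [e] at h3

theorem sup_normal_eq_top (P : Sylow p G) (hP : ¬ (P : Subgroup G).Normal)
    (hsub : ∀ H : Subgroup G, H ≠ ⊤ → Cfsg.IsPClosed p ↥H)
    (hquo : ∀ (N : Subgroup G) [N.Normal], N ≠ ⊥ → Cfsg.IsPClosed p (G ⧸ N))
    (N : Subgroup G) [N.Normal] (hN : N ≠ ⊥) : (P : Subgroup G) ⊔ N = ⊤ := by
  by_contra hne
  have hHn : ((P : Subgroup G) ⊔ N).Normal := by
    have h1 : ((P.mapSurjective (QuotientGroup.mk'_surjective N) : Sylow p (G ⧸ N)) :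
        Subgroup (G ⧸ N)).Normal := hquo N hN _
    rw [Sylow.coe_mapSurjective] at h1
    have h2 := h1.comap (QuotientGroup.mk' N)
    rwa [Subgroup.comap_map_eq, QuotientGroup.ker_mk'] at h2
  have hPH : (P : Subgroup G) ≤ (P : Subgroup G) ⊔ N := le_sup_left
  have hS : ((P.subtype hPH : Sylow p ↥((P : Subgroup G) ⊔ N)) :
      Subgroup ↥((P : Subgroup G) ⊔ N)).Normal := hsub _ hne _
  haveI := Sylow.characteristic_of_normal (P.subtype hPH) hS
  haveI := hHn
  have h3 := ConjAct.normal_of_characteristic_of_normal (H := (P : Subgroup G) ⊔ N)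
    (K := ((P.subtype hPH : Sylow p ↥((P : Subgroup G) ⊔ N)) : Subgroup ↥((P : Subgroup G) ⊔ N)))
  rw [Sylow.coe_subtype, Subgroup.map_subgroupOf_eq_of_le hPH] at h3
  exact hP h3

theorem coprime_card_of_normal (P : Sylow p G) (hP : ¬ (P : Subgroup G).Normal)
    (hsub : ∀ H : Subgroup G, H ≠ ⊤ → Cfsg.IsPClosed p ↥H)
    (hquo : ∀ (N : Subgroup G) [N.Normal], N ≠ ⊥ → Cfsg.IsPClosed p (G ⧸ N))
    (N : Subgroup G) [N.Normal] (hN' : N ≠ ⊤) : (Nat.card ↥N).Coprime p := by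
  have hpp : p.Prime := Fact.out
  let Q₀ : Sylow p ↥N := default
  have hQ₀ : (Q₀ : Subgroup ↥N).Normal := hsub N hN' Q₀
  haveI := Sylow.characteristic_of_normal Q₀ hQ₀
  have hQn : ((Q₀ : Subgroup ↥N).map N.subtype).Normal :=
    ConjAct.normal_of_characteristic_of_normal
  have hQp : IsPGroup p ↥((Q₀ : Subgroup ↥N).map N.subtype) := Q₀.isPGroup'.map N.subtype
  by_cases hQb : (Q₀ : Subgroup ↥N).map N.subtype = ⊥
  · have h1 : (Q₀ : Subgroup ↥N) = ⊥ := by
      rwa [Subgroup.map_eq_bot_iff_of_injective _ N.subtype_injective] at hQb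
    have hnd : ¬ p ∣ Nat.card ↥N := fun hd => Q₀.ne_bot_of_dvd_card hd h1
    exact ((Nat.Prime.coprime_iff_not_dvd hpp).mpr hnd).symm
  · exfalso
    haveI := hQn
    have h1 := sup_normal_eq_top P hP hsub hquo _ hQb
    have h2 : (Q₀ : Subgroup ↥N).map N.subtype ≤ (P : Subgroup G) := hQp.le_sylow_of_normal P
    rw [sup_eq_left.mpr h2] at h1
    apply hP
    rw [h1]
    infer_instance

theorem inf_normal_eq_bot (P : Sylow p G) (hP : ¬ (P : Subgroup G).Normal)
    (hsub : ∀ H : Subgroup G, H ≠ ⊤ → Cfsg.IsPClosed p ↥H)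
    (hquo : ∀ (N : Subgroup G) [N.Normal], N ≠ ⊥ → Cfsg.IsPClosed p (G ⧸ N))
    (N : Subgroup G) [N.Normal] (hN' : N ≠ ⊤) : (P : Subgroup G) ⊓ N = ⊥ := by
  have hc := coprime_card_of_normal P hP hsub hquo N hN'
  obtain ⟨k, hk⟩ := IsPGroup.iff_card.mp P.isPGroup'
  apply (Subgroup.disjoint_of_coprime_natCard _).eq_bot
  rw [hk]
  exact Nat.Coprime.pow_left k hc.symm

theorem isComplement_of_normal (P : Sylow p G) (hP : ¬ (P : Subgroup G).Normal)
    (hsub : ∀ H : Subgroup G, H ≠ ⊤ → Cfsg.IsPClosed p ↥H)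
    (hquo : ∀ (N : Subgroup G) [N.Normal], N ≠ ⊥ → Cfsg.IsPClosed p (G ⧸ N))
    (N : Subgroup G) [N.Normal] (hN : N ≠ ⊥) (hN' : N ≠ ⊤) :
    (P : Subgroup G).IsComplement' N := by
  apply Subgroup.isComplement'_of_disjoint_and_mul_eq_univ
  · rw [disjoint_iff]
    exact inf_normal_eq_bot P hP hsub hquo N hN'
  · rw [← Subgroup.mul_normal, sup_normal_eq_top P hP hsub hquo N hN]
    rfl

theorem eq_one_of_coprime_order {N : Subgroup G} (hc : (Nat.card ↥N).Coprime p) {x : G}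
    (hxN : x ∈ N) {k : ℕ} (hk : orderOf x = p ^ k) : x = 1 := by
  have h1 : orderOf x ∣ Nat.card ↥N := N.orderOf_dvd_natCard hxN
  have h2 : (orderOf x).Coprime (Nat.card ↥N) := by
    rw [hk]
    exact Nat.Coprime.pow_left k hc.symm
  have h3 := Nat.Coprime.eq_one_of_dvd h2 h1
  exact orderOf_eq_one_iff.mp h3

theorem proper_sub_centralizes (P : Sylow p G) (hP : ¬ (P : Subgroup G).Normal)
    (hsub : ∀ H : Subgroup G, H ≠ ⊤ → Cfsg.IsPClosed p ↥H)
    (hquo : ∀ (N : Subgroup G) [N.Normal], N ≠ ⊥ → Cfsg.IsPClosed p (G ⧸ N))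
    (N : Subgroup G) [N.Normal] (hN' : N ≠ ⊤)
    (P₀ : Subgroup G) (hle : P₀ ≤ (P : Subgroup G)) (hne : P₀ ≠ (P : Subgroup G)) :
    ∀ n ∈ N, ∀ y ∈ P₀, n * y = y * n := by
  have hc := coprime_card_of_normal P hP hsub hquo N hN'
  have hinf := inf_normal_eq_bot P hP hsub hquo N hN'
  have hH₀ne : N ⊔ P₀ ≠ ⊤ := by
    intro htop
    apply hne
    apply le_antisymm hle
    intro g hg
    have hgH : g ∈ N ⊔ P₀ := by rw [htop]; trivial
    rw [← SetLike.mem_coe, Subgroup.normal_mul] at hgH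
    obtain ⟨n, hn, h, hh, rfl⟩ := Set.mem_mul.mp hgH
    have hnP : n ∈ (P : Subgroup G) := by
      have h1 := (P : Subgroup G).mul_mem hg ((P : Subgroup G).inv_mem (hle hh))
      simpa using h1
    have h2 : n ∈ (P : Subgroup G) ⊓ N := ⟨hnP, hn⟩
    rw [hinf, Subgroup.mem_bot] at h2
    rw [h2, one_mul]
    exact hh
  have hcl := hsub _ hH₀ne
  have hP₀H : P₀ ≤ N ⊔ P₀ := le_sup_right
  have hNH : N ≤ N ⊔ P₀ := le_sup_left
  have hp0 : IsPGroup p ↥(P₀.subgroupOf (N ⊔ P₀)) :=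
    (P.isPGroup'.to_le hle).of_equiv (Subgroup.subgroupOfEquivOfLe hP₀H).symm
  obtain ⟨S, hS⟩ := hp0.exists_le_sylow
  have hSn : (S : Subgroup ↥(N ⊔ P₀)).Normal := hcl S
  intro n hn y hy
  have hyS : (⟨y, hP₀H hy⟩ : ↥(N ⊔ P₀)) ∈ (S : Subgroup ↥(N ⊔ P₀)) :=
    hS (by rw [Subgroup.mem_subgroupOf]; exact hy)
  have hcS : (⟨n, hNH hn⟩ : ↥(N ⊔ P₀)) * ⟨y, hP₀H hy⟩ * (⟨n, hNH hn⟩ : ↥(N ⊔ P₀))⁻¹ *
      (⟨y, hP₀H hy⟩ : ↥(N ⊔ P₀))⁻¹ ∈ (S : Subgroup ↥(N ⊔ P₀)) :=
    (S : Subgroup ↥(N ⊔ P₀)).mul_mem (hSn.conj_mem _ hyS _) ((S : Subgroup ↥(N ⊔ P₀)).inv_mem hyS)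
  obtain ⟨k, hk⟩ := (IsPGroup.iff_orderOf.mp S.isPGroup') ⟨_, hcS⟩
  rw [← Subgroup.orderOf_coe, ← Subgroup.orderOf_coe] at hk
  have hcN : n * y * n⁻¹ * y⁻¹ ∈ N := by
    have h4 : y * n⁻¹ * y⁻¹ ∈ N := (inferInstance : N.Normal).conj_mem _ (N.inv_mem hn) y
    have h5 := N.mul_mem hn h4
    simpa [mul_assoc] using h5
  have h6 : n * y * n⁻¹ * y⁻¹ = 1 := eq_one_of_coprime_order hc hcN hk
  calc n * y = n * y * n⁻¹ * y⁻¹ * (y * n) := by group
    _ = y * n := by rw [h6, one_mul]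

theorem proper_sub_eq_bot (P : Sylow p G) (hP : ¬ (P : Subgroup G).Normal)
    (hsub : ∀ H : Subgroup G, H ≠ ⊤ → Cfsg.IsPClosed p ↥H)
    (hquo : ∀ (N : Subgroup G) [N.Normal], N ≠ ⊥ → Cfsg.IsPClosed p (G ⧸ N))
    (N : Subgroup G) [N.Normal] (hN : N ≠ ⊥) (hN' : N ≠ ⊤)
    (P₀ : Subgroup G) (hle : P₀ ≤ (P : Subgroup G)) (hne : P₀ ≠ (P : Subgroup G)) :
    P₀ = ⊥ := by
  have hCn : ((P : Subgroup G) ⊓ Subgroup.centralizer (N : Set G)).Normal := by
    constructor
    intro c hc g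
    have hg : g ∈ (P : Subgroup G) ⊔ N := by
      rw [sup_normal_eq_top P hP hsub hquo N hN]; trivial
    rw [← SetLike.mem_coe, Subgroup.mul_normal] at hg
    obtain ⟨y, hy, n, hn, rfl⟩ := Set.mem_mul.mp hg
    have hcn : n * c = c * n := (Subgroup.mem_centralizer_iff.mp hc.2) n hn
    have e : y * n * c * (y * n)⁻¹ = y * c * y⁻¹ := by
      rw [mul_assoc y n c, hcn]
      group
    rw [e]
    refine ⟨(P : Subgroup G).mul_mem ((P : Subgroup G).mul_mem hy hc.1)
      ((P : Subgroup G).inv_mem hy), ?_⟩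
    exact (Subgroup.normal_centralizer (H := N)).conj_mem c hc.2 y
  have hCb : (P : Subgroup G) ⊓ Subgroup.centralizer (N : Set G) = ⊥ := by
    by_contra hCb
    haveI := hCn
    have h1 := sup_normal_eq_top P hP hsub hquo _ hCb
    rw [sup_eq_left.mpr inf_le_left] at h1
    apply hP
    rw [h1]
    infer_instance
  have hcent := proper_sub_centralizes P hP hsub hquo N hN' P₀ hle hne
  rw [eq_bot_iff, ← hCb]
  intro y hy
  exact ⟨hle hy, Subgroup.mem_centralizer_iff.mpr (fun n hn => hcent n hn y hy)⟩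

theorem card_sylow_eq (P : Sylow p G) (hP : ¬ (P : Subgroup G).Normal)
    (hsub : ∀ H : Subgroup G, H ≠ ⊤ → Cfsg.IsPClosed p ↥H)
    (hquo : ∀ (N : Subgroup G) [N.Normal], N ≠ ⊥ → Cfsg.IsPClosed p (G ⧸ N))
    (N : Subgroup G) [N.Normal] (hN : N ≠ ⊥) (hN' : N ≠ ⊤) :
    Nat.card ↥(P : Subgroup G) = p := by
  have hPb : (P : Subgroup G) ≠ ⊥ := by
    intro h
    apply hP
    rw [h]
    infer_instance
  obtain ⟨k, hk⟩ := IsPGroup.iff_card.mp P.isPGroup'
  have hk0 : k ≠ 0 := by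
    rintro rfl
    rw [pow_zero] at hk
    exact hPb (Subgroup.card_eq_one.mp hk)
  have hdvd : p ∣ Nat.card ↥(P : Subgroup G) := by
    rw [hk]
    exact dvd_pow_self p hk0
  obtain ⟨x, hx⟩ := exists_prime_orderOf_dvd_card' p hdvd
  have hz : Subgroup.zpowers (x : G) = (P : Subgroup G) := by
    by_contra hne
    have h1 := proper_sub_eq_bot P hP hsub hquo N hN hN' (Subgroup.zpowers (x : G))
      (Subgroup.zpowers_le.mpr x.2) hne
    rw [Subgroup.zpowers_eq_bot] at h1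
    rw [← Subgroup.orderOf_coe, h1, orderOf_one] at hx
    exact (Fact.out : p.Prime).one_lt.ne hx
  rw [← hz, Nat.card_zpowers, Subgroup.orderOf_coe, hx]

theorem index_normal_eq (P : Sylow p G) (hP : ¬ (P : Subgroup G).Normal)
    (hsub : ∀ H : Subgroup G, H ≠ ⊤ → Cfsg.IsPClosed p ↥H)
    (hquo : ∀ (N : Subgroup G) [N.Normal], N ≠ ⊥ → Cfsg.IsPClosed p (G ⧸ N))
    (N : Subgroup G) [N.Normal] (hN : N ≠ ⊥) (hN' : N ≠ ⊤) : N.index = p := by
  rw [(isComplement_of_normal P hP hsub hquo N hN hN').index_eq_card,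
    card_sylow_eq P hP hsub hquo N hN hN']

theorem normal_le_eq (P : Sylow p G) (hP : ¬ (P : Subgroup G).Normal)
    (hsub : ∀ H : Subgroup G, H ≠ ⊤ → Cfsg.IsPClosed p ↥H)
    (hquo : ∀ (N : Subgroup G) [N.Normal], N ≠ ⊥ → Cfsg.IsPClosed p (G ⧸ N))
    (N : Subgroup G) [N.Normal] (hN : N ≠ ⊥) (hN' : N ≠ ⊤)
    (B : Subgroup G) (hBn : B.Normal) (hBN : B ≤ N) : B = ⊥ ∨ B = N := by
  by_cases hB : B = ⊥
  · left
    exact hB
  · right
    have hB' : B ≠ ⊤ := by
      rintro rfl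
      exact hN' (top_le_iff.mp hBN)
    haveI := hBn
    have h1 := index_normal_eq P hP hsub hquo B hB hB'
    have h2 := index_normal_eq P hP hsub hquo N hN hN'
    apply Subgroup.eq_of_le_of_card_ge hBN
    have h3 := Subgroup.card_mul_index B
    have h4 := Subgroup.card_mul_index N
    rw [h1] at h3
    rw [h2] at h4
    have h5 : Nat.card ↥B * p = Nat.card ↥N * p := by rw [h3, h4]
    exact (Nat.eq_of_mul_eq_mul_right (Fact.out : p.Prime).pos h5).ge

theorem exists_prime_isPGroup (P : Sylow p G) (hP : ¬ (P : Subgroup G).Normal)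
    (hsub : ∀ H : Subgroup G, H ≠ ⊤ → Cfsg.IsPClosed p ↥H)
    (hquo : ∀ (N : Subgroup G) [N.Normal], N ≠ ⊥ → Cfsg.IsPClosed p (G ⧸ N))
    (N : Subgroup G) [N.Normal] (hN : N ≠ ⊥) (hN' : N ≠ ⊤) :
    ∃ q : ℕ, q.Prime ∧ q ≠ p ∧ IsPGroup q ↥N := by
  have hpp : p.Prime := Fact.out
  have hc := coprime_card_of_normal P hP hsub hquo N hN'
  have hinf := inf_normal_eq_bot P hP hsub hquo N hN'
  have hidx := index_normal_eq P hP hsub hquo N hN hN'
  have hcardG : Nat.card G = Nat.card ↥N * p := by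
    rw [← hidx]
    exact (Subgroup.card_mul_index N).symm
  have hNpos : Nat.card ↥N ≠ 0 := Nat.card_pos.ne'
  by_contra hcon
  push Not at hcon
  have key : ∀ q : ℕ, q.Prime → q ∣ Nat.card ↥N →
      q ^ (Nat.card ↥N).factorization q ∣
        Nat.card ↥(N ⊓ Subgroup.centralizer ((P : Subgroup G) : Set G)) := by
    intro q hq hqN
    haveI : Fact q.Prime := ⟨hq⟩
    have hqp : q ≠ p := by
      rintro rfl
      exact (Nat.Prime.coprime_iff_not_dvd hq).mp hc.symm hqN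
    have hfac : (Nat.card G).factorization q = (Nat.card ↥N).factorization q := by
      rw [hcardG, Nat.factorization_mul hNpos hpp.ne_zero, Nat.Prime.factorization hpp]
      simp [hqp.symm]
    let Q₀ : Sylow q ↥N := default
    have hfr := Sylow.normalizer_sup_eq_top Q₀
    have hQ₁card : Nat.card ↥((Q₀ : Subgroup ↥N).map N.subtype) =
        q ^ (Nat.card G).factorization q := by
      rw [Subgroup.card_map_of_injective N.subtype_injective, Sylow.card_eq_multiplicity, hfac]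
    let Q₂ : Sylow q G := Sylow.ofCard _ hQ₁card
    have hQ₂ : (Q₂ : Subgroup G) = (Q₀ : Subgroup ↥N).map N.subtype := Sylow.coe_ofCard _ _
    have hnd : ¬ p ∣ Nat.card (Sylow q G) := by
      rw [Sylow.card_eq_index_normalizer Q₂]
      have e : Subgroup.normalizer (Q₂ : Set G) =
          Subgroup.normalizer (((Q₀ : Subgroup ↥N).map N.subtype : Subgroup G) : Set G) :=
        congrArg (fun H : Subgroup G => Subgroup.normalizer (H : Set G)) hQ₂
      rw [e]
      have h1 : N.relIndex (Subgroup.normalizer (((Q₀ : Subgroup ↥N).map N.subtype : Subgroup G) : Set G)) = p := by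
        rw [← Subgroup.relIndex_sup_right _ N, hfr, Subgroup.relIndex_top_right, hidx]
      have h2 : p ∣ Nat.card ↥(Subgroup.normalizer (((Q₀ : Subgroup ↥N).map N.subtype : Subgroup G) : Set G)) := by
        rw [← h1]
        exact Subgroup.relIndex_dvd_card N _
      intro h3
      have h4 : p * p ∣ Nat.card G := by
        rw [← Subgroup.card_mul_index (Subgroup.normalizer (((Q₀ : Subgroup ↥N).map N.subtype : Subgroup G) : Set G))]
        exact Nat.mul_dvd_mul h2 h3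
      rw [hcardG] at h4
      have h5 : p ∣ Nat.card ↥N := (Nat.mul_dvd_mul_iff_right hpp.pos).mp h4
      exact (Nat.Prime.coprime_iff_not_dvd hpp).mp hc.symm h5
    have hmod := P.isPGroup'.card_modEq_card_fixedPoints (Sylow q G)
    have hfix : (MulAction.fixedPoints ↥(P : Subgroup G) (Sylow q G)).Nonempty := by
      by_contra hempty
      rw [Set.not_nonempty_iff_eq_empty] at hempty
      rw [hempty] at hmod
      have h0 : Nat.card (∅ : Set (Sylow q G)) = 0 := by simp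
      rw [h0] at hmod
      exact hnd ((Nat.modEq_zero_iff_dvd).mp hmod)
    obtain ⟨Q, hQfix⟩ := hfix
    rw [Subgroup.sylow_mem_fixedPoints_iff] at hQfix
    have hQN : (Q : Subgroup G) ≤ N := by
      intro x hx
      rw [← QuotientGroup.eq_one_iff]
      obtain ⟨k, hk⟩ := (IsPGroup.iff_orderOf.mp Q.isPGroup') ⟨x, hx⟩
      rw [← Subgroup.orderOf_coe] at hk
      have h1 : orderOf (x : G ⧸ N) ∣ q ^ k := by
        rw [← hk]
        exact orderOf_dvd_of_pow_eq_one (by rw [← QuotientGroup.mk_pow, pow_orderOf_eq_one]; rfl)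
      have h2 : orderOf (x : G ⧸ N) ∣ p := by
        have h3 : Nat.card (G ⧸ N) = p := by rw [← Subgroup.index_eq_card, hidx]
        rw [← h3]
        exact orderOf_dvd_natCard _
      have h4 : (q ^ k).Coprime p :=
        Nat.Coprime.pow_left k ((Nat.coprime_primes hq hpp).mpr hqp)
      have h5 : orderOf (x : G ⧸ N) = 1 :=
        Nat.eq_one_of_dvd_coprimes h4 h1 h2
      exact orderOf_eq_one_iff.mp h5
    by_cases hQn : (Q : Subgroup G).Normal
    · exfalso
      have hQb : (Q : Subgroup G) ≠ ⊥ := by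
        apply Q.ne_bot_of_dvd_card
        rw [hcardG]
        exact Dvd.dvd.mul_right hqN p
      rcases normal_le_eq P hP hsub hquo N hN hN' Q hQn hQN with h | h
      · exact hQb h
      · apply hcon q hq hqp
        rw [← h]
        exact Q.isPGroup'
    · have hle : (Q : Subgroup G) ⊔ (P : Subgroup G) ≤
          Subgroup.normalizer ((Q : Subgroup G) : Set G) := sup_le Subgroup.le_normalizer hQfix
      have hne : (Q : Subgroup G) ⊔ (P : Subgroup G) ≠ ⊤ := by
        intro h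
        rw [h, top_le_iff, Subgroup.normalizer_eq_top_iff] at hle
        exact hQn hle
      have hnorm := pclosed_le_normalizer _ (hsub _ hne) P le_sup_right
      have hQD : (Q : Subgroup G) ≤ N ⊓ Subgroup.centralizer ((P : Subgroup G) : Set G) := by
        intro a ha
        refine ⟨hQN ha, ?_⟩
        apply Subgroup.mem_centralizer_iff.mpr
        intro x hx
        have haN : a ∈ Subgroup.normalizer ((P : Subgroup G) : Set G) :=
          hnorm ((le_sup_left : (Q : Subgroup G) ≤ (Q : Subgroup G) ⊔ (P : Subgroup G)) ha)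
        have h1 : a * x * a⁻¹ ∈ (P : Subgroup G) := (Subgroup.mem_normalizer_iff.mp haN x).mp hx
        have h2 : a * x * a⁻¹ * x⁻¹ ∈ (P : Subgroup G) :=
          (P : Subgroup G).mul_mem h1 ((P : Subgroup G).inv_mem hx)
        have h3 : a * x * a⁻¹ * x⁻¹ ∈ N := by
          have h4 : x * a⁻¹ * x⁻¹ ∈ N :=
            (inferInstance : N.Normal).conj_mem _ (N.inv_mem (hQN ha)) x
          have h5 := N.mul_mem (hQN ha) h4
          simpa [mul_assoc] using h5
        have h5 : a * x * a⁻¹ * x⁻¹ ∈ (P : Subgroup G) ⊓ N := ⟨h2, h3⟩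
        rw [hinf, Subgroup.mem_bot] at h5
        calc x * a = (a * x * a⁻¹ * x⁻¹)⁻¹ * (a * x) := by group
          _ = a * x := by rw [h5, inv_one, one_mul]
      have hcardQ : Nat.card ↥(Q : Subgroup G) = q ^ (Nat.card ↥N).factorization q := by
        rw [Sylow.card_eq_multiplicity, hfac]
      rw [← hcardQ]
      exact Subgroup.card_dvd_of_le hQD
  have hND : Nat.card ↥N ∣ Nat.card ↥(N ⊓ Subgroup.centralizer ((P : Subgroup G) : Set G)) := by
    rw [← Nat.factorization_prime_le_iff_dvd hNpos Nat.card_pos.ne']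
    intro q hq
    by_cases hqN : q ∣ Nat.card ↥N
    · exact (Nat.Prime.pow_dvd_iff_le_factorization hq Nat.card_pos.ne').mp (key q hq hqN)
    · rw [Nat.factorization_eq_zero_of_not_dvd hqN]
      exact Nat.zero_le _
  have hDN : N ⊓ Subgroup.centralizer ((P : Subgroup G) : Set G) = N :=
    Subgroup.eq_of_le_of_card_ge inf_le_left (Nat.le_of_dvd Nat.card_pos hND)
  apply hP
  rw [← Subgroup.normalizer_eq_top_iff, eq_top_iff, ← sup_normal_eq_top P hP hsub hquo N hN]
  apply sup_le Subgroup.le_normalizer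
  intro n hn
  have hnD : n ∈ N ⊓ Subgroup.centralizer ((P : Subgroup G) : Set G) := by rw [hDN]; exact hn
  have hcen := Subgroup.mem_centralizer_iff.mp hnD.2
  rw [Subgroup.mem_normalizer_iff]
  intro x
  constructor
  · intro hx
    have h1 : n * x * n⁻¹ = x := by rw [← hcen x hx, mul_inv_cancel_right]
    rw [h1]
    exact hx
  · intro hx
    have h1 := hcen _ hx
    have h2 : n * x = n * (n * x * n⁻¹) := by
      rw [← h1]
      group
    have h3 : x = n * x * n⁻¹ := mul_left_cancel h2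
    rw [h3]
    exact hx

end MinNonPClosed

end Cfsg.Agent.Lib.Helper69
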