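import Mathlib
import Cfsg.Agent.Lib.Helper25.StDefs

/-!
# Right-handed cell multiplication in a group with a `(B, N)`-pair

Piece P3 ("BNR") of the Steinberg character project: the right-handed versions of the
cell multiplication lemmas of `Helper8.BN2`, obtained by inversion, the multiplication of cells
whose lengths add, and the multiplication of a cell by a parabolic subgroup.
-/

set_option autoImplicit false

namespace Cfsg.Agent.Lib.Helper25

open Cfsg Cfsg.Agent.Lib.Helper8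

section CoxAux

variable {W : Type*} [Group W]

theorem bnr_len_inv_le {S : Set W} (h : InvGen S) (w : W) : len S w⁻¹ ≤ len S w := by
  obtain ⟨L, hL, hprod, hlen⟩ := h.exists_reduced w
  have h1 : L.reverse.prod = w⁻¹ := by
    rw [prod_reverse_of_sq h.sq L hL, hprod]
  have h2 := len_le (S := S) (L := L.reverse) (by
    intro x hx
    exact hL x (List.mem_reverse.1 hx))
  rw [h1, List.length_reverse, hlen] at h2
  exact h2

theorem bnr_len_inv {S : Set W} (h : InvGen S) (w : W) : len S w⁻¹ = len S w := by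
  refine le_antisymm (bnr_len_inv_le h w) ?_
  have := bnr_len_inv_le h w⁻¹
  rwa [inv_inv] at this

theorem bnr_len_mul_le {S : Set W} (h : InvGen S) (a b : W) :
    len S (a * b) ≤ len S a + len S b := by
  obtain ⟨L₁, hL₁, hp₁, hl₁⟩ := h.exists_reduced a
  obtain ⟨L₂, hL₂, hp₂, hl₂⟩ := h.exists_reduced b
  have h2 := len_le (S := S) (L := L₁ ++ L₂) (by
    intro x hx
    rcases List.mem_append.1 hx with hx | hx
    · exact hL₁ x hx
    · exact hL₂ x hx)
  rw [List.prod_append, hp₁, hp₂, List.length_append, hl₁, hl₂] at h2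
  exact h2

end CoxAux

section BNR

variable {G : Type*} [Group G]

theorem bnr_cl_sN_inv (P : BNPair G) {σ : G} (hσ : σ ∈ P.S) :
    (cl P (sN P hσ))⁻¹ = cl P (sN P hσ) :=
  inv_eq_of_mul_eq_one_left (cl_sN_sq P hσ)

/-- `ℓ((n σ)⁻¹)` in terms of `σ n⁻¹` -/
theorem bnr_len_flip (P : BNPair G) {σ : G} (hσ : σ ∈ P.S) (n : P.N) :
    len (SW P) (cl P (sN P hσ * n⁻¹)) = len (SW P) (cl P n * cl P (sN P hσ)) := by
  have e : cl P (sN P hσ * n⁻¹) = (cl P n * cl P (sN P hσ))⁻¹ := by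
    rw [cl_mul, cl_inv, mul_inv_rev, bnr_cl_sN_inv P hσ]
  rw [e, bnr_len_inv (SW_invGen P)]

theorem bnr_len_cl_inv (P : BNPair G) (n : P.N) :
    len (SW P) (cl P n⁻¹) = len (SW P) (cl P n) := by
  rw [cl_inv, bnr_len_inv (SW_invGen P)]

theorem bnr_dc_mul_sigma (P : BNPair G) {σ : G} (hσ : σ ∈ P.S) (g : G) :
    dc P (g * σ⁻¹) = dc P (g * σ) := by
  have e : g * σ⁻¹ = g * σ * (σ * σ)⁻¹ := by group
  rw [e, dc_mul_right (S_sq_inv_mem P hσ)]

theorem dc_mul_right_of_lt (P : BNPair G) {σ : G} (hσ : σ ∈ P.S) (n : P.N)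
    (hlt : len (SW P) (cl P n) < len (SW P) (cl P n * cl P (sN P hσ))) {b : G} (hb : b ∈ P.B) :
    (n : G) * b * σ ∈ dc P ((n : G) * σ) := by
  have hle : len (SW P) (cl P n⁻¹) ≤ len (SW P) (cl P (sN P hσ * n⁻¹)) := by
    rw [bnr_len_flip P hσ n, bnr_len_cl_inv P n]
    exact hlt.le
  have h1 := dc_mul_of_le P hσ n⁻¹ hle (P.B.inv_mem hb)
  have h2 := dc_inv_mem h1
  have e1 : (σ * b⁻¹ * ((n⁻¹ : P.N) : G))⁻¹ = (n : G) * b * σ⁻¹ := by
    rw [Subgroup.coe_inv]; group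
  have e2 : (σ * ((n⁻¹ : P.N) : G))⁻¹ = (n : G) * σ⁻¹ := by
    rw [Subgroup.coe_inv]; group
  rw [e1, e2, bnr_dc_mul_sigma P hσ] at h2
  have h3 := dc_mul_right_mem (P.sq_mem σ hσ) h2
  have e3 : (n : G) * b * σ⁻¹ * (σ * σ) = (n : G) * b * σ := by group
  rwa [e3] at h3

theorem exists_mem_dc_right_of_lt (P : BNPair G) {σ : G} (hσ : σ ∈ P.S) (n : P.N)
    (hlt : len (SW P) (cl P n * cl P (sN P hσ)) < len (SW P) (cl P n)) :
    ∃ b ∈ P.B, (n : G) * b * σ ∈ dc P (n : G) := by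
  have hle : len (SW P) (cl P (sN P hσ * n⁻¹)) ≤ len (SW P) (cl P n⁻¹) := by
    rw [bnr_len_flip P hσ n, bnr_len_cl_inv P n]
    exact hlt.le
  obtain ⟨b, hb, h1⟩ := exists_mem_dc_of_le P hσ n⁻¹ hle
  refine ⟨b⁻¹, P.B.inv_mem hb, ?_⟩
  have h2 := dc_inv_mem h1
  have e1 : (σ * b * ((n⁻¹ : P.N) : G))⁻¹ = (n : G) * b⁻¹ * σ⁻¹ := by
    rw [Subgroup.coe_inv]; group
  have e2 : (((n⁻¹ : P.N) : G))⁻¹ = (n : G) := by
    rw [Subgroup.coe_inv, inv_inv]
  rw [e1, e2] at h2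
  have h3 := dc_mul_right_mem (P.sq_mem σ hσ) h2
  have e3 : (n : G) * b⁻¹ * σ⁻¹ * (σ * σ) = (n : G) * b⁻¹ * σ := by group
  rwa [e3] at h3

theorem bnr_dc_mul_of_len_add_aux (P : BNPair G) : ∀ (k : ℕ) (n m : P.N),
    len (SW P) (cl P m) = k →
    len (SW P) (cl P n * cl P m) = len (SW P) (cl P n) + len (SW P) (cl P m) →
    ∀ b ∈ P.B, (n : G) * b * (m : G) ∈ dc P ((n : G) * (m : G)) := by
  intro k
  induction k with
  | zero =>
    intro n m hk _ b hb
    have hm1 : cl P m = 1 := (SW_invGen P).len_eq_zero hk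
    have hmB : (m : G) ∈ P.B := cl_eq_one_iff.1 hm1
    rw [dc_mul_right hmB]
    exact mem_dc.2 ⟨1, P.B.one_mem, b * (m : G), P.B.mul_mem hb hmB, by group⟩
  | succ k ih =>
    intro n m hk hadd b hb
    have hm1 : cl P m ≠ 1 := by
      intro h
      rw [h, len_one] at hk
      exact absurd hk (by omega)
    obtain ⟨s, hs, hdesc⟩ := (SW_invGen P).exists_left_descent hm1
    obtain ⟨σ, hσ, rfl⟩ := hs
    -- `m' = σ⁻¹ m`
    set m' : P.N := (sN P hσ)⁻¹ * m with hm'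
    have hclm' : cl P m' = cl P (sN P hσ) * cl P m := by
      rw [hm', cl_mul, cl_inv, bnr_cl_sN_inv P hσ]
    have hlenm' : len (SW P) (cl P m') = k := by
      rw [hclm']; omega
    have hmG : (m : G) = σ * (m' : G) := by
      rw [hm']
      show (m : G) = σ * (σ⁻¹ * (m : G))
      group
    -- lengths
    have hsplit : cl P n * cl P m = (cl P n * cl P (sN P hσ)) * cl P m' := by
      rw [hclm', mul_assoc, ← mul_assoc (cl P (sN P hσ)), cl_sN_sq P hσ, one_mul]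
    have htri := bnr_len_mul_le (SW_invGen P) (cl P n * cl P (sN P hσ)) (cl P m')
    rw [← hsplit, hadd, hk, hlenm'] at htri
    have hup := (SW_invGen P).len_mul_right_le (mem_SW P hσ) (cl P n)
    have hlt : len (SW P) (cl P n) < len (SW P) (cl P n * cl P (sN P hσ)) := by omega
    have hadd' : len (SW P) (cl P (n * sN P hσ) * cl P m') =
        len (SW P) (cl P (n * sN P hσ)) + len (SW P) (cl P m') := by
      rw [cl_mul, ← hsplit, hadd, hk, hlenm']
      omega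
    obtain ⟨b₁, hb₁, b₂, hb₂, heq⟩ := mem_dc.1 (dc_mul_right_of_lt P hσ n hlt hb)
    have h2 := ih (n * sN P hσ) m' hlenm' hadd' b₂ hb₂
    have e1 : (n : G) * b * (m : G) = b₁ * (((n * sN P hσ : P.N) : G) * b₂ * (m' : G)) := by
      rw [hmG]
      show (n : G) * b * (σ * (m' : G)) = b₁ * ((n : G) * σ * b₂ * (m' : G))
      have : (n : G) * b * (σ * (m' : G)) = ((n : G) * b * σ) * (m' : G) := by group
      rw [this, heq]
      group
    have e2 : (n : G) * (m : G) = ((n * sN P hσ : P.N) : G) * (m' : G) := by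
      rw [hmG]
      show (n : G) * (σ * (m' : G)) = (n : G) * σ * (m' : G)
      group
    rw [e1, e2]
    exact dc_mul_left_mem hb₁ h2

theorem dc_mul_of_len_add (P : BNPair G) (n m : P.N)
    (h : len (SW P) (cl P n * cl P m) = len (SW P) (cl P n) + len (SW P) (cl P m)) {b : G}
    (hb : b ∈ P.B) : (n : G) * b * (m : G) ∈ dc P ((n : G) * (m : G)) :=
  bnr_dc_mul_of_len_add_aux P _ n m rfl h b hb

theorem bnr_cell_mul_closure (P : BNPair G) {J : Set G} (hJ : J ⊆ P.S) {k : G}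
    (hk : k ∈ Subgroup.closure J) :
    ∀ n' : G, n' ∈ P.N → ∀ h ∈ dc P n', ∃ m ∈ Subgroup.closure J, h * k ∈ dc P (n' * m) := by
  induction hk using Subgroup.closure_induction'' with
  | mem s hs =>
    intro n' hn' h hh
    rcases T3_right P (hJ hs) hn' hh with h1 | h1
    · exact ⟨s, Subgroup.subset_closure hs, h1⟩
    · exact ⟨1, Subgroup.one_mem _, by rwa [mul_one]⟩
  | inv_mem s hs =>
    intro n' hn' h hh
    rcases T3_right_inv P (hJ hs) hn' hh with h1 | h1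
    · exact ⟨s, Subgroup.subset_closure hs, h1⟩
    · exact ⟨1, Subgroup.one_mem _, by rwa [mul_one]⟩
  | one =>
    intro n' _ h hh
    exact ⟨1, Subgroup.one_mem _, by rwa [mul_one, mul_one]⟩
  | mul x y _ _ ihx ihy =>
    intro n' hn' h hh
    obtain ⟨m₁, hm₁, h1⟩ := ihx n' hn' h hh
    obtain ⟨m₂, hm₂, h2⟩ := ihy (n' * m₁) (P.N.mul_mem hn' (closure_S_le_N P hJ hm₁)) _ h1
    refine ⟨m₁ * m₂, Subgroup.mul_mem _ hm₁ hm₂, ?_⟩
    rw [← mul_assoc, ← mul_assoc]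
    exact h2

theorem cell_mul_parabolic (P : BNPair G) {J : Set G} (hJ : J ⊆ P.S) (n : P.N) {g p : G}
    (hg : g ∈ dc P (n : G)) (hp : p ∈ P.parabolic J) :
    ∃ m : P.N, (m : G) ∈ Subgroup.closure J ∧ g * p ∈ dc P ((n : G) * (m : G)) := by
  obtain ⟨k, hk, hpk⟩ := (mem_parabolic_iff P hJ p).1 hp
  obtain ⟨b₁, hb₁, b₂, hb₂, rfl⟩ := mem_dc.1 hpk
  obtain ⟨m, hm, h1⟩ := bnr_cell_mul_closure P hJ hk (n : G) n.2 (g * b₁)
    (dc_mul_right_mem hb₁ hg)
  refine ⟨⟨m, closure_S_le_N P hJ hm⟩, hm, ?_⟩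
  have e : g * (b₁ * k * b₂) = g * b₁ * k * b₂ := by group
  rw [e]
  exact dc_mul_right_mem hb₂ h1

theorem cell_parabolic_mul (P : BNPair G) {J : Set G} (hJ : J ⊆ P.S) (n : P.N) {g p : G}
    (hg : g ∈ dc P (n : G)) (hp : p ∈ P.parabolic J) :
    ∃ m : P.N, (m : G) ∈ Subgroup.closure J ∧ p * g ∈ dc P ((m : G) * (n : G)) := by
  have hg' : g⁻¹ ∈ dc P ((n⁻¹ : P.N) : G) := by
    have := dc_inv_mem hg
    rwa [← Subgroup.coe_inv] at this
  obtain ⟨m, hm, h1⟩ := cell_mul_parabolic P hJ n⁻¹ hg' ((P.parabolic J).inv_mem hp)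
  refine ⟨m⁻¹, ?_, ?_⟩
  · rw [Subgroup.coe_inv]
    exact Subgroup.inv_mem _ hm
  · have h2 := dc_inv_mem h1
    have e1 : (g⁻¹ * p⁻¹)⁻¹ = p * g := by group
    have e2 : (((n⁻¹ : P.N) : G) * (m : G))⁻¹ = ((m⁻¹ : P.N) : G) * (n : G) := by
      rw [Subgroup.coe_inv, Subgroup.coe_inv]; group
    rwa [e1, e2] at h2

end BNR

end Cfsg.Agent.Lib.Helper25
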