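import Mathlib
import Cfsg.Agent.Lib.Helper25.StDefs
import Cfsg.Agent.Lib.Helper75.CoxR

/-!
# Involution classes, piece IF (pure Coxeter combinatorics)

If `w` is an involution of a finite group with an exchange-type generating set `S` such that
every `s ∈ S` is a right descent of `w` or commutes with `w`, then for `x` of maximal length in
the subgroup generated by the (commuting) ascents of `w`, the element `w * x` has no right ascent.
-/

set_option autoImplicit false

namespace Cfsg.Agent.Lib.Helper25

open Cfsg Cfsg.Agent.Lib.Helper8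

/-- IF -/
theorem inv_noRAsc {W : Type*} [Group W] [Finite W] {S : Set W} (h : ExchGen S) (w : W)
    (hw : w * w = 1)
    (hdich : ∀ s ∈ S, len S (w * s) < len S w ∨ s * w = w * s) :
    ∃ x ∈ Subgroup.closure {s | s ∈ S ∧ len S w < len S (s * w)},
      x * w = w * x ∧ NoRAsc S (w * x) := by
  have hwinv : w⁻¹ = w := inv_eq_of_mul_eq_one_right hw
  have ha : ∀ s ∈ S, len S (s * w) = len S (w * s) := by
    intro s hs
    have hsinv : s⁻¹ = s := inv_eq_of_mul_eq_one_right (h.sq s hs)
    have h1 := coxr_len_inv h.toInvGen (s * w)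
    rw [mul_inv_rev, hwinv, hsinv] at h1
    exact h1.symm
  have hKS : {s | s ∈ S ∧ len S w < len S (s * w)} ⊆ S := fun s hs => hs.1
  have hb : ∀ s ∈ {s | s ∈ S ∧ len S w < len S (s * w)}, s * w = w * s := by
    rintro s ⟨hs, hlt⟩
    rcases hdich s hs with h1 | h1
    · rw [← ha s hs] at h1
      omega
    · exact h1
  have hcomm : ∀ x ∈ Subgroup.closure {s | s ∈ S ∧ len S w < len S (s * w)},
      x * w = w * x := by
    intro x hx
    have hle : Subgroup.closure {s | s ∈ S ∧ len S w < len S (s * w)} ≤
        Subgroup.centralizer {w} := by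
      rw [Subgroup.closure_le]
      intro s hs
      rw [SetLike.mem_coe, Subgroup.mem_centralizer_iff]
      intro y hy
      rw [Set.mem_singleton_iff] at hy
      rw [hy]
      exact (hb s hs).symm
    have h1 := Subgroup.mem_centralizer_iff.mp (hle hx) w (Set.mem_singleton w)
    exact h1.symm
  have hrmin : RMin S {s | s ∈ S ∧ len S w < len S (s * w)} w := by
    rintro s ⟨hs, hlt⟩
    rw [← ha s hs]
    exact hlt
  have hadd : ∀ v ∈ Subgroup.closure {s | s ∈ S ∧ len S w < len S (s * w)},
      len S (w * v) = len S w + len S v :=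
    fun v hv => rmin_len_mul h hKS hrmin hv
  obtain ⟨⟨x, hx⟩, hmax⟩ := Finite.exists_max
    (fun x : Subgroup.closure {s | s ∈ S ∧ len S w < len S (s * w)} => len S (x : W))
  refine ⟨x, hx, hcomm x hx, ?_⟩
  intro s hs hlt
  by_cases hsK : len S w < len S (s * w)
  · have hsK' : s ∈ {s | s ∈ S ∧ len S w < len S (s * w)} := ⟨hs, hsK⟩
    have hxs : x * s ∈ Subgroup.closure {s | s ∈ S ∧ len S w < len S (s * w)} :=
      Subgroup.mul_mem _ hx (Subgroup.subset_closure hsK')
    have h1 : len S (x * s) ≤ len S x := hmax ⟨x * s, hxs⟩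
    have h2 := coxr_len_mul_right_ne h hs x
    have h3 := hadd (x * s) hxs
    have h4 := hadd x hx
    rw [mul_assoc] at hlt
    omega
  · have h1 : len S (s * w) < len S w := by
      have h0 := h.len_mul_ne hs w
      omega
    rw [ha s hs] at h1
    have h2 : w * x * s = x * (w * s) := by
      rw [← hcomm x hx, mul_assoc]
    have h3 := coxr_len_mul_le h.toInvGen x (w * s)
    have h4 := hadd x hx
    rw [h2] at hlt
    omega

end Cfsg.Agent.Lib.Helper25
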