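import Mathlib
import Cfsg.Agent.Lib.Helper25.StChev2
import Cfsg.Agent.Lib.Helper25.ChevOrb
import Cfsg.Agent.Lib.Helper25.ChevNConjAll
import Cfsg.Agent.Lib.Helper25.ChevLin

/-!
# Involution classes of Chevalley groups: piece CB

If the Weyl class `w` of `n = h n_v` satisfies `ℓ(w s_i) < ℓ(w)` or `s_i w = w s_i` for the
fundamental reflection `s_i`, then the root `v(p_i)` is negative or equal to `p_i`.
-/

set_option autoImplicit false

namespace Cfsg.Agent.Lib.Helper25

open Cfsg Cfsg.Lie Matrix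
open Cfsg.Agent.Lib.Helper8 Cfsg.Agent.Lib.Helper24

section

variable {F : Type*} [Field F]

/-- The action of `h n_v` on the root elements. -/
theorem cb_act (D : ChevalleyDatum)
    (hD : D ∈ [chevG2, chevB2, chevD4, chevF4, chevE6, chevE7, chevE8])
    (v : List ℕ) (hv : ∀ i ∈ v, i < D.rank)
    (nM : Matrix D.Idx D.Idx F) (h : GL D.Idx F) (hh : h ∈ D.diagonalSubgroup F)
    (hn : nM = (h : Matrix D.Idx D.Idx F) * nWordMat F D v)
    (s : ℕ) (hs : s < D.nroots) :
    ∃ c : F, c ≠ 0 ∧ ∀ t : F, nM * D.x F s t = D.x F (wPi D v s) (c * t) * nM := by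
  have hD' : D ∈ chevList := hD
  obtain ⟨d, hd, hval⟩ := diagonalSubgroup_le_gradedTorus D hD' hh
  have hπ : wPi D v s < D.nroots := wPi_lt D hD v hv s hs
  refine ⟨d (wPi D v s) * ((wEta D v s : ℤ) : F), ?_, fun t => ?_⟩
  · apply mul_ne_zero (mulGraded_ne_zero D d hd _ hπ)
    rcases wEta_cases D v s with h | h <;> rw [h] <;> simp
  · rw [hn, hval, Matrix.mul_assoc, nWordMat_conj D hD v hv s hs t, ← Matrix.mul_assoc,
      torus_mul_x D d hd _ hπ, Matrix.mul_assoc, mul_assoc]

/-- The reflection in `p_i` sends `p_i` to `-p_i`. -/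
theorem cb_reflect_simple (D : ChevalleyDatum) (i : ℕ) :
    D.reflectRoot i (D.simple i) = D.neg (D.simple i) := by
  unfold ChevalleyDatum.reflectRoot
  simp

/-- The matrix core of CB: if `v(p_i)` is positive and `σ_i n = n σ_i k` with `k ∈ H`, then
`v(p_i) = p_i`. -/
theorem cb_core (D : ChevalleyDatum)
    (hD : D ∈ [chevG2, chevB2, chevD4, chevF4, chevE6, chevE7, chevE8])
    (v : List ℕ) (hv : ∀ i ∈ v, i < D.rank)
    (nG σG h : GL D.Idx F) (hh : h ∈ D.diagonalSubgroup F)
    (hnM : (nG : Matrix D.Idx D.Idx F) = (h : Matrix D.Idx D.Idx F) * nWordMat F D v)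
    (i : ℕ) (hi : i < D.rank)
    (hσM : (σG : Matrix D.Idx D.Idx F) = D.nMat F (D.simple i) 1)
    (hpos : D.IsPosRoot (wPi D v (D.simple i)))
    (hkH : (nG * σG)⁻¹ * (σG * nG) ∈ D.diagonalSubgroup F) :
    wPi D v (D.simple i) = D.simple i := by
  have hD' : D ∈ chevList := hD
  have hp : D.simple i < D.nroots := simple_lt D hD' i hi
  have hlt : wPi D v (D.simple i) < D.nroots := wPi_lt D hD v hv _ hp
  have hUB : D.posUnipotent F ≤ D.borelSubgroup F := le_sup_left
  obtain ⟨c, hc0, hact'⟩ := cb_act D hD v hv _ h hh hnM (D.simple i) hp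
  by_contra hne
  obtain ⟨d', hd', hval'⟩ := diagonalSubgroup_le_gradedTorus D hD' hkH
  have hkeq : σG * nG = nG * σG * ((nG * σG)⁻¹ * (σG * nG)) := by group
  have hmat : D.nMat F (D.simple i) 1 * (nG : Matrix D.Idx D.Idx F) =
      (nG : Matrix D.Idx D.Idx F) * D.nMat F (D.simple i) 1 * torus F D d' := by
    have h3 : ((σG * nG : GL D.Idx F) : Matrix D.Idx D.Idx F) =
        ((nG * σG * ((nG * σG)⁻¹ * (σG * nG)) : GL D.Idx F) : Matrix D.Idx D.Idx F) :=
      congrArg Units.val hkeq
    rw [Units.val_mul σG nG, Units.val_mul (nG * σG) _, hval', Units.val_mul nG σG, hσM] at h3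
    exact h3
  have hnp : D.neg (D.simple i) < D.nroots :=
    neg_lt_of_preChk D (preChk_of_mem D hD') _ hp
  obtain ⟨c2, -, hact2⟩ := cb_act D hD v hv _ h hh hnM (D.neg (D.simple i)) hnp
  -- first way
  have hW1 : D.nMat F (D.simple i) 1 * (nG : Matrix D.Idx D.Idx F) * D.x F (D.simple i) 1 =
      D.x F (D.reflectRoot i (wPi D v (D.simple i)))
        (((nEta D i (wPi D v (D.simple i)) : ℤ) : F) * (c * 1)) *
        (D.nMat F (D.simple i) 1 * (nG : Matrix D.Idx D.Idx F)) := by
    rw [Matrix.mul_assoc, hact' 1, ← Matrix.mul_assoc,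
      n_simple_conj D hD i hi _ hlt (c * 1), Matrix.mul_assoc]
  -- second way
  have hW2 : D.nMat F (D.simple i) 1 * (nG : Matrix D.Idx D.Idx F) * D.x F (D.simple i) 1 =
      D.x F (D.neg (wPi D v (D.simple i)))
        (c2 * (((nEta D i (D.simple i) : ℤ) : F) * (d' (D.simple i) * 1))) *
        (D.nMat F (D.simple i) 1 * (nG : Matrix D.Idx D.Idx F)) := by
    calc D.nMat F (D.simple i) 1 * (nG : Matrix D.Idx D.Idx F) * D.x F (D.simple i) 1
        = (nG : Matrix D.Idx D.Idx F) * D.nMat F (D.simple i) 1 *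
            (torus F D d' * D.x F (D.simple i) 1) := by
          rw [hmat, Matrix.mul_assoc]
      _ = (nG : Matrix D.Idx D.Idx F) *
            (D.nMat F (D.simple i) 1 * D.x F (D.simple i) (d' (D.simple i) * 1)) *
            torus F D d' := by
          rw [torus_mul_x D d' hd' _ hp 1]
          simp only [Matrix.mul_assoc]
      _ = (nG : Matrix D.Idx D.Idx F) * D.x F (D.neg (D.simple i))
            (((nEta D i (D.simple i) : ℤ) : F) * (d' (D.simple i) * 1)) *
            (D.nMat F (D.simple i) 1 * torus F D d') := by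
          rw [n_simple_conj D hD i hi _ hp (d' (D.simple i) * 1), cb_reflect_simple]
          simp only [Matrix.mul_assoc]
      _ = D.x F (D.neg (wPi D v (D.simple i)))
            (c2 * (((nEta D i (D.simple i) : ℤ) : F) * (d' (D.simple i) * 1))) *
            ((nG : Matrix D.Idx D.Idx F) * D.nMat F (D.simple i) 1 * torus F D d') := by
          rw [hact2, wPi_neg D hD v hv _ hp]
          simp only [Matrix.mul_assoc]
      _ = _ := by rw [hmat]
  have hE := hW1.symm.trans hW2
  have hQ : ((σG * nG : GL D.Idx F) : Matrix D.Idx D.Idx F) =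
      D.nMat F (D.simple i) 1 * (nG : Matrix D.Idx D.Idx F) := by
    rw [Units.val_mul, hσM]
  rw [← hQ] at hE
  have hX : D.x F (D.reflectRoot i (wPi D v (D.simple i)))
        (((nEta D i (wPi D v (D.simple i)) : ℤ) : F) * (c * 1)) =
      D.x F (D.neg (wPi D v (D.simple i)))
        (c2 * (((nEta D i (D.simple i) : ℤ) : F) * (d' (D.simple i) * 1))) := by
    have h3 := congrArg
      (fun M : Matrix D.Idx D.Idx F => M * (((σG * nG)⁻¹ : GL D.Idx F) : Matrix D.Idx D.Idx F)) hE
    simp only [Matrix.mul_assoc, ← Units.val_mul, mul_inv_cancel, Units.val_one,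
      Matrix.mul_one] at h3
    exact h3
  obtain ⟨hr1pos, -⟩ := reflect_pos D hD i hi _ hpos hne
  have ha : ((nEta D i (wPi D v (D.simple i)) : ℤ) : F) * (c * 1) ≠ 0 := by
    apply mul_ne_zero
    · rcases nEta_cases D i (wPi D v (D.simple i)) with h4 | h4 <;> rw [h4] <;> simp
    · simpa using hc0
  have hgU : xGL D hD' (D.reflectRoot i (wPi D v (D.simple i)))
      (((nEta D i (wPi D v (D.simple i)) : ℤ) : F) * (c * 1)) ∈ D.posUnipotent F := by
    unfold ChevalleyDatum.posUnipotent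
    apply Subgroup.subset_closure
    exact ⟨_, _, hr1pos, xGL_val D hD' _ _⟩
  have hgV : xGL D hD' (D.reflectRoot i (wPi D v (D.simple i)))
      (((nEta D i (wPi D v (D.simple i)) : ℤ) : F) * (c * 1)) ∈ D.negUnipotent F := by
    unfold ChevalleyDatum.negUnipotent
    apply Subgroup.subset_closure
    exact ⟨_, _, (sign_facts D hD _ hlt).2.2.2.1 hpos, (xGL_val D hD' _ _).trans hX⟩
  have hg1 : xGL D hD' (D.reflectRoot i (wPi D v (D.simple i)))
      (((nEta D i (wPi D v (D.simple i)) : ℤ) : F) * (c * 1)) ∈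
      D.borelSubgroup F ⊓ D.negUnipotent F := ⟨hUB hgU, hgV⟩
  rw [borel_inf_negUnipotent D hD', Subgroup.mem_bot] at hg1
  have h1' : D.x F (D.reflectRoot i (wPi D v (D.simple i)))
      (((nEta D i (wPi D v (D.simple i)) : ℤ) : F) * (c * 1)) = 1 := by
    rw [← xGL_val D hD', hg1, Units.val_one]
  exact x_ne_one D hD _ hr1pos.1 _ ha h1'

/-- CB -/
theorem inv_chev_cond (D : ChevalleyDatum)
    (hD : D ∈ [chevG2, chevB2, chevD4, chevF4, chevE6, chevE7, chevE8])
    (v : List ℕ) (hv : ∀ i ∈ v, i < D.rank)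
    (n : (chevBN (F := F) D hD).N) (h : GL D.Idx F) (hh : h ∈ D.diagonalSubgroup F)
    (hn : (((n : ↥(D.group F)) : GL D.Idx F) : Matrix D.Idx D.Idx F) =
      (h : Matrix D.Idx D.Idx F) * nWordMat F D v)
    (i : ℕ) (hi : i < D.rank)
    (hc : len (SW (chevBN (F := F) D hD)) (cl (chevBN (F := F) D hD) n *
            cl (chevBN (F := F) D hD) (sN (chevBN (F := F) D hD) (stSigma_mem D hD i hi))) <
          len (SW (chevBN (F := F) D hD)) (cl (chevBN (F := F) D hD) n) ∨
        cl (chevBN (F := F) D hD) (sN (chevBN (F := F) D hD) (stSigma_mem D hD i hi)) *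
            cl (chevBN (F := F) D hD) n =
          cl (chevBN (F := F) D hD) n *
            cl (chevBN (F := F) D hD) (sN (chevBN (F := F) D hD) (stSigma_mem D hD i hi))) :
    D.IsNegRoot (wPi D v (D.simple i)) ∨ wPi D v (D.simple i) = D.simple i := by
  have hD' : D ∈ chevList := hD
  have hp : D.simple i < D.nroots := simple_lt D hD' i hi
  have hlt : wPi D v (D.simple i) < D.nroots := wPi_lt D hD v hv _ hp
  have hUB : D.posUnipotent F ≤ D.borelSubgroup F := le_sup_left
  rcases (sign_facts D hD _ hlt).1 with hpos | hneg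
  swap
  · exact Or.inl hneg
  right
  obtain ⟨c, -, hact⟩ := cb_act D hD v hv _ h hh hn (D.simple i) hp
  have hB : ∀ (t : F) (y : GL D.Idx F),
      (y : Matrix D.Idx D.Idx F) = D.x F (D.simple i) t →
      ((n : ↥(D.group F)) : GL D.Idx F) * y * ((n : ↥(D.group F)) : GL D.Idx F)⁻¹ ∈
        D.borelSubgroup F := by
    intro t y hy
    apply hUB
    unfold ChevalleyDatum.posUnipotent
    apply Subgroup.subset_closure
    refine ⟨_, c * t, hpos, ?_⟩
    rw [Units.val_mul, Units.val_mul, hy, hact t, Matrix.mul_assoc, ← Units.val_mul,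
      mul_inv_cancel, Units.val_one, Matrix.mul_one]
  have h1 := st_not_desc D hD n i hi hB
  have hcomm := hc.resolve_left h1
  -- the element `k = (n σ)⁻¹ (σ n)` lies in `B ∩ N = H`
  have hk := cl_eq_iff.1 (show cl (chevBN (F := F) D hD)
      (n * sN (chevBN (F := F) D hD) (stSigma_mem D hD i hi)) =
      cl (chevBN (F := F) D hD) (sN (chevBN (F := F) D hD) (stSigma_mem D hD i hi) * n) from
    hcomm.symm)
  have hkB : (((n : ↥(D.group F)) : GL D.Idx F) *
      ((stSigma (F := F) D hD i : ↥(D.group F)) : GL D.Idx F))⁻¹ *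
      (((stSigma (F := F) D hD i : ↥(D.group F)) : GL D.Idx F) *
        ((n : ↥(D.group F)) : GL D.Idx F)) ∈ D.borelSubgroup F :=
    Subgroup.mem_subgroupOf.1 hk
  have hkN : (((n : ↥(D.group F)) : GL D.Idx F) *
      ((stSigma (F := F) D hD i : ↥(D.group F)) : GL D.Idx F))⁻¹ *
      (((stSigma (F := F) D hD i : ↥(D.group F)) : GL D.Idx F) *
        ((n : ↥(D.group F)) : GL D.Idx F)) ∈ D.monomialSubgroup F :=
    Subgroup.mem_subgroupOf.1
      ((n * sN (chevBN (F := F) D hD) (stSigma_mem D hD i hi))⁻¹ *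
        (sN (chevBN (F := F) D hD) (stSigma_mem D hD i hi) * n)).2
  have hkH : (((n : ↥(D.group F)) : GL D.Idx F) *
      ((stSigma (F := F) D hD i : ↥(D.group F)) : GL D.Idx F))⁻¹ *
      (((stSigma (F := F) D hD i : ↥(D.group F)) : GL D.Idx F) *
        ((n : ↥(D.group F)) : GL D.Idx F)) ∈ D.diagonalSubgroup F := by
    rw [← borel_inf_monomial D hD']
    exact ⟨hkB, hkN⟩
  exact cb_core D hD v hv _ _ h hh hn i hi (stSigma_val D hD i hi) hpos hkH

end

end Cfsg.Agent.Lib.Helper25
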