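import Mathlib

set_option autoImplicit false

namespace Cfsg.Agent.Lib.Helper69

open scoped commutatorElement

section MetaGroup

variable {G : Type*} [Group G]

/-- if `b a b⁻¹ = a^r` then `b^j a^i b^{-j} = a^(i r^j)` -/
theorem conj_pow_pow {a b : G} {r : ℕ} (h : b * a * b⁻¹ = a ^ r) (i j : ℕ) :
    b ^ j * a ^ i * (b ^ j)⁻¹ = a ^ (i * r ^ j) := by
  induction j generalizing i with
  | zero => simp
  | succ j ih =>
    have h1 : b ^ (j + 1) * a ^ i * (b ^ (j + 1))⁻¹ =
        b * (b ^ j * a ^ i * (b ^ j)⁻¹) * b⁻¹ := by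
      rw [pow_succ']
      group
    rw [h1, ih, ← conj_pow, h, ← pow_mul]
    congr 1
    ring

/-- `b^j a^i = a^(i r^j) b^j` -/
theorem pow_mul_pow_comm {a b : G} {r : ℕ} (h : b * a * b⁻¹ = a ^ r) (i j : ℕ) :
    b ^ j * a ^ i = a ^ (i * r ^ j) * b ^ j := by
  rw [← conj_pow_pow h i j]
  group

/-- the exponents `k` with `x^k ∈ K`, for `x` of `p`-power order, are the multiples of a power
of `p` -/
theorem exists_pow_mem_iff {p : ℕ} (hp : p.Prime) (K : Subgroup G) (x : G) {m : ℕ}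
    (hx : x ^ p ^ m = 1) : ∃ u, u ≤ m ∧ ∀ k : ℕ, x ^ k ∈ K ↔ p ^ u ∣ k := by
  let I : AddSubgroup ℤ :=
    { carrier := {z : ℤ | x ^ z ∈ K}
      zero_mem' := by
        show x ^ (0 : ℤ) ∈ K
        rw [zpow_zero]
        exact K.one_mem
      add_mem' := by
        intro a b ha hb
        show x ^ (a + b) ∈ K
        rw [zpow_add]
        exact K.mul_mem ha hb
      neg_mem' := by
        intro a ha
        show x ^ (-a) ∈ K
        rw [zpow_neg]
        exact K.inv_mem ha }
  have hI : ∀ z : ℤ, z ∈ I ↔ x ^ z ∈ K := fun z => Iff.rfl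
  obtain ⟨d, hd⟩ := Int.subgroup_cyclic I
  have hmem : ∀ z : ℤ, x ^ z ∈ K ↔ d ∣ z := by
    intro z
    rw [← hI, hd, ← AddSubgroup.zmultiples_eq_closure, Int.mem_zmultiples_iff]
  have h1 : d ∣ ((p ^ m : ℕ) : ℤ) := by
    rw [← hmem, zpow_natCast, hx]
    exact K.one_mem
  have h2 : d.natAbs ∣ p ^ m := by
    have := Int.natAbs_dvd_natAbs.mpr h1
    rwa [Int.natAbs_natCast] at this
  obtain ⟨u, hu, hdu⟩ := (Nat.dvd_prime_pow hp).mp h2
  refine ⟨u, hu, fun k => ?_⟩
  have h3 := hmem (k : ℤ)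
  rw [zpow_natCast] at h3
  rw [h3, ← hdu, ← Int.natAbs_dvd_natAbs, Int.natAbs_natCast]

/-- `|K ⊓ ⟨x⟩| * p^u = |x|` -/
theorem card_inf_zpowers_mul {p : ℕ} (hp : p.Prime) (K : Subgroup G) (x : G) {m u : ℕ}
    (hx : x ^ p ^ m = 1) (hu : ∀ k : ℕ, x ^ k ∈ K ↔ p ^ u ∣ k) :
    Nat.card ↥(K ⊓ Subgroup.zpowers x) * p ^ u = orderOf x := by
  have hxo : 0 < orderOf x := by
    apply orderOf_pos_iff.mpr
    exact isOfFinOrder_iff_pow_eq_one.mpr ⟨p ^ m, pow_pos hp.pos m, hx⟩
  have heq : K ⊓ Subgroup.zpowers x = Subgroup.zpowers (x ^ p ^ u) := by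
    apply le_antisymm
    · intro z hz
      obtain ⟨hzK, hzx⟩ := Subgroup.mem_inf.mp hz
      obtain ⟨k, rfl⟩ := Subgroup.mem_zpowers_iff.mp hzx
      have h1 : x ^ k = x ^ (k % (orderOf x : ℤ)).toNat := by
        rw [← zpow_natCast, Int.toNat_of_nonneg (Int.emod_nonneg _ (by exact_mod_cast hxo.ne')),
          zpow_mod_orderOf]
      rw [h1] at hzK ⊢
      obtain ⟨q, hq⟩ := (hu _).mp hzK
      rw [hq, pow_mul]
      exact Subgroup.pow_mem _ (Subgroup.mem_zpowers _) _
    · rw [Subgroup.zpowers_le]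
      exact Subgroup.mem_inf.mpr ⟨(hu _).mpr dvd_rfl,
        Subgroup.pow_mem _ (Subgroup.mem_zpowers x) _⟩
  have hdvd : p ^ u ∣ orderOf x := by
    rw [← hu, pow_orderOf_eq_one]
    exact K.one_mem
  rw [heq, Nat.card_zpowers, orderOf_pow' _ (pow_pos hp.pos u).ne', Nat.gcd_eq_right hdvd]
  exact Nat.div_mul_cancel hdvd

/-- if the powers of `y` meeting `K` are the multiples of `P`, then `P ≤ |G : K|` -/
theorem le_index_of_pow_mem_iff [Finite G] (K : Subgroup G) (y : G) (P : ℕ)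
    (hy : ∀ j : ℕ, y ^ j ∈ K ↔ P ∣ j) : P ≤ K.index := by
  have hinj : Function.Injective (fun j : Fin P => (QuotientGroup.mk (y ^ (j : ℕ)) : G ⧸ K)) := by
    have key : ∀ j j' : ℕ, j ≤ j' → j' < P →
        (QuotientGroup.mk (y ^ j) : G ⧸ K) = QuotientGroup.mk (y ^ j') → j = j' := by
      intro j j' hle hlt h
      rw [QuotientGroup.eq] at h
      have h1 : (y ^ j)⁻¹ * y ^ j' = y ^ (j' - j) := by
        rw [inv_mul_eq_iff_eq_mul, ← pow_add]
        congr 1
        omega
      rw [h1, hy] at h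
      by_contra hne
      have := Nat.le_of_dvd (by omega) h
      omega
    intro j j' h
    apply Fin.ext
    rcases le_total (j : ℕ) (j' : ℕ) with hle | hle
    · exact key _ _ hle j'.2 h
    · exact (key _ _ hle j.2 h.symm).symm
  have := Nat.card_le_card_of_injective _ hinj
  rwa [Nat.card_fin] at this

/-- index of a subgroup with a cyclic supplement -/
theorem index_eq_of_pow_mem_iff [Finite G] (K : Subgroup G) (y : G) (P : ℕ) (hP : 0 < P)
    (hgen : ∀ g : G, ∃ j : ℕ, ∃ x ∈ K, g = y ^ j * x)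
    (hy : ∀ j : ℕ, y ^ j ∈ K ↔ P ∣ j) : K.index = P := by
  apply le_antisymm _ (le_index_of_pow_mem_iff K y P hy)
  have hsurj : Function.Surjective
      (fun j : Fin P => (QuotientGroup.mk (y ^ (j : ℕ)) : G ⧸ K)) := by
    intro q
    induction q using QuotientGroup.induction_on with
    | H g =>
      obtain ⟨j, x, hx, rfl⟩ := hgen g
      refine ⟨⟨j % P, Nat.mod_lt _ hP⟩, ?_⟩
      show (QuotientGroup.mk (y ^ (j % P)) : G ⧸ K) = QuotientGroup.mk (y ^ j * x)
      rw [QuotientGroup.eq]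
      have h1 : (y ^ (j % P))⁻¹ * (y ^ j * x) = y ^ (P * (j / P)) * x := by
        rw [inv_mul_eq_iff_eq_mul, ← mul_assoc, ← pow_add, Nat.mod_add_div]
      rw [h1]
      exact K.mul_mem ((hy _).mpr (Dvd.intro _ rfl)) hx
  have := Nat.card_le_card_of_surjective _ hsurj
  rwa [Nat.card_fin] at this

/-- `|H ⊔ N| * |H ⊓ N| = |H| * |N|` for `N` normal -/
theorem card_sup_mul_card_inf [Finite G] (H N : Subgroup G) [N.Normal] :
    Nat.card ↥(H ⊔ N) * Nat.card ↥(H ⊓ N) = Nat.card ↥H * Nat.card ↥N := by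
  have h1 : N.relIndex (H ⊔ N) = N.relIndex H := Subgroup.relIndex_sup_right H N
  have h2 : Nat.card ↥N * N.relIndex (H ⊔ N) = Nat.card ↥(H ⊔ N) := by
    have := Subgroup.relIndex_mul_relIndex (H := ⊥) (K := N) (L := H ⊔ N) bot_le le_sup_right
    rwa [Subgroup.relIndex_bot_left, Subgroup.relIndex_bot_left] at this
  have h3 : Nat.card ↥(H ⊓ N) * (H ⊓ N).relIndex H = Nat.card ↥H := by
    have := Subgroup.relIndex_mul_relIndex (H := ⊥) (K := H ⊓ N) (L := H) bot_le inf_le_left
    rwa [Subgroup.relIndex_bot_left, Subgroup.relIndex_bot_left] at this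
  rw [Subgroup.inf_relIndex_left] at h3
  rw [← h2, ← h3, h1]
  ring

theorem zpow_eq_pow_of_finite [Finite G] (x : G) (z : ℤ) : ∃ k : ℕ, x ^ z = x ^ k := by
  have hxo : 0 < orderOf x := orderOf_pos x
  refine ⟨(z % (orderOf x : ℤ)).toNat, ?_⟩
  rw [← zpow_natCast, Int.toNat_of_nonneg (Int.emod_nonneg _ (by exact_mod_cast hxo.ne')),
    zpow_mod_orderOf]

theorem inv_eq_pow_of_finite [Finite G] (x : G) : ∃ k : ℕ, x⁻¹ = x ^ k := by
  obtain ⟨k, hk⟩ := zpow_eq_pow_of_finite x (-1)
  exact ⟨k, by rw [← hk, zpow_neg_one]⟩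

theorem mem_centralizer_singleton_iff_comm (g h : G) :
    h ∈ Subgroup.centralizer ({g} : Set G) ↔ ⁅h, g⁆ = 1 := by
  rw [Subgroup.mem_centralizer_iff, commutatorElement_eq_one_iff_commute]
  constructor
  · intro hh
    exact (hh g rfl).symm
  · intro hh x hx
    rw [Set.mem_singleton_iff] at hx
    subst hx
    exact hh.symm

/-- if all commutators `[h, g]` lie in `S` then the class of `g` has at most `|S|` elements -/
theorem index_centralizer_le_card [Finite G] (g : G) (S : Subgroup G)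
    (hS : ∀ h : G, ⁅h, g⁆ ∈ S) : (Subgroup.centralizer ({g} : Set G)).index ≤ Nat.card ↥S := by
  let f : G ⧸ Subgroup.centralizer ({g} : Set G) → ↥S :=
    Quotient.lift (fun h : G => (⟨⁅h, g⁆, hS h⟩ : ↥S))
      (by
        intro a b hab
        have hab' : a⁻¹ * b ∈ Subgroup.centralizer ({g} : Set G) :=
          QuotientGroup.leftRel_apply.mp hab
        rw [Subgroup.mem_centralizer_iff] at hab'
        have h1 := hab' g rfl
        apply Subtype.ext
        show ⁅a, g⁆ = ⁅b, g⁆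
        rw [commutatorElement_def, commutatorElement_def]
        have h2 : b * g * b⁻¹ = a * ((a⁻¹ * b) * g) * b⁻¹ := by group
        rw [h2, ← h1]
        group)
  have hinj : Function.Injective f := by
    intro x y
    induction x using Quotient.inductionOn with
    | _ a =>
      induction y using Quotient.inductionOn with
      | _ b =>
        intro hxy
        have h1 : ⁅a, g⁆ = ⁅b, g⁆ := congrArg Subtype.val hxy
        rw [commutatorElement_def, commutatorElement_def] at h1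
        have h1' : a * g * a⁻¹ = b * g * b⁻¹ := mul_right_cancel h1
        apply Quotient.sound
        apply QuotientGroup.leftRel_apply.mpr
        rw [Subgroup.mem_centralizer_iff]
        intro u hu
        rw [Set.mem_singleton_iff] at hu
        subst hu
        have h2 : a⁻¹ * b * u = a⁻¹ * (b * u * b⁻¹) * b := by group
        rw [h2, ← h1']
        group
  exact Nat.card_le_card_of_injective f hinj

end MetaGroup

end Cfsg.Agent.Lib.Helper69
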