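import Mathlib

set_option autoImplicit false

namespace Cfsg.Agent.Lib.Helper69

section MetaNum

/-- geometric sum `1 + R + ... + R^(m-1)` -/
def gs (R m : ℕ) : ℕ := ∑ t ∈ Finset.range m, R ^ t

theorem gs_zero (R : ℕ) : gs R 0 = 0 := by simp [gs]

theorem gs_succ (R m : ℕ) : gs R (m + 1) = gs R m + R ^ m := by
  simp [gs, Finset.sum_range_succ]

theorem gs_one (R : ℕ) : gs R 1 = 1 := by simp [gs]

theorem gs_one_left (m : ℕ) : gs 1 m = m := by simp [gs]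

theorem gs_mul (R m : ℕ) (hR : 1 ≤ R) : (R - 1) * gs R m + 1 = R ^ m := by
  obtain ⟨ρ, rfl⟩ := Nat.exists_eq_add_of_le hR
  rw [Nat.add_sub_cancel_left]
  induction m with
  | zero => simp [gs_zero]
  | succ m ih =>
    rw [gs_succ, mul_add, pow_succ]
    nlinarith

theorem gs_mul_int (R m : ℕ) (hR : 1 ≤ R) :
    ((R : ℤ) - 1) * (gs R m : ℤ) = (R : ℤ) ^ m - 1 := by
  have h := gs_mul R m hR
  have h2 : (((R - 1 : ℕ) : ℤ)) * (gs R m : ℤ) + 1 = (R : ℤ) ^ m := by exact_mod_cast h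
  rw [Nat.cast_sub hR] at h2
  push_cast at h2
  linarith

theorem gs_add (R j l : ℕ) : gs R (j + l) = gs R j + R ^ j * gs R l := by
  induction l with
  | zero => simp [gs_zero]
  | succ l ih =>
    rw [← add_assoc, gs_succ, gs_succ, ih, pow_add]
    ring

theorem gs_mul_comp (R j m : ℕ) : gs R (j * m) = gs R j * gs (R ^ j) m := by
  induction m with
  | zero => simp [gs_zero]
  | succ m ih =>
    rw [mul_add, mul_one, gs_add, ih, gs_succ, ← pow_mul]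
    ring

theorem dvd_pow_sub_one {p R : ℕ} (hR1 : 1 ≤ R) (hR : p ∣ R - 1) (j : ℕ) : p ∣ R ^ j - 1 := by
  have h := gs_mul R j hR1
  have h2 : R ^ j - 1 = (R - 1) * gs R j := by omega
  rw [h2]
  exact Dvd.dvd.mul_right hR _

/-- the `p`-adic valuation of a geometric sum with ratio `≡ 1 mod p`, `p` odd (LTE) -/
theorem emultiplicity_gs {p : ℕ} (hp : p.Prime) (hp2 : p ≠ 2) {R : ℕ} (hR1 : 1 ≤ R)
    (hR : p ∣ R - 1) (m : ℕ) : emultiplicity p (gs R m) = emultiplicity p m := by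
  rcases Nat.eq_or_lt_of_le hR1 with h1 | h1
  · rw [← h1, gs_one_left]
  · have hodd : Odd p := hp.odd_of_ne_two hp2
    have hx : ¬ p ∣ R := by
      intro h
      have h3 : p ∣ R - (R - 1) := Nat.dvd_sub h hR
      have h4 : R - (R - 1) = 1 := by omega
      rw [h4] at h3
      exact hp.one_lt.ne' (Nat.dvd_one.mp h3)
    have h := Nat.emultiplicity_pow_sub_pow hp hodd (x := R) (y := 1) hR hx m
    rw [one_pow] at h
    have h2 : R ^ m - 1 = (R - 1) * gs R m := by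
      have := gs_mul R m hR1
      omega
    rw [h2, hp.emultiplicity_mul] at h
    have hfin : emultiplicity p (R - 1) ≠ ⊤ := by
      rw [← finiteMultiplicity_iff_emultiplicity_ne_top, Nat.finiteMultiplicity_iff]
      exact ⟨hp.ne_one, by omega⟩
    exact ENat.add_right_injective_of_ne_top hfin h

theorem pow_dvd_gs_iff {p : ℕ} (hp : p.Prime) (hp2 : p ≠ 2) {R : ℕ} (hR1 : 1 ≤ R)
    (hR : p ∣ R - 1) (m e : ℕ) : p ^ e ∣ gs R m ↔ p ^ e ∣ m := by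
  rw [pow_dvd_iff_le_emultiplicity, pow_dvd_iff_le_emultiplicity, emultiplicity_gs hp hp2 hR1 hR]

theorem pow_dvd_mul_gs_iff {p : ℕ} (hp : p.Prime) (hp2 : p ≠ 2) {R : ℕ} (hR1 : 1 ≤ R)
    (hR : p ∣ R - 1) (m e i : ℕ) : p ^ e ∣ i * gs R m ↔ p ^ e ∣ i * m := by
  rw [pow_dvd_iff_le_emultiplicity, pow_dvd_iff_le_emultiplicity, hp.emultiplicity_mul,
    hp.emultiplicity_mul, emultiplicity_gs hp hp2 hR1 hR]

theorem int_pow_dvd_mul_gs_iff {p : ℕ} (hp : p.Prime) (hp2 : p ≠ 2) {R : ℕ} (hR1 : 1 ≤ R)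
    (hR : p ∣ R - 1) (m e : ℕ) (z : ℤ) :
    (p : ℤ) ^ e ∣ z * (gs R m : ℤ) ↔ (p : ℤ) ^ e ∣ z * (m : ℤ) := by
  have hpi : Prime (p : ℤ) := Nat.prime_iff_prime_int.mp hp
  rw [pow_dvd_iff_le_emultiplicity, pow_dvd_iff_le_emultiplicity, emultiplicity_mul hpi,
    emultiplicity_mul hpi, Int.natCast_emultiplicity, Int.natCast_emultiplicity,
    emultiplicity_gs hp hp2 hR1 hR]

/-- `gs R (p^e) = p^e * σ` with `σ` prime to `p` -/
theorem gs_pow_eq {p : ℕ} (hp : p.Prime) (hp2 : p ≠ 2) {R : ℕ} (hR1 : 1 ≤ R)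
    (hR : p ∣ R - 1) (e : ℕ) : ∃ σ : ℕ, gs R (p ^ e) = p ^ e * σ ∧ ¬ p ∣ σ := by
  obtain ⟨σ, hσ⟩ := (pow_dvd_gs_iff hp hp2 hR1 hR (p ^ e) e).mpr dvd_rfl
  refine ⟨σ, hσ, ?_⟩
  intro h
  have h2 : p ^ (e + 1) ∣ gs R (p ^ e) := by
    rw [hσ, pow_succ]
    exact Nat.mul_dvd_mul_left _ h
  rw [pow_dvd_gs_iff hp hp2 hR1 hR] at h2
  have h3 := Nat.le_of_dvd (pow_pos hp.pos e) h2
  have h4 : p ^ e < p ^ (e + 1) := Nat.pow_lt_pow_right hp.one_lt (Nat.lt_succ_self e)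
  omega

/-- if `p^n ∣ i * p^d` and `d ≤ n` then `p^(n-d) ∣ i` -/
theorem pow_dvd_of_mul_pow {p : ℕ} (hp : p.Prime) {n d i : ℕ} (hd : d ≤ n)
    (h : p ^ n ∣ i * p ^ d) : p ^ (n - d) ∣ i := by
  have h1 : p ^ n = p ^ (n - d) * p ^ d := by
    rw [← pow_add]
    congr 1
    omega
  rw [h1] at h
  exact Nat.dvd_of_mul_dvd_mul_right (pow_pos hp.pos d) h

end MetaNum

end Cfsg.Agent.Lib.Helper69
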