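import Mathlib
import Cfsg.Prelude.Def_OddOrderLocal
import Cfsg.Agent.Lib.Helper69.MetaNum
import Cfsg.Agent.Lib.Helper69.MetaGroup

set_option autoImplicit false

namespace Cfsg.Agent.Lib.Helper69

open scoped commutatorElement

/-- coordinates on a metacyclic `p`-group: `G = ⟨a⟩⟨b⟩`, `b a b⁻¹ = a^r`, `r ≡ 1 mod p` -/
structure MC (p : ℕ) (G : Type*) [Group G] where
  /-- generator of the cyclic normal subgroup -/
  a : G
  /-- generator modulo the cyclic normal subgroup -/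
  b : G
  /-- the exponent of the action -/
  r : ℕ
  hr1 : 1 ≤ r
  hr : p ∣ r - 1
  conj : b * a * b⁻¹ = a ^ r
  gen : ∀ g : G, ∃ i j : ℕ, g = a ^ i * b ^ j

namespace MC

section basic

variable {p : ℕ} {G : Type*} [Group G] (M : MC p G)

/-- the generator `a^(r-1) = [b,a]` of the commutator subgroup -/
def c : G := M.a ^ (M.r - 1)

theorem mul_formula (i j k l : ℕ) :
    (M.a ^ i * M.b ^ j) * (M.a ^ k * M.b ^ l) = M.a ^ (i + k * M.r ^ j) * M.b ^ (j + l) := by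
  rw [mul_assoc, ← mul_assoc (M.b ^ j), pow_mul_pow_comm M.conj, pow_add, pow_add]
  group

theorem pow_formula (i j m : ℕ) :
    (M.a ^ i * M.b ^ j) ^ m = M.a ^ (i * gs (M.r ^ j) m) * M.b ^ (j * m) := by
  induction m with
  | zero => simp [gs_zero]
  | succ m ih =>
    rw [pow_succ, ih, mul_formula, gs_succ, ← pow_mul]
    congr 1
    rw [mul_add]

theorem c_eq : M.c = ⁅M.b, M.a⁆ := by
  rw [commutatorElement_def, M.conj, c]
  have h : M.a ^ M.r = M.a ^ (M.r - 1) * M.a := by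
    rw [← pow_succ]
    congr 1
    have := M.hr1
    omega
  rw [h]
  group

theorem c_zpow (z : ℤ) : M.c ^ z = M.a ^ (((M.r : ℤ) - 1) * z) := by
  rw [c, zpow_mul, ← zpow_natCast, Nat.cast_sub M.hr1, Nat.cast_one]

theorem comm_formula (i j k l : ℕ) :
    ⁅M.a ^ i * M.b ^ j, M.a ^ k * M.b ^ l⁆ =
      M.c ^ ((k : ℤ) * (gs M.r j : ℤ) - (i : ℤ) * (gs M.r l : ℤ)) := by
  have h1 : ⁅M.a ^ i * M.b ^ j, M.a ^ k * M.b ^ l⁆ =
      ((M.a ^ i * M.b ^ j) * (M.a ^ k * M.b ^ l)) *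
        ((M.a ^ k * M.b ^ l) * (M.a ^ i * M.b ^ j))⁻¹ := by
    rw [commutatorElement_def]
    group
  rw [h1, mul_formula, mul_formula, c_zpow]
  have h2 : M.a ^ (i + k * M.r ^ j) * M.b ^ (j + l) *
      (M.a ^ (k + i * M.r ^ l) * M.b ^ (l + j))⁻¹ =
      M.a ^ ((i + k * M.r ^ j : ℕ) : ℤ) * (M.a ^ ((k + i * M.r ^ l : ℕ) : ℤ))⁻¹ := by
    rw [zpow_natCast, zpow_natCast, add_comm l j]
    group
  rw [h2, ← zpow_neg, ← zpow_add]
  congr 1
  have e1 := gs_mul_int M.r j M.hr1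
  have e2 := gs_mul_int M.r l M.hr1
  push_cast
  linear_combination (-(k : ℤ)) * e1 + (i : ℤ) * e2

theorem normal_zpowers_a : (Subgroup.zpowers M.a).Normal := by
  constructor
  intro n hn g
  obtain ⟨i, j, rfl⟩ := M.gen g
  obtain ⟨z, rfl⟩ := Subgroup.mem_zpowers_iff.mp hn
  have h1 : M.a ^ i * M.b ^ j * M.a ^ z * (M.a ^ i * M.b ^ j)⁻¹ =
      M.a ^ i * (M.b ^ j * M.a ^ 1 * (M.b ^ j)⁻¹) ^ z * (M.a ^ i)⁻¹ := by
    rw [conj_zpow, pow_one]
    group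
  rw [h1, conj_pow_pow M.conj]
  exact Subgroup.mul_mem _ (Subgroup.mul_mem _ (Subgroup.pow_mem _ (Subgroup.mem_zpowers _) _)
    (Subgroup.zpow_mem _ (Subgroup.pow_mem _ (Subgroup.mem_zpowers _) _) _))
    (Subgroup.inv_mem _ (Subgroup.pow_mem _ (Subgroup.mem_zpowers _) _))

end basic

section finite

variable {p : ℕ} {G : Type*} [Group G] [Finite G] (M : MC p G)

/-- elements as `b^j * a^i` -/
theorem gen' (g : G) : ∃ j i : ℕ, g = M.b ^ j * M.a ^ i := by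
  obtain ⟨i, j, rfl⟩ := M.gen g
  have hN := M.normal_zpowers_a
  have h1 : (M.b ^ j)⁻¹ * M.a ^ i * M.b ^ j ∈ Subgroup.zpowers M.a :=
    hN.conj_mem' _ (Subgroup.pow_mem _ (Subgroup.mem_zpowers _) _) _
  obtain ⟨z, hz⟩ := Subgroup.mem_zpowers_iff.mp h1
  obtain ⟨k, hk⟩ := zpow_eq_pow_of_finite M.a z
  refine ⟨j, k, ?_⟩
  rw [← hk, hz]
  group

theorem commutator_eq : commutator G = Subgroup.zpowers M.c := by
  apply le_antisymm
  · rw [commutator_eq_closure, Subgroup.closure_le]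
    intro g hg
    obtain ⟨g₁, g₂, rfl⟩ := mem_commutatorSet_iff.mp hg
    obtain ⟨i, j, rfl⟩ := M.gen g₁
    obtain ⟨k, l, rfl⟩ := M.gen g₂
    rw [comm_formula]
    exact Subgroup.zpow_mem_zpowers _ _
  · rw [Subgroup.zpowers_le, c_eq]
    exact Subgroup.commutator_mem_commutator (Subgroup.mem_top _) (Subgroup.mem_top _)

theorem orderOf_c {n : ℕ} (hn : Nat.card ↥(commutator G) = p ^ n) : orderOf M.c = p ^ n := by
  rw [← hn, M.commutator_eq, Nat.card_zpowers]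

theorem c_zpow_eq_one_iff {n : ℕ} (hn : Nat.card ↥(commutator G) = p ^ n) (z : ℤ) :
    M.c ^ z = 1 ↔ (p : ℤ) ^ n ∣ z := by
  rw [← orderOf_dvd_iff_zpow_eq_one, M.orderOf_c hn]
  push_cast
  rfl

theorem comm_eq_one_iff {n : ℕ} (hn : Nat.card ↥(commutator G) = p ^ n) (i j k l : ℕ) :
    ⁅M.a ^ i * M.b ^ j, M.a ^ k * M.b ^ l⁆ = 1 ↔
      (p : ℤ) ^ n ∣ (k : ℤ) * (gs M.r j : ℤ) - (i : ℤ) * (gs M.r l : ℤ) := by
  rw [comm_formula, M.c_zpow_eq_one_iff hn]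

end finite

end MC

section setup

variable {p : ℕ} [Fact p.Prime] {G : Type*} [Group G] [Finite G]

theorem exists_MC_of (hG : IsPGroup p G) (x y : G)
    (hconj : y * x * y⁻¹ ∈ Subgroup.zpowers x) (hgen : ∀ g : G, ∃ i j : ℕ, g = x ^ i * y ^ j) :
    ∃ M : MC p G, M.a = x ∧ M.b = y := by
  have hpp := (Fact.out : p.Prime)
  obtain ⟨z, hz⟩ := Subgroup.mem_zpowers_iff.mp hconj
  obtain ⟨r₀, hr₀⟩ := zpow_eq_pow_of_finite x z
  have hc : y * x * y⁻¹ = x ^ r₀ := by rw [← hr₀, hz]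
  by_cases hx1 : x = 1
  · refine ⟨⟨x, y, 1, le_rfl, by simp, by subst hx1; simp, hgen⟩, rfl, rfl⟩
  · obtain ⟨m, hm⟩ := hG y
    obtain ⟨α, hα⟩ := (IsPGroup.iff_orderOf.mp hG) x
    have hα0 : α ≠ 0 := by
      rintro rfl
      rw [pow_zero, orderOf_eq_one_iff] at hα
      exact hx1 hα
    have h1 := conj_pow_pow hc 1 (p ^ m)
    rw [hm, one_mul, inv_one, mul_one, one_mul] at h1
    have h2 : r₀ ^ p ^ m ≡ 1 [MOD orderOf x] := by
      rw [← pow_eq_pow_iff_modEq]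
      exact h1.symm
    have h3 : r₀ ^ p ^ m ≡ 1 [MOD p] := h2.of_dvd (hα ▸ dvd_pow_self p hα0)
    have h4 : (r₀ : ZMod p) = 1 := by
      have := (ZMod.natCast_eq_natCast_iff _ _ p).mpr h3
      push_cast at this
      rwa [ZMod.pow_card_pow] at this
    have h5 : r₀ ≡ 1 [MOD p] := by
      rw [← ZMod.natCast_eq_natCast_iff]
      push_cast
      exact h4
    have hr1 : 1 ≤ r₀ := by
      by_contra h
      have h0 : r₀ = 0 := by omega
      subst h0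
      have h6 := (Nat.modEq_iff_dvd' (Nat.zero_le 1)).mp h5
      exact hpp.one_lt.ne' (Nat.dvd_one.mp h6)
    have hr : p ∣ r₀ - 1 := (Nat.modEq_iff_dvd' hr1).mp h5.symm
    exact ⟨⟨x, y, r₀, hr1, hr, hc, hgen⟩, rfl, rfl⟩

theorem exists_MC (hG : IsPGroup p G) (hmc : Cfsg.IsMetacyclic G) : Nonempty (MC p G) := by
  obtain ⟨N, hN, hNc, hQc⟩ := hmc
  obtain ⟨⟨a, haN⟩, ha⟩ := hNc.exists_generator
  obtain ⟨q, hq⟩ := hQc.exists_generator
  obtain ⟨b, rfl⟩ := QuotientGroup.mk_surjective q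
  have hNa : ∀ x ∈ N, ∃ k : ℕ, x = a ^ k := by
    intro x hx
    obtain ⟨z, hz⟩ := Subgroup.mem_zpowers_iff.mp (ha ⟨x, hx⟩)
    obtain ⟨k, hk⟩ := zpow_eq_pow_of_finite a z
    refine ⟨k, ?_⟩
    rw [← hk]
    have := congrArg Subtype.val hz
    rw [Subgroup.coe_zpow] at this
    exact this.symm
  have hconj : b * a * b⁻¹ ∈ Subgroup.zpowers a := by
    obtain ⟨k, hk⟩ := hNa _ (hN.conj_mem a haN b)
    rw [hk]
    exact Subgroup.pow_mem _ (Subgroup.mem_zpowers _) _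
  have hgen : ∀ g : G, ∃ i j : ℕ, g = a ^ i * b ^ j := by
    intro g
    obtain ⟨z, hz⟩ := Subgroup.mem_zpowers_iff.mp (hq (QuotientGroup.mk g))
    obtain ⟨j, hj⟩ := zpow_eq_pow_of_finite b z
    have h1 : (QuotientGroup.mk (b ^ j) : G ⧸ N) = QuotientGroup.mk g := by
      rw [← hj, QuotientGroup.mk_zpow, hz]
    have h2 : g * (b ^ j)⁻¹ ∈ N := by
      rw [QuotientGroup.eq] at h1
      have h3 := hN.conj_mem _ h1 (b ^ j)
      have h4 : b ^ j * ((b ^ j)⁻¹ * g) * (b ^ j)⁻¹ = g * (b ^ j)⁻¹ := by group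
      rwa [h4] at h3
    obtain ⟨i, hi⟩ := hNa _ h2
    exact ⟨i, j, by rw [← hi]; group⟩
  obtain ⟨M, -, -⟩ := exists_MC_of hG a b hconj hgen
  exact ⟨M⟩

end setup

end Cfsg.Agent.Lib.Helper69
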