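import Mathlib
import Cfsg.Prelude.Def_Transfer

set_option autoImplicit false
open Cfsg
open scoped commutatorElement

/-! Finite groups in which the centralizer of every non-central element is a maximal subgroup:
basic lemmas and the case where all these centralizers are normal (helper69). -/

namespace Cfsg.Agent.Lib.Helper69.MaxCent

variable {G : Type*} [Group G]

/-- the centralizer of an element -/
abbrev Cn (x : G) : Subgroup G := Subgroup.centralizer ({x} : Set G)

theorem mem_Cn {x k : G} : k ∈ Cn x ↔ k * x = x * k := Subgroup.mem_centralizer_singleton_iff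

/-- the hypothesis: the centralizer of every non-central element is a maximal subgroup -/
def MC (G : Type*) [Group G] : Prop := ∀ x : G, x ∉ Subgroup.center G → IsCoatom (Cn x)

theorem center_le_Cn (x : G) : Subgroup.center G ≤ Cn x := Subgroup.center_le_centralizer _

theorem self_mem_Cn (x : G) : x ∈ Cn x := mem_Cn.mpr rfl

theorem Cn_eq_of_le (h : MC G) {x y : G} (hx : x ∉ Subgroup.center G)
    (hy : y ∉ Subgroup.center G) (hle : Cn x ≤ Cn y) : Cn x = Cn y :=
  (((h x hx).le_iff_eq (h y hy).1).mp hle).symm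

theorem Cn_le_Cn_pow (x : G) (n : ℕ) : Cn x ≤ Cn (x ^ n) :=
  fun _ hk => mem_Cn.mpr ((Commute.pow_right (show Commute _ x from mem_Cn.mp hk) n).eq)

theorem pow_mem_center_iff {u : G} {n : ℕ} :
    u ^ n ∈ Subgroup.center G ↔ orderOf (u : G ⧸ Subgroup.center G) ∣ n := by
  rw [orderOf_dvd_iff_pow_eq_one, ← QuotientGroup.mk_pow, QuotientGroup.eq_one_iff]

theorem orderOf_mk_ne_one {x : G} (hx : x ∉ Subgroup.center G) :
    orderOf (x : G ⧸ Subgroup.center G) ≠ 1 := by
  rw [Ne, orderOf_eq_one_iff, QuotientGroup.eq_one_iff]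
  exact hx

/-- a non-central element has at most one prime `p` with `x ^ p` central -/
theorem prime_unique {x : G} (hx : x ∉ Subgroup.center G) {p r : ℕ} (hp : p.Prime)
    (hr : r.Prime) (h1 : x ^ p ∈ Subgroup.center G) (h2 : x ^ r ∈ Subgroup.center G) : p = r := by
  rw [pow_mem_center_iff] at h1 h2
  have hne := orderOf_mk_ne_one hx
  have e1 := ((Nat.dvd_prime hp).mp h1).resolve_left hne
  have e2 := ((Nat.dvd_prime hr).mp h2).resolve_left hne
  exact e1.symm.trans e2

/-- if commuting non-central `u`, `v` have different centralizers, then `u ^ n` central implies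
`v ^ n` central -/
theorem pow_mem_center_of (h : MC G) {u v : G} (hu : u ∉ Subgroup.center G)
    (hv : v ∉ Subgroup.center G) (huv : u * v = v * u) (hne : Cn u ≠ Cn v) (n : ℕ)
    (hn : u ^ n ∈ Subgroup.center G) : v ^ n ∈ Subgroup.center G := by
  by_contra hvn
  have h1 : Cn v = Cn (v ^ n) := Cn_eq_of_le h hv hvn (Cn_le_Cn_pow v n)
  have hw : u * v ∉ Subgroup.center G := by
    intro hw
    apply hne
    have hle : Cn u ≤ Cn v := by
      intro k hk
      rw [mem_Cn] at hk ⊢
      have hkw := Subgroup.mem_center_iff.mp hw k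
      have e : u * (k * v) = u * (v * k) := by
        calc u * (k * v) = (u * k) * v := (mul_assoc _ _ _).symm
          _ = (k * u) * v := by rw [hk]
          _ = k * (u * v) := mul_assoc _ _ _
          _ = u * v * k := hkw
          _ = u * (v * k) := mul_assoc _ _ _
      exact mul_left_cancel e
    exact Cn_eq_of_le h hu hv hle
  have hwn : (u * v) ^ n = u ^ n * v ^ n := Commute.mul_pow (show Commute u v from huv) n
  have h2 : Cn (u * v) ≤ Cn (v ^ n) := by
    intro k hk
    rw [mem_Cn] at hk ⊢
    have h3 : k * (u * v) ^ n = (u * v) ^ n * k := (Commute.pow_right (show Commute k _ from hk) n).eq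
    rw [hwn] at h3
    have hc := Subgroup.mem_center_iff.mp hn k
    have e : u ^ n * (k * v ^ n) = u ^ n * (v ^ n * k) := by
      calc u ^ n * (k * v ^ n) = (u ^ n * k) * v ^ n := (mul_assoc _ _ _).symm
        _ = (k * u ^ n) * v ^ n := by rw [hc]
        _ = k * (u ^ n * v ^ n) := mul_assoc _ _ _
        _ = u ^ n * v ^ n * k := h3
        _ = u ^ n * (v ^ n * k) := mul_assoc _ _ _
    exact mul_left_cancel e
  have h4 : Cn (u * v) = Cn v := by
    rw [h1]
    exact Cn_eq_of_le h hw hvn h2
  apply hne
  have hle : Cn v ≤ Cn u := by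
    intro k hk
    have hk' : k ∈ Cn (u * v) := h4 ▸ hk
    rw [mem_Cn] at hk hk' ⊢
    have e : k * u * v = u * k * v := by
      calc k * u * v = k * (u * v) := mul_assoc _ _ _
        _ = u * v * k := hk'
        _ = u * (v * k) := mul_assoc _ _ _
        _ = u * (k * v) := by rw [hk]
        _ = u * k * v := (mul_assoc _ _ _).symm
    exact mul_right_cancel e
  exact (Cn_eq_of_le h hv hu hle).symm

/-- **Lemma P**: commuting non-central elements with different centralizers have the same prime
order modulo the centre -/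
theorem exists_prime_pow_mem_center [Finite G] (h : MC G) {u v : G}
    (hu : u ∉ Subgroup.center G) (hv : v ∉ Subgroup.center G) (huv : u * v = v * u)
    (hne : Cn u ≠ Cn v) :
    ∃ r : ℕ, r.Prime ∧ u ^ r ∈ Subgroup.center G ∧ v ^ r ∈ Subgroup.center G := by
  set a := orderOf (u : G ⧸ Subgroup.center G) with ha
  have ha1 : a ≠ 1 := orderOf_mk_ne_one hu
  have ha0 : 0 < a := orderOf_pos _
  have hr : a.minFac.Prime := Nat.minFac_prime ha1
  obtain ⟨m, hm⟩ := Nat.minFac_dvd a
  have hm0 : 0 < m := by
    rcases Nat.eq_zero_or_pos m with h0 | h0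
    · rw [h0, mul_zero] at hm
      omega
    · exact h0
  have hm1 : m = 1 := by
    by_contra hm1
    have hu' : u ^ m ∉ Subgroup.center G := by
      intro hc
      rw [pow_mem_center_iff, ← ha] at hc
      have := Nat.le_of_dvd hm0 hc
      have h2 := hr.two_le
      nlinarith
    have hcomm : u ^ m * v = v * u ^ m := ((Commute.pow_left (show Commute u v from huv) m).eq)
    have hC : Cn (u ^ m) = Cn u := (Cn_eq_of_le h hu hu' (Cn_le_Cn_pow u m)).symm
    have hne' : Cn (u ^ m) ≠ Cn v := hC ▸ hne
    have h1 : (u ^ m) ^ a.minFac ∈ Subgroup.center G := by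
      rw [← pow_mul, pow_mem_center_iff, ← ha, mul_comm, ← hm]
    have h2 := pow_mem_center_of h hu' hv hcomm hne' _ h1
    have h3 := pow_mem_center_of h hv hu huv.symm hne.symm _ h2
    rw [pow_mem_center_iff, ← ha] at h3
    have h4 := Nat.le_of_dvd hr.pos h3
    have h5 : 2 ≤ m := by omega
    have h6 := hr.two_le
    nlinarith
  rw [hm1, mul_one] at hm
  have h1 : u ^ a.minFac ∈ Subgroup.center G := by
    rw [pow_mem_center_iff, ← ha, ← hm]
  exact ⟨a.minFac, hr, h1, pow_mem_center_of h hu hv huv hne _ h1⟩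

/-- a normal maximal subgroup of a finite group has prime index -/
theorem card_quotient_prime_of_coatom [Finite G] (N : Subgroup G) [N.Normal] (hN : IsCoatom N) :
    (Nat.card (G ⧸ N)).Prime := by
  have hne : Nat.card (G ⧸ N) ≠ 1 := by
    intro h1
    apply hN.1
    rw [← Subgroup.index_eq_one, Subgroup.index_eq_card]
    exact h1
  have hp : (Nat.card (G ⧸ N)).minFac.Prime := Nat.minFac_prime hne
  haveI : Fact (Nat.card (G ⧸ N)).minFac.Prime := ⟨hp⟩
  obtain ⟨q, hq⟩ := exists_prime_orderOf_dvd_card' (G := G ⧸ N) (Nat.card (G ⧸ N)).minFac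
    (Nat.minFac_dvd _)
  induction q using QuotientGroup.induction_on with
  | H g =>
    have hg : g ∉ N := by
      intro hg
      rw [(QuotientGroup.eq_one_iff g).mpr hg, orderOf_one] at hq
      exact hp.one_lt.ne hq
    have htop : N ⊔ Subgroup.zpowers g = ⊤ := by
      apply hN.2
      exact lt_of_le_of_ne le_sup_left
        (fun he => hg (he ▸ Subgroup.mem_sup_right (Subgroup.mem_zpowers g)))
    have hz : Subgroup.zpowers (g : G ⧸ N) = ⊤ := by
      rw [eq_top_iff]
      intro x _
      induction x using QuotientGroup.induction_on with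
      | H x =>
        have hx : x ∈ N ⊔ Subgroup.zpowers g := htop ▸ Subgroup.mem_top x
        obtain ⟨y, hy, z, hz, rfl⟩ := Subgroup.mem_sup_of_normal_left.mp hx
        obtain ⟨i, rfl⟩ := Subgroup.mem_zpowers_iff.mp hz
        rw [Subgroup.mem_zpowers_iff]
        refine ⟨i, ?_⟩
        show (g : G ⧸ N) ^ i = ((y * g ^ i : G) : G ⧸ N)
        rw [QuotientGroup.mk_mul, (QuotientGroup.eq_one_iff y).mpr hy, one_mul,
          QuotientGroup.mk_zpow]
    have hc : Nat.card (G ⧸ N) = orderOf (g : G ⧸ N) := by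
      rw [← Nat.card_zpowers, hz, Subgroup.card_top]
    rw [hc, hq]
    exact hp

/-- in a group of prime order any two elements commute -/
theorem comm_of_prime_card {Q : Type*} [Group Q] (hQ : (Nat.card Q).Prime) (a b : Q) :
    a * b = b * a := by
  haveI : Fact (Nat.card Q).Prime := ⟨hQ⟩
  haveI := isCyclic_of_prime_card (α := Q) rfl
  obtain ⟨g, hg⟩ := IsCyclic.exists_generator (α := Q)
  obtain ⟨i, rfl⟩ := Subgroup.mem_zpowers_iff.mp (hg a)
  obtain ⟨j, rfl⟩ := Subgroup.mem_zpowers_iff.mp (hg b)
  rw [← zpow_add, ← zpow_add, add_comm]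

/-- the case where all centralizers of non-central elements are normal -/
theorem caseA [Finite G] (h : MC G) (hna : ∃ x : G, x ∉ Subgroup.center G)
    (hN : ∀ x : G, x ∉ Subgroup.center G → (Cn x).Normal) :
    ∃ p : ℕ, p.Prime ∧ IsElementaryAbelian p (⊤ : Subgroup (G ⧸ Subgroup.center G)) := by
  -- commutators are central
  have hcomm : ∀ g k : G, ⁅g, k⁆ ∈ Subgroup.center G := by
    intro g k
    rw [Subgroup.mem_center_iff]
    intro x
    by_cases hx : x ∈ Subgroup.center G
    · exact (Subgroup.mem_center_iff.mp hx _).symm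
    · haveI := hN x hx
      have hp := card_quotient_prime_of_coatom (Cn x) (h x hx)
      have h1 : ⁅g, k⁆ ∈ Cn x := by
        rw [← QuotientGroup.eq_one_iff, commutatorElement_def]
        simp only [QuotientGroup.mk_mul, QuotientGroup.mk_inv]
        rw [comm_of_prime_card hp (g : G ⧸ Cn x) k]
        group
      exact (mem_Cn.mp h1).symm
  have hQcomm : ∀ a b : G ⧸ Subgroup.center G, a * b = b * a := by
    intro a b
    induction a using QuotientGroup.induction_on with
    | H g =>
      induction b using QuotientGroup.induction_on with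
      | H k =>
        rw [← QuotientGroup.mk_mul, ← QuotientGroup.mk_mul, QuotientGroup.eq]
        have e : (g * k)⁻¹ * (k * g) = ⁅k⁻¹, g⁻¹⁆ := by
          rw [commutatorElement_def]; group
        rw [e]
        exact hcomm _ _
  -- every non-central element has prime order modulo the centre
  have hprime : ∀ x : G, x ∉ Subgroup.center G → ∃ p : ℕ, p.Prime ∧ x ^ p ∈ Subgroup.center G := by
    intro x hx
    haveI := hN x hx
    have hp := card_quotient_prime_of_coatom (Cn x) (h x hx)
    refine ⟨_, hp, ?_⟩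
    rw [Subgroup.mem_center_iff]
    intro g
    have hgp : g ^ Nat.card (G ⧸ Cn x) ∈ Cn x := by
      rw [← QuotientGroup.eq_one_iff, QuotientGroup.mk_pow]
      exact pow_card_eq_one'
    have hc := Subgroup.mem_center_iff.mp (hcomm g x)
    have hconj : g * x * g⁻¹ = ⁅g, x⁆ * x := by
      rw [commutatorElement_def]; group
    have hpow : ∀ n : ℕ, g ^ n * x * (g ^ n)⁻¹ = ⁅g, x⁆ ^ n * x := by
      intro n
      induction n with
      | zero => simp
      | succ n ih =>
        have e : g ^ (n + 1) * x * (g ^ (n + 1))⁻¹ = g * (g ^ n * x * (g ^ n)⁻¹) * g⁻¹ := by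
          rw [pow_succ']; group
        rw [e, ih]
        have e2 : g * (⁅g, x⁆ ^ n * x) * g⁻¹ = (g * ⁅g, x⁆ ^ n * g⁻¹) * (g * x * g⁻¹) := by group
        have hcn : g * ⁅g, x⁆ ^ n = ⁅g, x⁆ ^ n * g :=
          Subgroup.mem_center_iff.mp (Subgroup.pow_mem _ (hcomm g x) n) g
        rw [e2, hcn, mul_inv_cancel_right, hconj, ← mul_assoc, ← pow_succ]
    have h1 := hpow (Nat.card (G ⧸ Cn x))
    have h2 : g ^ Nat.card (G ⧸ Cn x) * x * (g ^ Nat.card (G ⧸ Cn x))⁻¹ = x := by
      rw [mem_Cn.mp hgp, mul_inv_cancel_right]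
    rw [h2] at h1
    have h3 : ⁅g, x⁆ ^ Nat.card (G ⧸ Cn x) = 1 := by
      have : 1 * x = ⁅g, x⁆ ^ Nat.card (G ⧸ Cn x) * x := by rw [one_mul]; exact h1
      exact (mul_right_cancel this).symm
    have h4 : g * x ^ Nat.card (G ⧸ Cn x) * g⁻¹ = x ^ Nat.card (G ⧸ Cn x) := by
      rw [← conj_pow, hconj, Commute.mul_pow (show Commute ⁅g, x⁆ x from (hc x).symm), h3, one_mul]
    calc g * x ^ Nat.card (G ⧸ Cn x)
        = (g * x ^ Nat.card (G ⧸ Cn x) * g⁻¹) * g := by group
      _ = x ^ Nat.card (G ⧸ Cn x) * g := by rw [h4]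
  obtain ⟨x₀, hx₀⟩ := hna
  obtain ⟨p, hp, hxp⟩ := hprime x₀ hx₀
  refine ⟨p, hp, ⟨⟨fun a b => Subtype.ext (hQcomm a b)⟩⟩, ?_⟩
  intro y _
  induction y using QuotientGroup.induction_on with
  | H y =>
    by_cases hy : y ∈ Subgroup.center G
    · rw [(QuotientGroup.eq_one_iff y).mpr hy, one_pow]
    · obtain ⟨q, hq, hyq⟩ := hprime y hy
      by_cases hpq : q = p
      · rw [← QuotientGroup.mk_pow, QuotientGroup.eq_one_iff, ← hpq]
        exact hyq
      · exfalso
        have o1 : orderOf (x₀ : G ⧸ Subgroup.center G) = p :=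
          ((Nat.dvd_prime hp).mp (pow_mem_center_iff.mp hxp)).resolve_left (orderOf_mk_ne_one hx₀)
        have o2 : orderOf (y : G ⧸ Subgroup.center G) = q :=
          ((Nat.dvd_prime hq).mp (pow_mem_center_iff.mp hyq)).resolve_left (orderOf_mk_ne_one hy)
        have hcop : Nat.Coprime (orderOf (x₀ : G ⧸ Subgroup.center G))
            (orderOf (y : G ⧸ Subgroup.center G)) := by
          rw [o1, o2]
          exact (Nat.coprime_primes hp hq).mpr (fun e => hpq e.symm)
        have o3 := Commute.orderOf_mul_eq_mul_orderOf_of_coprime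
          (show Commute (x₀ : G ⧸ Subgroup.center G) y from hQcomm _ _) hcop
        rw [o1, o2, ← QuotientGroup.mk_mul] at o3
        have hxy : x₀ * y ∉ Subgroup.center G := by
          intro hc
          rw [(QuotientGroup.eq_one_iff _).mpr hc, orderOf_one] at o3
          have := hp.two_le
          have := hq.two_le
          nlinarith
        obtain ⟨r, hr, hxyr⟩ := hprime _ hxy
        rw [pow_mem_center_iff, o3] at hxyr
        have e1 := (Nat.prime_dvd_prime_iff_eq hp hr).mp (dvd_trans (dvd_mul_right p q) hxyr)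
        have e2 := (Nat.prime_dvd_prime_iff_eq hq hr).mp (dvd_trans (dvd_mul_left q p) hxyr)
        exact hpq (e2.trans e1.symm)

end Cfsg.Agent.Lib.Helper69.MaxCent
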