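import Mathlib
import Cfsg.Agent.Lib.Helper48.RCBase

/-!
# Project RC (helper48, S1152 + S1157), piece RC-KERB (helper69)

An element of the kernel of `φ : SL₂(F) → G` (with `φ (up b) = T 0 b 0`,
`φ (lo b) = w * T 0 (-b) 0 * w`) has lower left entry `0`.
-/

set_option autoImplicit false

namespace Cfsg.Agent.Lib.Helper48.RC

section ok0

variable {F : Type*} [Field F] [Finite F] [CharP F 3] {G : Type*} [Group G] [Finite G]
variable {θ : F →+* F} {T : F → F → F → G} {H : Fˣ → G} {w : G}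

/-- Bruhat-type factorisation of an element of `SL₂` with nonzero lower left entry -/
theorem rckerb_factor {F : Type*} [Field F] (g : Matrix.SpecialLinearGroup (Fin 2) F)
    (hc : (g : Matrix (Fin 2) (Fin 2) F) 1 0 ≠ 0) :
    g = up (((g : Matrix (Fin 2) (Fin 2) F) 0 0 - 1) / (g : Matrix (Fin 2) (Fin 2) F) 1 0) *
      lo ((g : Matrix (Fin 2) (Fin 2) F) 1 0) *
      up (((g : Matrix (Fin 2) (Fin 2) F) 1 1 - 1) / (g : Matrix (Fin 2) (Fin 2) F) 1 0) := by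
  have hdet : (g : Matrix (Fin 2) (Fin 2) F) 0 0 * (g : Matrix (Fin 2) (Fin 2) F) 1 1 -
      (g : Matrix (Fin 2) (Fin 2) F) 0 1 * (g : Matrix (Fin 2) (Fin 2) F) 1 0 = 1 := by
    have := g.det_coe
    rw [Matrix.det_fin_two] at this
    exact this
  apply Subtype.ext
  show (g : Matrix (Fin 2) (Fin 2) F) = !![1, _; 0, 1] * !![1, 0; _, 1] * !![1, _; 0, 1]
  rw [Matrix.mul_fin_two, Matrix.mul_fin_two]
  generalize (g : Matrix (Fin 2) (Fin 2) F) = M at hc hdet ⊢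
  ext i j
  fin_cases i <;> fin_cases j
  · show M 0 0 = (1 * 1 + (M 0 0 - 1) / M 1 0 * M 1 0) * 1 + (1 * 0 + (M 0 0 - 1) / M 1 0 * 1) * 0
    field_simp
    ring
  · show M 0 1 = (1 * 1 + (M 0 0 - 1) / M 1 0 * M 1 0) * ((M 1 1 - 1) / M 1 0) +
      (1 * 0 + (M 0 0 - 1) / M 1 0 * 1) * 1
    field_simp
    linear_combination (-1 : F) * hdet
  · show M 1 0 = (0 * 1 + 1 * M 1 0) * 1 + (0 * 0 + 1 * 1) * 0
    ring
  · show M 1 1 = (0 * 1 + 1 * M 1 0) * ((M 1 1 - 1) / M 1 0) + (0 * 0 + 1 * 1) * 1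
    field_simp
    ring

-- piece RC-KERB
theorem ker_entry (h : Ok0 θ T H w) (φ : Matrix.SpecialLinearGroup (Fin 2) F →* G)
    (hup : ∀ b : F, φ (up b) = T 0 b 0) (hlo : ∀ b : F, φ (lo b) = w * T 0 (-b) 0 * w)
    (g : Matrix.SpecialLinearGroup (Fin 2) F) (hg : φ g = 1) :
    (g : Matrix (Fin 2) (Fin 2) F) 1 0 = 0 := by
  by_contra hc
  have hfac := rckerb_factor g hc
  rw [hfac, map_mul, map_mul, hup, hup, hlo] at hg
  -- `w * T 0 (-c) 0 * w` is in `Qs`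
  have hmem : w * T 0 (-(g : Matrix (Fin 2) (Fin 2) F) 1 0) 0 * w ∈ h.Bs := by
    have e : w * T 0 (-(g : Matrix (Fin 2) (Fin 2) F) 1 0) 0 * w =
        (T 0 (((g : Matrix (Fin 2) (Fin 2) F) 0 0 - 1) / (g : Matrix (Fin 2) (Fin 2) F) 1 0) 0)⁻¹ *
        (T 0 (((g : Matrix (Fin 2) (Fin 2) F) 1 1 - 1) / (g : Matrix (Fin 2) (Fin 2) F) 1 0) 0)⁻¹ := by
      rw [eq_mul_inv_iff_mul_eq]
      exact eq_inv_of_mul_eq_one_right (by rw [← mul_assoc]; exact hg)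
    rw [e]
    exact h.Qs_le_Bs (h.Qs.mul_mem (h.Qs.inv_mem (h.T_mem _ _ _)) (h.Qs.inv_mem (h.T_mem _ _ _)))
  have h1 := h.eq_one_of_wuw (h.T_mem 0 (-(g : Matrix (Fin 2) (Fin 2) F) 1 0) 0) hmem
  rw [← h.T_zero] at h1
  have h2 := (h.T_inj _ _ _ _ _ _ h1).2.1
  exact hc (neg_eq_zero.mp h2)

end ok0

end Cfsg.Agent.Lib.Helper48.RC
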