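import Mathlib
import Cfsg.Agent.Lib.Helper13.Basic

set_option autoImplicit false

/-!
Groups in which abelian subgroups of equal order are conjugate (`AC`-groups): basic tools for
showing that quotients of solvable `AC`-groups are `AC`.
-/

namespace Cfsg.Agent.Lib.Helper69.ACQ

/-- abelian subgroups of equal order are conjugate -/
def AC (G : Type*) [Group G] : Prop :=
  ∀ A B : Subgroup G, IsMulCommutative ↥A → IsMulCommutative ↥B → Nat.card ↥A = Nat.card ↥B →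
    ∃ g : G, B = A.map (MulAut.conj g).toMonoidHom

section basic

variable {G : Type*} [Group G]

theorem comm_of_imc {A : Subgroup G} (h : IsMulCommutative ↥A) :
    ∀ a ∈ A, ∀ b ∈ A, a * b = b * a := by
  intro a ha b hb
  have := h.is_comm.comm ⟨a, ha⟩ ⟨b, hb⟩
  exact congrArg Subtype.val this

theorem imc_of_comm {A : Subgroup G} (h : ∀ a ∈ A, ∀ b ∈ A, a * b = b * a) :
    IsMulCommutative ↥A :=
  ⟨⟨fun a b => Subtype.ext (h a a.2 b b.2)⟩⟩

theorem AC.conj_of_comm (h : AC G) {A B : Subgroup G} (hA : ∀ a ∈ A, ∀ b ∈ A, a * b = b * a)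
    (hB : ∀ a ∈ B, ∀ b ∈ B, a * b = b * a) (hc : Nat.card ↥A = Nat.card ↥B) :
    ∃ g : G, B = A.map (MulAut.conj g).toMonoidHom :=
  h A B (imc_of_comm hA) (imc_of_comm hB) hc

theorem AC.conj_of_orderOf (h : AC G) {x y : G} (hxy : orderOf x = orderOf y) :
    ∃ (g : G) (i : ℤ), y = g * x ^ i * g⁻¹ := by
  obtain ⟨g, hg⟩ := h (Subgroup.zpowers x) (Subgroup.zpowers y) inferInstance inferInstance
    (by rw [Nat.card_zpowers, Nat.card_zpowers, hxy])
  have hy : y ∈ (Subgroup.zpowers x).map (MulAut.conj g).toMonoidHom :=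
    hg ▸ Subgroup.mem_zpowers y
  obtain ⟨w, hw, rfl⟩ := hy
  obtain ⟨i, rfl⟩ := Subgroup.mem_zpowers_iff.mp hw
  exact ⟨g, i, rfl⟩

/-- in an `AC`-group a nontrivial normal `p`-subgroup contains all elements of order `p`. -/
theorem AC.mem_of_pow_eq_one [Finite G] (h : AC G) {p : ℕ} [Fact p.Prime] (N : Subgroup G)
    [hNn : N.Normal] (hN : N ≠ ⊥) (hNp : IsPGroup p N) {x : G} (hx : x ^ p = 1) : x ∈ N := by
  by_cases hx1 : x = 1
  · rw [hx1]; exact N.one_mem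
  have hxo : orderOf x = p := orderOf_eq_prime hx hx1
  have hdvd : p ∣ Nat.card N := by
    obtain ⟨k, hk⟩ := IsPGroup.iff_card.mp hNp
    have hk0 : k ≠ 0 := by
      rintro rfl
      rw [pow_zero] at hk
      exact hN (Subgroup.card_eq_one.mp hk)
    rw [hk]; exact dvd_pow_self p hk0
  obtain ⟨n, hn⟩ := exists_prime_orderOf_dvd_card' p hdvd
  have hno : orderOf (n : G) = p := by rw [Subgroup.orderOf_coe]; exact hn
  obtain ⟨g, i, hgi⟩ := h.conj_of_orderOf (hno.trans hxo.symm)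
  rw [hgi]
  exact hNn.conj_mem _ (N.zpow_mem n.2 i) g

/-- a homomorphism that is injective on a subgroup preserves its order -/
theorem card_map_of_inj_on {Q : Type*} [Group Q] (f : G →* Q) (K : Subgroup G)
    (h : ∀ x ∈ K, f x = 1 → x = 1) : Nat.card ↥(K.map f) = Nat.card ↥K := by
  symm
  refine Nat.card_congr (Equiv.ofBijective
    (fun k : K => (⟨f k, Subgroup.mem_map_of_mem f k.2⟩ : K.map f)) ⟨?_, ?_⟩)
  · intro a b hab
    have h1 : f (a : G) = f (b : G) := congrArg Subtype.val hab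
    have h2 : f ((a : G) * (b : G)⁻¹) = 1 := by
      rw [map_mul, map_inv, h1, mul_inv_cancel]
    have h3 := h _ (K.mul_mem a.2 (K.inv_mem b.2)) h2
    exact Subtype.ext (mul_inv_eq_one.mp h3)
  · rintro ⟨y, x, hx, rfl⟩
    exact ⟨⟨x, hx⟩, rfl⟩

/-- every `p`-subgroup is conjugate into a given Sylow `p`-subgroup -/
theorem conj_into_sylow [Finite G] {p : ℕ} [Fact p.Prime] (P : Sylow p G) {R : Subgroup G}
    (hR : IsPGroup p R) : ∃ g : G, ∀ x ∈ R, g⁻¹ * x * g ∈ (P : Subgroup G) := by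
  obtain ⟨Q, hQ⟩ := hR.exists_le_sylow
  obtain ⟨g, hg⟩ := MulAction.exists_smul_eq G P Q
  refine ⟨g, fun x hx => ?_⟩
  have h1 : x ∈ ((g • P : Sylow p G) : Subgroup G) := by rw [hg]; exact hQ hx
  rw [Sylow.smul_def, Sylow.pointwise_smul_def,
    Subgroup.mem_pointwise_smul_iff_inv_smul_mem] at h1
  simpa [MulAut.smul_def, MulAut.conj_apply] using h1

theorem card_le_sylow [Finite G] {p : ℕ} [Fact p.Prime] (P : Sylow p G) {R : Subgroup G}
    (hR : IsPGroup p R) : Nat.card R ≤ Nat.card (P : Subgroup G) := by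
  obtain ⟨Q, hQ⟩ := hR.exists_le_sylow
  have h1 : Nat.card R ≤ Nat.card (Q : Subgroup G) :=
    Nat.le_of_dvd Nat.card_pos (Subgroup.card_dvd_of_le hQ)
  rw [Sylow.card_eq_multiplicity] at h1 ⊢
  exact h1

/-- two subgroups of Sylow order inside a subgroup `C` are conjugate by an element of `C` -/
theorem sylow_conj_in [Finite G] {p : ℕ} [Fact p.Prime] (P : Sylow p G) (C S₁ S₂ : Subgroup G)
    (h₁ : S₁ ≤ C) (h₂ : S₂ ≤ C) (hc₁ : Nat.card S₁ = Nat.card (P : Subgroup G))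
    (hc₂ : Nat.card S₂ = Nat.card (P : Subgroup G)) :
    ∃ c ∈ C, ∀ x, x ∈ S₂ ↔ c⁻¹ * x * c ∈ S₁ := by
  have hm := P.card_eq_multiplicity
  let Q₁ : Sylow p G := Sylow.ofCard S₁ (hc₁.trans hm)
  let Q₂ : Sylow p G := Sylow.ofCard S₂ (hc₂.trans hm)
  have hQ₁ : (Q₁ : Subgroup G) = S₁ := rfl
  have hQ₂ : (Q₂ : Subgroup G) = S₂ := rfl
  let R₁ : Sylow p C := Q₁.subtype (hQ₁ ▸ h₁)
  let R₂ : Sylow p C := Q₂.subtype (hQ₂ ▸ h₂)
  obtain ⟨c, hc⟩ := MulAction.exists_smul_eq C R₁ R₂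
  refine ⟨c, c.2, fun x => ?_⟩
  constructor
  · intro hx
    have hxC : x ∈ C := h₂ hx
    have h1 : (⟨x, hxC⟩ : C) ∈ ((c • R₁ : Sylow p C) : Subgroup C) := by
      rw [hc]
      show (⟨x, hxC⟩ : C) ∈ S₂.subgroupOf C
      exact Subgroup.mem_subgroupOf.mpr hx
    rw [Sylow.smul_def, Sylow.pointwise_smul_def,
      Subgroup.mem_pointwise_smul_iff_inv_smul_mem] at h1
    have h2 : (MulAut.conj c)⁻¹ • (⟨x, hxC⟩ : C) ∈ S₁.subgroupOf C := h1
    rw [Subgroup.mem_subgroupOf] at h2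
    simpa [MulAut.smul_def, MulAut.conj_apply] using h2
  · intro hx
    have hxC : x ∈ C := by
      have h3 : (c : G)⁻¹ * x * (c : G) ∈ C := h₁ hx
      have : x = (c : G) * ((c : G)⁻¹ * x * (c : G)) * (c : G)⁻¹ := by group
      rw [this]
      exact C.mul_mem (C.mul_mem c.2 h3) (C.inv_mem c.2)
    have h1 : (⟨x, hxC⟩ : C) ∈ ((c • R₁ : Sylow p C) : Subgroup C) := by
      rw [Sylow.smul_def, Sylow.pointwise_smul_def,
        Subgroup.mem_pointwise_smul_iff_inv_smul_mem]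
      show (MulAut.conj c)⁻¹ • (⟨x, hxC⟩ : C) ∈ S₁.subgroupOf C
      rw [Subgroup.mem_subgroupOf]
      simpa [MulAut.smul_def, MulAut.conj_apply] using hx
    rw [hc] at h1
    have h2 : (⟨x, hxC⟩ : C) ∈ S₂.subgroupOf C := h1
    exact Subgroup.mem_subgroupOf.mp h2

end basic

section ppart

variable {Q : Type*} [Group Q]

/-- the `p`-primary part of a commutative subgroup -/
def pPart (p : ℕ) (A : Subgroup Q) (hA : ∀ a ∈ A, ∀ b ∈ A, a * b = b * a) : Subgroup Q where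
  carrier := {x | x ∈ A ∧ ∃ k : ℕ, x ^ (p ^ k) = 1}
  mul_mem' := by
    rintro a b ⟨ha, k, hk⟩ ⟨hb, l, hl⟩
    refine ⟨A.mul_mem ha hb, k + l, ?_⟩
    have hc : Commute a b := hA a ha b hb
    rw [hc.mul_pow, pow_add, pow_mul, hk, one_pow, mul_comm (p ^ k), pow_mul, hl, one_pow,
      one_mul]
  one_mem' := ⟨A.one_mem, 0, one_pow _⟩
  inv_mem' := by
    rintro a ⟨ha, k, hk⟩
    exact ⟨A.inv_mem ha, k, by rw [inv_pow, hk, inv_one]⟩

theorem mem_pPart {p : ℕ} {A : Subgroup Q} {hA : ∀ a ∈ A, ∀ b ∈ A, a * b = b * a} {x : Q} :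
    x ∈ pPart p A hA ↔ x ∈ A ∧ ∃ k : ℕ, x ^ (p ^ k) = 1 := Iff.rfl

theorem pPart_le {p : ℕ} {A : Subgroup Q} {hA : ∀ a ∈ A, ∀ b ∈ A, a * b = b * a} :
    pPart p A hA ≤ A := fun _ hx => hx.1

theorem pPart_isPGroup {p : ℕ} {A : Subgroup Q} {hA : ∀ a ∈ A, ∀ b ∈ A, a * b = b * a} :
    IsPGroup p ↥(pPart p A hA) := by
  rintro ⟨x, hx⟩
  obtain ⟨k, hk⟩ := hx.2
  exact ⟨k, Subtype.ext hk⟩

end ppart

section lift

variable {G : Type*} [Group G] {Q : Type*} [Group Q]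

/-- the commutators of the preimage of a commutative subgroup lie in the kernel -/
theorem comm_mem_ker (π : G →* Q) {Ā : Subgroup Q} (hc : ∀ a ∈ Ā, ∀ b ∈ Ā, a * b = b * a) :
    ∀ a ∈ Ā.comap π, ∀ b ∈ Ā.comap π, a * b * a⁻¹ * b⁻¹ ∈ π.ker := by
  intro a ha b hb
  rw [MonoidHom.mem_ker]
  simp only [map_mul, map_inv]
  rw [hc _ ha _ hb]
  group

theorem card_comap [Finite G] (π : G →* Q) (hπ : Function.Surjective π) (Ā : Subgroup Q) :
    Nat.card ↥(Ā.comap π) = Nat.card ↥π.ker * Nat.card ↥Ā := by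
  have h := Subgroup.relIndex_mul_relIndex ⊥ π.ker (Ā.comap π) bot_le (Subgroup.ker_le_comap _ _)
  rw [Subgroup.relIndex_bot_left, Subgroup.relIndex_bot_left, Subgroup.relIndex_ker,
    Subgroup.map_comap_eq_self_of_surjective hπ] at h
  exact h.symm

/-- Schur–Zassenhaus lifting: an abelian `p'`-subgroup of the quotient by a `p`-group lifts
isomorphically. -/
theorem lift_of_coprime [Finite G] (π : G →* Q) (hπ : Function.Surjective π) {p : ℕ}
    [Fact p.Prime] (hKp : IsPGroup p π.ker) (Ā : Subgroup Q)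
    (hc : ∀ a ∈ Ā, ∀ b ∈ Ā, a * b = b * a) (hcop : (Nat.card Ā).Coprime p) :
    ∃ A₀ : Subgroup G, (∀ a ∈ A₀, ∀ b ∈ A₀, a * b = b * a) ∧ A₀.map π = Ā ∧
      Nat.card A₀ = Nat.card Ā := by
  set A : Subgroup G := Ā.comap π with hA
  have hKA : π.ker ≤ A := Subgroup.ker_le_comap _ _
  have hcopN : (Nat.card (π.ker.subgroupOf A)).Coprime (π.ker.subgroupOf A).index := by
    have h1 : Nat.card (π.ker.subgroupOf A) = Nat.card π.ker :=
      Nat.card_congr (Subgroup.subgroupOfEquivOfLe hKA).toEquiv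
    have h2 : (π.ker.subgroupOf A).index = Nat.card Ā := by
      show π.ker.relIndex A = _
      rw [Subgroup.relIndex_ker, hA, Subgroup.map_comap_eq_self_of_surjective hπ]
    rw [h1, h2]
    obtain ⟨j, hj⟩ := IsPGroup.iff_card.mp hKp
    rw [hj]
    exact Nat.Coprime.pow_left j hcop.symm
  obtain ⟨H, hH⟩ := Subgroup.exists_right_complement'_of_coprime hcopN
  have hdisj : ∀ x ∈ H.map A.subtype, π x = 1 → x = 1 := by
    rintro x ⟨h, hh, rfl⟩ hx
    have h1 : h ∈ π.ker.subgroupOf A := Subgroup.mem_subgroupOf.mpr (MonoidHom.mem_ker.mpr hx)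
    have h2 := Subgroup.disjoint_def.mp hH.disjoint h1 hh
    rw [h2]; rfl
  have hle : H.map A.subtype ≤ A := by
    rintro x ⟨h, -, rfl⟩
    exact h.2
  have hmap : (H.map A.subtype).map π = Ā := by
    apply le_antisymm
    · rintro y ⟨x, hx, rfl⟩
      exact hle hx
    · intro y hy
      obtain ⟨a, rfl⟩ := hπ y
      have ha : a ∈ A := hy
      obtain ⟨⟨n, h⟩, hnh⟩ := (Subgroup.isComplement'_def.mp hH).2 (⟨a, ha⟩ : A)
      have h3 : ((n : A) : G) * ((h : A) : G) = a := congrArg Subtype.val hnh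
      have hn : π ((n : A) : G) = 1 := MonoidHom.mem_ker.mp (Subgroup.mem_subgroupOf.mp n.2)
      refine ⟨((h : A) : G), ⟨(h : A), h.2, rfl⟩, ?_⟩
      rw [← h3, map_mul, hn, one_mul]
  refine ⟨H.map A.subtype, ?_, hmap, ?_⟩
  · intro a ha b hb
    have h1 : a * b * a⁻¹ * b⁻¹ ∈ π.ker := comm_mem_ker π hc a (hle ha) b (hle hb)
    have h2 : a * b * a⁻¹ * b⁻¹ ∈ H.map A.subtype :=
      Subgroup.mul_mem _ (Subgroup.mul_mem _ (Subgroup.mul_mem _ ha hb) (Subgroup.inv_mem _ ha))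
        (Subgroup.inv_mem _ hb)
    have h3 := hdisj _ h2 (MonoidHom.mem_ker.mp h1)
    calc a * b = (a * b * a⁻¹ * b⁻¹) * b * a := by group
      _ = b * a := by rw [h3, one_mul]
  · rw [← card_map_of_inj_on π _ hdisj, hmap]

end lift

section central

variable {G : Type*} [Group G]

/-- if the kernel `K` has order `p`, contains all elements of order `p`, and `A/K` is abelian
and contains an element of order `p`, then `K` is central in `A`. -/
theorem central_of_card_prime {p : ℕ} [Fact p.Prime] (K A : Subgroup G)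
    (hKc : Nat.card K = p) (hΩ : ∀ x : G, x ^ p = 1 → x ∈ K)
    (hAc : ∀ a ∈ A, ∀ b ∈ A, a * b * a⁻¹ * b⁻¹ ∈ K) {t : G} (ht : t ∈ A) (htK : t ∉ K)
    (htp : t ^ p ∈ K) : ∀ a ∈ A, ∀ n ∈ K, a * n = n * a := by
  have h1 : t ^ p ≠ 1 := fun h => htK (hΩ t h)
  have hgen : ∀ n ∈ K, n ∈ Subgroup.zpowers (t ^ p) := by
    intro n hn
    have h2 := mem_zpowers_of_prime_card (G := K) hKc (g := ⟨t ^ p, htp⟩) (g' := ⟨n, hn⟩)
      (by intro h; exact h1 (congrArg Subtype.val h))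
    obtain ⟨i, hi⟩ := Subgroup.mem_zpowers_iff.mp h2
    exact Subgroup.mem_zpowers_iff.mpr ⟨i, by simpa using congrArg Subtype.val hi⟩
  intro a ha
  have hn₁ : t⁻¹ * a * t * a⁻¹ ∈ K := by
    have := hAc t⁻¹ (A.inv_mem ht) a ha
    rwa [inv_inv] at this
  have hcomm1 : Commute t (t⁻¹ * a * t * a⁻¹) := by
    obtain ⟨i, hi⟩ := Subgroup.mem_zpowers_iff.mp (hgen _ hn₁)
    rw [← hi]
    exact ((Commute.refl t).pow_right p).zpow_right i
  have hn₁p : (t⁻¹ * a * t * a⁻¹) ^ p = 1 := by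
    have h3 := pow_card_eq_one' (G := K) (x := ⟨_, hn₁⟩)
    rw [hKc] at h3
    simpa using congrArg Subtype.val h3
  have e1 : a * t * a⁻¹ = t * (t⁻¹ * a * t * a⁻¹) := by group
  have e2 : a * t ^ p * a⁻¹ = t ^ p := by
    rw [← conj_pow, e1, hcomm1.mul_pow, hn₁p, mul_one]
  have hcomm2 : Commute a (t ^ p) := by
    show a * t ^ p = t ^ p * a
    calc a * t ^ p = (a * t ^ p * a⁻¹) * a := by group
      _ = t ^ p * a := by rw [e2]
  intro n hn
  obtain ⟨i, hi⟩ := Subgroup.mem_zpowers_iff.mp (hgen n hn)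
  rw [← hi]
  exact (hcomm2.zpow_right i).eq

/-- with `K` of order `p` central in `A` and `A/K` abelian, `p`-th powers are central in `A` -/
theorem pow_central {p : ℕ} (K A : Subgroup G) (hKc : Nat.card K = p)
    (hAc : ∀ a ∈ A, ∀ b ∈ A, a * b * a⁻¹ * b⁻¹ ∈ K)
    (hcent : ∀ a ∈ A, ∀ n ∈ K, a * n = n * a) :
    ∀ a ∈ A, ∀ b ∈ A, a ^ p * b = b * a ^ p := by
  intro a ha b hb
  have hn : a⁻¹ * b * a * b⁻¹ ∈ K := by
    have := hAc a⁻¹ (A.inv_mem ha) b hb
    rwa [inv_inv] at this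
  have hcomm1 : Commute a (a⁻¹ * b * a * b⁻¹) := hcent a ha _ hn
  have hnp : (a⁻¹ * b * a * b⁻¹) ^ p = 1 := by
    have h3 := pow_card_eq_one' (G := K) (x := ⟨_, hn⟩)
    rw [hKc] at h3
    simpa using congrArg Subtype.val h3
  have e1 : b * a * b⁻¹ = a * (a⁻¹ * b * a * b⁻¹) := by group
  have e2 : b * a ^ p * b⁻¹ = a ^ p := by
    rw [← conj_pow, e1, hcomm1.mul_pow, hnp, mul_one]
  calc a ^ p * b = (b * a ^ p * b⁻¹) * b := by rw [e2]
    _ = b * a ^ p := by group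

/-- decomposition of the elements of `A` into a central `p'`-part and a `p`-part -/
theorem decomp [Finite G] {p : ℕ} [Fact p.Prime] (A : Subgroup G)
    (hpow : ∀ a ∈ A, ∀ b ∈ A, a ^ p * b = b * a ^ p) {e m : ℕ} (he : e ≠ 0)
    (hcard : Nat.card G = p ^ e * m) (hm : ¬ p ∣ m) {a : G} (ha : a ∈ A) :
    ∃ k s : G, a = k * s ∧ k ∈ A ∧ (∀ b ∈ A, k * b = b * k) ∧ k ^ m = 1 ∧ s ∈ A ∧
      s ^ (p ^ e) = 1 := by
  have hp : p.Prime := Fact.out
  have hcop : Nat.Coprime (p ^ e) m := Nat.Coprime.pow_left e ((Nat.Prime.coprime_iff_not_dvd hp).mpr hm)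
  have hco : IsCoprime ((p ^ e : ℕ) : ℤ) (m : ℤ) := Nat.isCoprime_iff_coprime.mpr hcop
  obtain ⟨u, v, huv⟩ := hco
  refine ⟨(a ^ (p ^ e)) ^ u, (a ^ m) ^ v, ?_, A.zpow_mem (A.pow_mem ha _) u, ?_, ?_,
    A.zpow_mem (A.pow_mem ha _) v, ?_⟩
  · rw [← zpow_natCast, ← zpow_natCast, ← zpow_mul, ← zpow_mul, ← zpow_add]
    have : ((p ^ e : ℕ) : ℤ) * u + (m : ℤ) * v = 1 := by rw [← huv]; ring
    rw [this, zpow_one]
  · intro b hb
    have h1 : Commute (a ^ p) b := hpow a ha b hb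
    have h2 : a ^ (p ^ e) = (a ^ p) ^ (p ^ (e - 1)) := by
      rw [← pow_mul, ← pow_succ']
      congr 2
      omega
    rw [h2]
    exact ((h1.pow_left _).zpow_left u).eq
  · have h1 : a ^ (p ^ e * m) = 1 := by rw [← hcard]; exact pow_card_eq_one'
    rw [← zpow_natCast, ← zpow_natCast, ← zpow_mul, ← zpow_mul]
    have h2 : ((p ^ e : ℕ) : ℤ) * (u * (m : ℤ)) = ((p ^ e * m : ℕ) : ℤ) * u := by
      push_cast; ring
    rw [h2, zpow_mul, zpow_natCast, h1, one_zpow]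
  · have h1 : a ^ (m * p ^ e) = 1 := by rw [mul_comm, ← hcard]; exact pow_card_eq_one'
    rw [← zpow_natCast, ← zpow_natCast, ← zpow_mul, ← zpow_mul]
    have h2 : (m : ℤ) * (v * ((p ^ e : ℕ) : ℤ)) = ((m * p ^ e : ℕ) : ℤ) * v := by
      push_cast; ring
    rw [h2, zpow_mul, zpow_natCast, h1, one_zpow]

/-- if moreover the `p`-elements of `A` commute, `A` is abelian -/
theorem comm_of_decomp [Finite G] {p : ℕ} [Fact p.Prime] (A : Subgroup G)
    (hpow : ∀ a ∈ A, ∀ b ∈ A, a ^ p * b = b * a ^ p) {e m : ℕ} (he : e ≠ 0)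
    (hcard : Nat.card G = p ^ e * m) (hm : ¬ p ∣ m)
    (hS : ∀ s ∈ A, ∀ s' ∈ A, s ^ (p ^ e) = 1 → s' ^ (p ^ e) = 1 → s * s' = s' * s) :
    ∀ a ∈ A, ∀ b ∈ A, a * b = b * a := by
  intro a ha b hb
  obtain ⟨k, s, rfl, hk, hkc, -, hs, hsp⟩ := decomp A hpow he hcard hm ha
  obtain ⟨k', s', rfl, hk', hkc', -, hs', hsp'⟩ := decomp A hpow he hcard hm hb
  have e1 : s * k' = k' * s := (hkc' s hs).symm
  have e2 : k * k' = k' * k := hkc k' hk'
  have e3 : s * s' = s' * s := hS s hs s' hs' hsp hsp'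
  have e4 : k * s' = s' * k := hkc s' hs'
  calc k * s * (k' * s') = k * (s * k') * s' := by group
    _ = k * (k' * s) * s' := by rw [e1]
    _ = (k * k') * (s * s') := by group
    _ = (k' * k) * (s' * s) := by rw [e2, e3]
    _ = k' * (k * s') * s := by group
    _ = k' * (s' * k) * s := by rw [e4]
    _ = k' * s' * (k * s) := by group

end central

end Cfsg.Agent.Lib.Helper69.ACQ
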