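import Mathlib
import Cfsg.Agent.Lib.Helper77.MaxPrimeIdx
import Cfsg.Agent.Lib.Helper69.ACQuotA

set_option autoImplicit false

/-!
A finite solvable group in which all cyclic subgroups of order `4` are conjugate has no
generalized quaternion Sylow `2`-subgroup of order at least `16`.
-/

namespace Cfsg.Agent.Lib.Helper69.ACQ

open Cfsg Cfsg.Agent.Lib.Helper30 Cfsg.Agent.Lib.Helper77

universe u

/-- a homomorphism injective on a subgroup preserves the orders of its elements -/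
theorem orderOf_map_of_inj_on {G Q : Type*} [Group G] [Group Q] (f : G →* Q) (K : Subgroup G)
    (h : ∀ x ∈ K, f x = 1 → x = 1) {x : G} (hx : x ∈ K) : orderOf (f x) = orderOf x := by
  apply Nat.dvd_antisymm (orderOf_map_dvd f x)
  apply orderOf_dvd_of_pow_eq_one
  apply h _ (K.pow_mem hx _)
  rw [map_pow, pow_orderOf_eq_one]

/-- the core case: `O(H) = 1`. -/
theorem no_gen_quat_core {H : Type u} [Group H] [Finite H] [Group.IsSolvable H]
    (hO : pPrimeCore 2 H = ⊥)
    (hconj : ∀ u v : H, orderOf u = 4 → orderOf v = 4 → ∃ (g : H) (i : ℤ), v = g * u ^ i * g⁻¹)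
    (P : Sylow 2 H) (c y z : H) (hc : c ∈ (P : Subgroup H)) (hc8 : 8 ∣ orderOf c)
    (hy : y ∈ (P : Subgroup H)) (hyc : y ∉ Subgroup.zpowers c)
    (hQ1 : ∀ x ∈ (P : Subgroup H), x ^ 2 = 1 → x = 1 ∨ x = z)
    (hQ2 : ∀ x ∈ (P : Subgroup H), x ∉ Subgroup.zpowers c → orderOf x = 4) : False := by
  haveI : Fact (Nat.Prime 2) := ⟨Nat.prime_two⟩
  have hDn : (pCore 2 H).Normal := pCore_normal 2 H
  have hD2 : IsPGroup 2 (pCore 2 H) := pCore_isPGroup 2
  have hCD : Subgroup.centralizer (pCore 2 H : Set H) ≤ pCore 2 H :=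
    centralizer_pCore_le_of_isSolvable 2 hO
  have hDP : pCore 2 H ≤ P := by
    obtain ⟨g, hg⟩ := conj_into_sylow P hD2
    intro x hx
    have h1 := hg (g * x * g⁻¹) (hDn.conj_mem x hx g)
    have : g⁻¹ * (g * x * g⁻¹) * g = x := by group
    rwa [this] at h1
  have hc0 : 0 < orderOf c := orderOf_pos c
  have h1 : ∃ u ∈ pCore 2 H, orderOf u = 4 := by
    by_contra hno
    push Not at hno
    have hsq : ∀ u ∈ pCore 2 H, u ^ 2 = 1 := by
      intro u hu
      obtain ⟨j, hj⟩ := (IsPGroup.iff_orderOf.mp hD2) ⟨u, hu⟩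
      rw [Subgroup.orderOf_mk] at hj
      by_cases hj1 : j ≤ 1
      · apply orderOf_dvd_iff_pow_eq_one.mp
        rw [hj]
        calc 2 ^ j ∣ 2 ^ 1 := pow_dvd_pow 2 hj1
          _ = 2 := pow_one 2
      · exfalso
        have h4 : orderOf (u ^ (2 ^ (j - 2))) = 4 := by
          rw [orderOf_pow_of_dvd (by positivity) (by rw [hj]; exact pow_dvd_pow 2 (by omega)),
            hj, Nat.pow_div (by omega) (by norm_num)]
          have : j - (j - 2) = 2 := by omega
          rw [this]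
        exact hno _ (Subgroup.pow_mem _ hu _) h4
    have htop : ∀ h : H, h ∈ Subgroup.centralizer (pCore 2 H : Set H) := by
      intro h
      rw [Subgroup.mem_centralizer_iff]
      intro d hd
      have h2 : h * d * h⁻¹ ∈ pCore 2 H := hDn.conj_mem _ hd h
      have h3 : h * d * h⁻¹ = d := by
        rcases hQ1 d (hDP hd) (hsq d hd) with h4 | h4
        · rw [h4]; group
        · rcases hQ1 _ (hDP h2) (hsq _ h2) with h5 | h5
          · have : d = 1 := by
              have : d = h⁻¹ * (h * d * h⁻¹) * h := by group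
              rw [this, h5]; group
            rw [this]; group
          · rw [h5, h4]
      calc d * h = (h * d * h⁻¹) * h := by rw [h3]
        _ = h * d := by group
    have hcD : c ∈ pCore 2 H := hCD (htop c)
    have h5 := orderOf_dvd_of_pow_eq_one (hsq c hcD)
    have h6 : 8 ∣ 2 := hc8.trans h5
    omega
  obtain ⟨u, huD, hu4⟩ := h1
  have hall : ∀ v, orderOf v = 4 → v ∈ pCore 2 H := by
    intro v hv
    obtain ⟨g, i, rfl⟩ := hconj u v hu4 hv
    exact hDn.conj_mem _ (Subgroup.zpow_mem _ huD i) g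
  have hy4 : orderOf y = 4 := hQ2 y hy hyc
  have hyD : y ∈ pCore 2 H := hall y hy4
  have hcD : c ∈ pCore 2 H := by
    have h2 : c * y ∉ Subgroup.zpowers c := by
      intro h
      apply hyc
      have : y = c⁻¹ * (c * y) := by group
      rw [this]
      exact Subgroup.mul_mem _ (Subgroup.inv_mem _ (Subgroup.mem_zpowers c)) h
    have h3 := hall _ (hQ2 _ (Subgroup.mul_mem _ hc hy) h2)
    have : c = (c * y) * y⁻¹ := by group
    rw [this]
    exact Subgroup.mul_mem _ h3 (Subgroup.inv_mem _ hyD)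
  have hnorm : ∀ g : H, g * c * g⁻¹ ∈ Subgroup.zpowers c := by
    intro g
    by_contra hn
    have h2 := hQ2 _ (hDP (hDn.conj_mem c hcD g)) hn
    have h3 : orderOf (g * c * g⁻¹) = orderOf c := by
      have := MulEquiv.orderOf_eq (MulAut.conj g) c
      rwa [MulAut.conj_apply] at this
    rw [h3] at h2
    rw [h2] at hc8
    omega
  have h4 : 4 ∣ orderOf c := (by norm_num : 4 ∣ 8).trans hc8
  have hu₀ : orderOf (c ^ (orderOf c / 4)) = 4 := by
    rw [orderOf_pow_of_dvd (by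
      have := Nat.div_pos (Nat.le_of_dvd hc0 h4) (by norm_num : 0 < 4)
      omega) (Nat.div_dvd_of_dvd h4)]
    exact Nat.div_div_self h4 hc0.ne'
  obtain ⟨g, i, hgi⟩ := hconj _ y hu₀ hy4
  apply hyc
  rw [hgi]
  have : g * (c ^ (orderOf c / 4)) ^ i * g⁻¹ = ((g * c * g⁻¹) ^ (orderOf c / 4)) ^ i := by
    rw [conj_pow, conj_zpow]
  rw [this]
  exact Subgroup.zpow_mem _ (Subgroup.pow_mem _ (hnorm g) _) i

/-- lifting elements of order `4` through a quotient by a normal subgroup of odd order -/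
theorem lift_order_four {G : Type*} [Group G] [Finite G] (N : Subgroup G) [N.Normal]
    (hN : Odd (Nat.card N)) (u' : G ⧸ N) (hu' : orderOf u' = 4) :
    ∃ u : G, orderOf u = 4 ∧ QuotientGroup.mk' N u = u' := by
  obtain ⟨w, rfl⟩ := QuotientGroup.mk'_surjective N u'
  have h1 : w ^ 4 ∈ N := by
    apply (QuotientGroup.eq_one_iff (w ^ 4)).mp
    have := pow_orderOf_eq_one (QuotientGroup.mk' N w)
    rw [hu'] at this
    simpa using this
  have h2 : (w ^ 4) ^ Nat.card N = 1 := by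
    have h3 : (⟨w ^ 4, h1⟩ : N) ^ Nat.card N = 1 := pow_card_eq_one'
    have h3' := congrArg Subtype.val h3
    rwa [Subgroup.coe_pow, Subgroup.coe_one] at h3'
  obtain ⟨r, hr⟩ := hN
  have hmm : Nat.card N * Nat.card N = 4 * (r * r + r) + 1 := by rw [hr]; ring
  have h4 : (w ^ (Nat.card N * Nat.card N)) ^ 4 = 1 := by
    rw [← pow_mul, mul_comm, ← mul_assoc, pow_mul, pow_mul, h2, one_pow]
  have h5 : QuotientGroup.mk' N (w ^ (Nat.card N * Nat.card N)) = QuotientGroup.mk' N w := by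
    rw [map_pow, hmm, pow_succ, pow_mul]
    have := pow_orderOf_eq_one (QuotientGroup.mk' N w)
    rw [hu'] at this
    rw [this, one_pow, one_mul]
  refine ⟨w ^ (Nat.card N * Nat.card N), ?_, h5⟩
  apply Nat.dvd_antisymm (orderOf_dvd_of_pow_eq_one h4)
  have h6 := orderOf_map_dvd (QuotientGroup.mk' N) (w ^ (Nat.card N * Nat.card N))
  rwa [h5, hu'] at h6

theorem conj4_quotient {G : Type*} [Group G] [Finite G] (N : Subgroup G) [N.Normal]
    (hN : Odd (Nat.card N))
    (hconj : ∀ u v : G, orderOf u = 4 → orderOf v = 4 → ∃ (g : G) (i : ℤ), v = g * u ^ i * g⁻¹) :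
    ∀ u v : G ⧸ N, orderOf u = 4 → orderOf v = 4 → ∃ (g : G ⧸ N) (i : ℤ),
      v = g * u ^ i * g⁻¹ := by
  intro u' v' hu' hv'
  obtain ⟨u, hu, rfl⟩ := lift_order_four N hN u' hu'
  obtain ⟨v, hv, rfl⟩ := lift_order_four N hN v' hv'
  obtain ⟨g, i, rfl⟩ := hconj u v hu hv
  exact ⟨QuotientGroup.mk' N g, i, by simp⟩

/-- a finite solvable group in which the cyclic subgroups of order `4` are conjugate has no
Sylow `2`-subgroup of generalized quaternion type of order at least `16`. -/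
theorem no_gen_quat {G : Type u} [Group G] [Finite G] [Group.IsSolvable G]
    (hconj : ∀ u v : G, orderOf u = 4 → orderOf v = 4 → ∃ (g : G) (i : ℤ), v = g * u ^ i * g⁻¹)
    (P : Sylow 2 G) (c y z : G) (hc : c ∈ (P : Subgroup G)) (hc8 : 8 ∣ orderOf c)
    (hy : y ∈ (P : Subgroup G)) (hyc : y ∉ Subgroup.zpowers c)
    (hQ1 : ∀ x ∈ (P : Subgroup G), x ^ 2 = 1 → x = 1 ∨ x = z)
    (hQ2 : ∀ x ∈ (P : Subgroup G), x ∉ Subgroup.zpowers c → orderOf x = 4) : False := by
  haveI : Fact (Nat.Prime 2) := ⟨Nat.prime_two⟩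
  haveI hNn : (pPrimeCore 2 G).Normal := pPrimeCore_normal 2 G
  have hsurj := QuotientGroup.mk'_surjective (pPrimeCore 2 G)
  have hcop : (Nat.card (pPrimeCore 2 G)).Coprime 2 := pPrimeCore_coprime 2
  have hodd : Odd (Nat.card (pPrimeCore 2 G)) := Nat.Coprime.odd_of_right hcop
  have hinj : ∀ x ∈ (P : Subgroup G), QuotientGroup.mk' (pPrimeCore 2 G) x = 1 → x = 1 := by
    intro x hx hx1
    have hxN : x ∈ pPrimeCore 2 G := (QuotientGroup.eq_one_iff x).mp hx1
    obtain ⟨j, hj⟩ := (IsPGroup.iff_orderOf.mp P.2) ⟨x, hx⟩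
    rw [Subgroup.orderOf_mk] at hj
    have h1 : orderOf x ∣ Nat.card (pPrimeCore 2 G) := by
      have := orderOf_dvd_natCard (⟨x, hxN⟩ : pPrimeCore 2 G)
      rwa [Subgroup.orderOf_mk] at this
    have h2 : (orderOf x).Coprime (orderOf x) := by
      have h3 : (orderOf x).Coprime 2 := Nat.Coprime.coprime_dvd_left h1 hcop
      have h4 : (orderOf x).Coprime (2 ^ j) := Nat.Coprime.pow_right j h3
      rwa [← hj] at h4
    exact orderOf_eq_one_iff.mp ((Nat.coprime_self _).mp h2)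
  have hP' : ((P.mapSurjective hsurj : Sylow 2 (G ⧸ pPrimeCore 2 G)) : Subgroup _) =
      (P : Subgroup G).map (QuotientGroup.mk' (pPrimeCore 2 G)) := Sylow.coe_mapSurjective hsurj P
  refine no_gen_quat_core (H := G ⧸ pPrimeCore 2 G) (pPrimeCore_quotient_eq_bot 2)
    (conj4_quotient _ hodd hconj) (P.mapSurjective hsurj)
    (QuotientGroup.mk' _ c) (QuotientGroup.mk' _ y) (QuotientGroup.mk' _ z) ?_ ?_ ?_ ?_ ?_ ?_
  · rw [hP']; exact Subgroup.mem_map_of_mem _ hc
  · rw [orderOf_map_of_inj_on _ _ hinj hc]; exact hc8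
  · rw [hP']; exact Subgroup.mem_map_of_mem _ hy
  · intro h
    obtain ⟨i, hi⟩ := Subgroup.mem_zpowers_iff.mp h
    apply hyc
    have h1 : QuotientGroup.mk' (pPrimeCore 2 G) (y * (c ^ i)⁻¹) = 1 := by
      rw [map_mul, map_inv, map_zpow, hi, mul_inv_cancel]
    have h2 := hinj _ (Subgroup.mul_mem _ hy (Subgroup.inv_mem _ (Subgroup.zpow_mem _ hc i))) h1
    rw [mul_inv_eq_one.mp h2]
    exact Subgroup.zpow_mem _ (Subgroup.mem_zpowers c) i
  · intro x' hx' hx2
    rw [hP'] at hx'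
    obtain ⟨x, hx, rfl⟩ := hx'
    have h1 : x ^ 2 = 1 := hinj _ (Subgroup.pow_mem _ hx 2) (by rw [map_pow]; exact hx2)
    rcases hQ1 x hx h1 with h | h
    · left; rw [h, map_one]
    · right; rw [h]
  · intro x' hx' hxc
    rw [hP'] at hx'
    obtain ⟨x, hx, rfl⟩ := hx'
    rw [orderOf_map_of_inj_on _ _ hinj hx]
    apply hQ2 x hx
    intro h
    apply hxc
    obtain ⟨i, hi⟩ := Subgroup.mem_zpowers_iff.mp h
    rw [← hi, map_zpow]
    exact Subgroup.zpow_mem _ (Subgroup.mem_zpowers _) i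

end Cfsg.Agent.Lib.Helper69.ACQ
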