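import Mathlib
import Cfsg.Agent.Lib.Helper69.ACQuotB

set_option autoImplicit false

/-!
Facts on `QuaternionGroup n` and their transport to a Sylow `2`-subgroup.
-/

namespace Cfsg.Agent.Lib.Helper69.ACQ

open Cfsg

universe u

theorem quat_sq_eq_one {n : ℕ} [NeZero n] (x : QuaternionGroup n) (hx : x ^ 2 = 1) :
    x = 1 ∨ x = QuaternionGroup.a n := by
  cases x with
  | a i =>
    rw [sq, QuaternionGroup.a_mul_a, QuaternionGroup.one_def] at hx
    have h0 : i + i = 0 := QuaternionGroup.a.inj hx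
    have h1 : ((i.val + i.val : ℕ) : ZMod (2 * n)) = 0 := by
      rw [Nat.cast_add, ZMod.natCast_zmod_val, h0]
    have h2 : 2 * n ∣ i.val + i.val := (ZMod.natCast_eq_zero_iff _ _).mp h1
    have h3 : i.val < 2 * n := ZMod.val_lt i
    obtain ⟨q, hq⟩ := h2
    have hq1 : q = 0 ∨ q = 1 := by
      by_contra hc
      push Not at hc
      have : 2 ≤ q := by omega
      have : 2 * n * 2 ≤ 2 * n * q := Nat.mul_le_mul_left _ this
      omega
    rcases hq1 with rfl | rfl
    · left
      have : i.val = 0 := by omega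
      rw [QuaternionGroup.one_def, (ZMod.val_eq_zero i).mp this]
    · right
      have : i.val = n := by omega
      rw [← ZMod.natCast_zmod_val i, this]
  | xa i =>
    exfalso
    have h1 := orderOf_dvd_of_pow_eq_one hx
    rw [QuaternionGroup.orderOf_xa] at h1
    omega

theorem quat_not_mem {n : ℕ} [NeZero n] (x : QuaternionGroup n)
    (hx : x ∉ Subgroup.zpowers (QuaternionGroup.a 1 : QuaternionGroup n)) : orderOf x = 4 := by
  cases x with
  | a i =>
    exfalso
    apply hx
    refine Subgroup.mem_zpowers_iff.mpr ⟨(i.val : ℤ), ?_⟩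
    rw [zpow_natCast, QuaternionGroup.a_one_pow, ZMod.natCast_zmod_val]
  | xa i => exact QuaternionGroup.orderOf_xa i

theorem quat_xa_not_mem {n : ℕ} [NeZero n] :
    (QuaternionGroup.xa 0 : QuaternionGroup n) ∉
      Subgroup.zpowers (QuaternionGroup.a 1 : QuaternionGroup n) := by
  intro h
  have h1 : (QuaternionGroup.xa 0 : QuaternionGroup n) ∈
      Submonoid.powers (QuaternionGroup.a 1 : QuaternionGroup n) :=
    mem_powers_iff_mem_zpowers.mpr h
  obtain ⟨k, hk⟩ := h1
  have hk' : (QuaternionGroup.a 1 : QuaternionGroup n) ^ k = QuaternionGroup.xa 0 := hk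
  rw [QuaternionGroup.a_one_pow] at hk'
  cases hk'

/-- the data of a generalized quaternion group carried to a subgroup isomorphic to it -/
theorem quat_data {G : Type*} [Group G] (P : Subgroup G) {n : ℕ} [NeZero n]
    (e : ↥P ≃* QuaternionGroup n) :
    ∃ c y z : G, c ∈ P ∧ orderOf c = 2 * n ∧ y ∈ P ∧ y ∉ Subgroup.zpowers c ∧
      (∀ x ∈ P, x ^ 2 = 1 → x = 1 ∨ x = z) ∧
      (∀ x ∈ P, x ∉ Subgroup.zpowers c → orderOf x = 4) := by
  refine ⟨(e.symm (QuaternionGroup.a 1) : G), (e.symm (QuaternionGroup.xa 0) : G),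
    (e.symm (QuaternionGroup.a n) : G), (e.symm _).2, ?_, (e.symm _).2, ?_, ?_, ?_⟩
  · rw [Subgroup.orderOf_coe, MulEquiv.orderOf_eq, QuaternionGroup.orderOf_a_one]
  · intro h
    obtain ⟨i, hi⟩ := Subgroup.mem_zpowers_iff.mp h
    apply quat_xa_not_mem (n := n)
    refine Subgroup.mem_zpowers_iff.mpr ⟨i, ?_⟩
    apply e.symm.injective
    apply Subtype.ext
    rw [map_zpow, Subgroup.coe_zpow]
    exact hi
  · intro x hx hx2
    have h1 : (e ⟨x, hx⟩) ^ 2 = 1 := by
      rw [← map_pow]
      have : (⟨x, hx⟩ : P) ^ 2 = 1 := Subtype.ext (by rw [Subgroup.coe_pow]; exact hx2)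
      rw [this, map_one]
    rcases quat_sq_eq_one _ h1 with h | h
    · left
      have : (⟨x, hx⟩ : P) = 1 := by
        apply e.injective
        rw [h, map_one]
      exact congrArg Subtype.val this
    · right
      have : (⟨x, hx⟩ : P) = e.symm (QuaternionGroup.a n) := by
        apply e.injective
        rw [h, MulEquiv.apply_symm_apply]
      exact congrArg Subtype.val this
  · intro x hx hxc
    have h1 : e ⟨x, hx⟩ ∉ Subgroup.zpowers (QuaternionGroup.a 1 : QuaternionGroup n) := by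
      intro h
      apply hxc
      obtain ⟨i, hi⟩ := Subgroup.mem_zpowers_iff.mp h
      refine Subgroup.mem_zpowers_iff.mpr ⟨i, ?_⟩
      have h2 : (⟨x, hx⟩ : P) = (e.symm (QuaternionGroup.a 1)) ^ i := by
        apply e.injective
        rw [map_zpow, MulEquiv.apply_symm_apply, hi]
      have h3 := congrArg Subtype.val h2
      rw [Subgroup.coe_zpow] at h3
      exact h3.symm
    have h2 := quat_not_mem _ h1
    rw [MulEquiv.orderOf_eq] at h2
    rw [← h2, ← Subgroup.orderOf_coe]

/-- a solvable `AC`-group has no generalized quaternion Sylow `2`-subgroup of order `≥ 16` -/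
theorem AC.no_gen_quat_sylow {G : Type u} [Group G] [Finite G] (hsol : Group.IsSolvable G)
    (hAC : AC G) (P : Sylow 2 G) (k : ℕ) (hk : 2 ≤ k)
    (e : ↥(P : Subgroup G) ≃* QuaternionGroup (2 ^ k)) : False := by
  haveI : NeZero (2 ^ k) := ⟨by positivity⟩
  obtain ⟨c, y, z, hc, hco, hy, hyc, hQ1, hQ2⟩ := quat_data (P : Subgroup G) e
  refine no_gen_quat (fun u v hu hv => hAC.conj_of_orderOf (hu.trans hv.symm)) P c y z hc ?_ hy
    hyc hQ1 hQ2
  rw [hco]
  obtain ⟨j, rfl⟩ : ∃ j, k = j + 2 := ⟨k - 2, by omega⟩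
  exact ⟨2 ^ j, by ring⟩

/-- subgroups of exponent `p` in a cyclic group have order at most `p` -/
theorem card_le_of_cyclic {G : Type*} [Group G] [Finite G] {p : ℕ} [Fact p.Prime]
    (P : Subgroup G) (hP : IsCyclic ↥P) (R : Subgroup G) (hRP : R ≤ P)
    (hR : ∀ x ∈ R, x ^ p = 1) : Nat.card R ≤ p := by
  have hp : p.Prime := Fact.out
  haveI : IsCyclic ↥(R.subgroupOf P) := inferInstance
  obtain ⟨r, hr⟩ := IsCyclic.exists_generator (α := ↥(R.subgroupOf P))
  have h1 : orderOf r = Nat.card ↥(R.subgroupOf P) := orderOf_eq_card_of_forall_mem_zpowers hr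
  have h2 : Nat.card ↥(R.subgroupOf P) = Nat.card R :=
    Nat.card_congr (Subgroup.subgroupOfEquivOfLe hRP).toEquiv
  have h3 : r ^ p = 1 := by
    apply Subtype.ext
    apply Subtype.ext
    have := hR ((r : P) : G) (Subgroup.mem_subgroupOf.mp r.2)
    simpa using this
  have h4 := orderOf_dvd_of_pow_eq_one h3
  rw [← h2, ← h1]
  exact Nat.le_of_dvd hp.pos h4

/-- subgroups of exponent `2` in a generalized quaternion group have order at most `2` -/
theorem card_le_of_quat {G : Type*} [Group G] [Finite G] (P : Subgroup G) {n : ℕ} [NeZero n]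
    (e : ↥P ≃* QuaternionGroup n) (R : Subgroup G) (hRP : R ≤ P)
    (hR : ∀ x ∈ R, x ^ 2 = 1) : Nat.card R ≤ 2 := by
  obtain ⟨c, y, z, -, -, -, -, hQ1, -⟩ := quat_data P e
  have hsub : (R : Set G) ⊆ {1, z} := by
    intro x hx
    rcases hQ1 x (hRP hx) (hR x hx) with h | h
    · left; exact h
    · right; exact h
  have h1 : Nat.card R = (R : Set G).ncard := Nat.card_coe_set_eq _
  rw [h1]
  calc (R : Set G).ncard ≤ ({1, z} : Set G).ncard := Set.ncard_le_ncard hsub (Set.toFinite _)
    _ ≤ ({z} : Set G).ncard + 1 := Set.ncard_insert_le 1 {z}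
    _ = 2 := by rw [Set.ncard_singleton]

end Cfsg.Agent.Lib.Helper69.ACQ
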