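import Mathlib
import Cfsg.Agent.S3908
import Cfsg.Agent.Lib.Helper69.ACQuotC

set_option autoImplicit false

/-!
Quotients of finite solvable `AC`-groups are `AC`-groups.
-/

namespace Cfsg.Agent.Lib.Helper69.ACQ

open Cfsg

universe u

section tools

variable {G : Type*} [Group G]

/-- uniform Sylow structure in `AC`-groups -/
theorem AC.sylow_structure [Finite G] (hAC : AC G) (p : ℕ) [Fact p.Prime] (P : Sylow p G) :
    IsCyclic ↥(P : Subgroup G) ∨
      (p = 2 ∧ ∃ k : ℕ, Nonempty (↥(P : Subgroup G) ≃* QuaternionGroup (2 ^ k))) ∨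
      ∀ x ∈ (P : Subgroup G), x ^ p = 1 := by
  by_cases hp2 : p = 2
  · subst hp2
    rcases (Cfsg.Agent.S3908.result hAC).1 P with h | h | h
    · exact Or.inl h
    · exact Or.inr (Or.inr h.2)
    · exact Or.inr (Or.inl ⟨rfl, h⟩)
  · rcases (Cfsg.Agent.S3908.result hAC).2 p hp2 P with h | h
    · exact Or.inl h
    · exact Or.inr (Or.inr h)

theorem cyclic_comm (S : Subgroup G) (h : IsCyclic ↥S) : ∀ a ∈ S, ∀ b ∈ S, a * b = b * a := by
  intro a ha b hb
  obtain ⟨g, hg⟩ := IsCyclic.exists_generator (α := ↥S)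
  obtain ⟨i, hi⟩ := Subgroup.mem_zpowers_iff.mp (hg ⟨a, ha⟩)
  obtain ⟨j, hj⟩ := Subgroup.mem_zpowers_iff.mp (hg ⟨b, hb⟩)
  have h1 : (⟨a, ha⟩ : S) * ⟨b, hb⟩ = ⟨b, hb⟩ * ⟨a, ha⟩ := by
    rw [← hi, ← hj]
    exact ((Commute.refl g).zpow_zpow i j).eq
  exact congrArg Subtype.val h1

theorem comm_of_card_le_sq {p : ℕ} [Fact p.Prime] (S : Subgroup G) (j : ℕ) (hj : j ≤ 2)
    (h : Nat.card S = p ^ j) : ∀ a ∈ S, ∀ b ∈ S, a * b = b * a := by
  interval_cases j
  · rw [pow_zero, Subgroup.card_eq_one] at h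
    intro a ha b hb
    rw [h, Subgroup.mem_bot] at ha hb
    rw [ha, hb]
  · rw [pow_one] at h
    exact cyclic_comm S (isCyclic_of_prime_card h)
  · exact comm_of_imc (IsPGroup.isMulCommutative_of_card_eq_prime_sq h)

/-- the central `p'`-part of `A` -/
def centPart (A : Subgroup G) (m : ℕ) : Subgroup G where
  carrier := {k | k ∈ A ∧ (∀ b ∈ A, k * b = b * k) ∧ k ^ m = 1}
  mul_mem' := by
    rintro k k' ⟨hk, hkc, hkm⟩ ⟨hk', hkc', hkm'⟩
    refine ⟨A.mul_mem hk hk', fun b hb => ?_, ?_⟩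
    · rw [mul_assoc, hkc' b hb, ← mul_assoc, hkc b hb, mul_assoc]
    · have hc : Commute k k' := hkc k' hk'
      rw [hc.mul_pow, hkm, hkm', one_mul]
  one_mem' := ⟨A.one_mem, fun b _ => by rw [one_mul, mul_one], one_pow _⟩
  inv_mem' := by
    rintro k ⟨hk, hkc, hkm⟩
    refine ⟨A.inv_mem hk, fun b hb => ?_, by rw [inv_pow, hkm, inv_one]⟩
    have hc : Commute k b := hkc b hb
    exact hc.inv_left.eq

theorem card_eq_centPart_mul [Finite G] {p : ℕ} [Fact p.Prime] (A S : Subgroup G) (m : ℕ)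
    (hm : ¬ p ∣ m) (hSA : S ≤ A) (hSp : IsPGroup p S)
    (hdec : ∀ a ∈ A, ∃ k s, a = k * s ∧ k ∈ A ∧ (∀ b ∈ A, k * b = b * k) ∧ k ^ m = 1 ∧ s ∈ S) :
    Nat.card A = Nat.card (centPart A m) * Nat.card S := by
  rw [← Nat.card_prod]
  symm
  refine Nat.card_congr (Equiv.ofBijective (fun x : centPart A m × S =>
    (⟨(x.1 : G) * (x.2 : G), A.mul_mem x.1.2.1 (hSA x.2.2)⟩ : A)) ⟨?_, ?_⟩)
  · rintro ⟨k, s⟩ ⟨k', s'⟩ h
    have h1 : (k : G) * (s : G) = (k' : G) * (s' : G) := congrArg Subtype.val h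
    have h2 : (k' : G)⁻¹ * (k : G) = (s' : G) * (s : G)⁻¹ := by
      calc (k' : G)⁻¹ * k = (k' : G)⁻¹ * (k * s) * (s : G)⁻¹ := by group
        _ = (k' : G)⁻¹ * (k' * s') * (s : G)⁻¹ := by rw [h1]
        _ = s' * (s : G)⁻¹ := by group
    have hw1 : (k' : G)⁻¹ * (k : G) ∈ centPart A m :=
      (centPart A m).mul_mem ((centPart A m).inv_mem k'.2) k.2
    have hw2 : (k' : G)⁻¹ * (k : G) ∈ S := by
      rw [h2]; exact S.mul_mem s'.2 (S.inv_mem s.2)
    have hw : (k' : G)⁻¹ * (k : G) = 1 := by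
      obtain ⟨j, hj⟩ := hSp ⟨_, hw2⟩
      have hj' : ((k' : G)⁻¹ * (k : G)) ^ (p ^ j) = 1 := by
        have := congrArg Subtype.val hj
        rwa [Subgroup.coe_pow, Subgroup.coe_one] at this
      have h3 : orderOf ((k' : G)⁻¹ * (k : G)) ∣ m := orderOf_dvd_of_pow_eq_one hw1.2.2
      have h4 : orderOf ((k' : G)⁻¹ * (k : G)) ∣ p ^ j := orderOf_dvd_of_pow_eq_one hj'
      have h5 : Nat.Coprime m (p ^ j) :=
        Nat.Coprime.pow_right j (Nat.Coprime.symm ((Nat.Prime.coprime_iff_not_dvd Fact.out).mpr hm))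
      exact orderOf_eq_one_iff.mp (Nat.eq_one_of_dvd_coprimes h5 h3 h4)
    have hk : (k : G) = k' := (inv_mul_eq_one.mp hw).symm
    have hs : (s : G) = s' := by
      rw [hk] at h1; exact mul_left_cancel h1
    exact Prod.ext (Subtype.ext hk) (Subtype.ext hs)
  · rintro ⟨a, ha⟩
    obtain ⟨k, s, rfl, hk, hkc, hkm, hs⟩ := hdec a ha
    exact ⟨(⟨k, hk, hkc, hkm⟩, ⟨s, hs⟩), rfl⟩

/-- `A = K_A S_A`, `B = K_B S_B` with `S_A`, `S_B` Sylow subgroups of `G` and `K_A`, `K_B` the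
central `p'`-parts: then `A` and `B` are conjugate. -/
theorem conj_of_sylow_type [Finite G] (hAC : AC G) {p : ℕ} [Fact p.Prime] (P : Sylow p G)
    (A B SA SB : Subgroup G) (m : ℕ) (hm : ¬ p ∣ m)
    (hSA : SA ≤ A) (hSB : SB ≤ B) (hcA : Nat.card SA = Nat.card (P : Subgroup G))
    (hcB : Nat.card SB = Nat.card (P : Subgroup G)) (hAB : Nat.card A = Nat.card B)
    (hdecA : ∀ a ∈ A, ∃ k s, a = k * s ∧ k ∈ A ∧ (∀ b ∈ A, k * b = b * k) ∧ k ^ m = 1 ∧ s ∈ SA)
    (hdecB : ∀ a ∈ B, ∃ k s, a = k * s ∧ k ∈ B ∧ (∀ b ∈ B, k * b = b * k) ∧ k ^ m = 1 ∧ s ∈ SB) :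
    ∃ g : G, B = A.map (MulAut.conj g).toMonoidHom := by
  have hPpos : 0 < Nat.card (P : Subgroup G) := Nat.card_pos
  have hSAp : IsPGroup p SA := IsPGroup.of_card (hcA.trans P.card_eq_multiplicity)
  have hSBp : IsPGroup p SB := IsPGroup.of_card (hcB.trans P.card_eq_multiplicity)
  have h1 := card_eq_centPart_mul A SA m hm hSA hSAp hdecA
  have h2 := card_eq_centPart_mul B SB m hm hSB hSBp hdecB
  have hK : Nat.card (centPart A m) = Nat.card (centPart B m) := by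
    rw [h1, h2, hcA, hcB] at hAB
    exact Nat.eq_of_mul_eq_mul_right hPpos hAB
  have hKAc : ∀ a ∈ centPart A m, ∀ b ∈ centPart A m, a * b = b * a :=
    fun a ha b hb => ha.2.1 b hb.1
  have hKBc : ∀ a ∈ centPart B m, ∀ b ∈ centPart B m, a * b = b * a :=
    fun a ha b hb => ha.2.1 b hb.1
  obtain ⟨g, hg⟩ := hAC.conj_of_comm hKAc hKBc hK
  have hS₁c : Nat.card (SA.map (MulAut.conj g).toMonoidHom) = Nat.card (P : Subgroup G) := by
    rw [Subgroup.card_map_of_injective (MulAut.conj g).injective, hcA]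
  have hS₁C : SA.map (MulAut.conj g).toMonoidHom ≤
      Subgroup.centralizer (centPart B m : Set G) := by
    rintro x ⟨s, hs, rfl⟩
    rw [Subgroup.mem_centralizer_iff]
    intro k' hk'
    have hk'' : k' ∈ (centPart A m).map (MulAut.conj g).toMonoidHom := by rw [← hg]; exact hk'
    obtain ⟨k, hk, rfl⟩ := hk''
    have h3 : k * s = s * k := hk.2.1 s (hSA hs)
    simp only [MulEquiv.coe_toMonoidHom, MulAut.conj_apply]
    calc g * k * g⁻¹ * (g * s * g⁻¹) = g * (k * s) * g⁻¹ := by group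
      _ = g * (s * k) * g⁻¹ := by rw [h3]
      _ = g * s * g⁻¹ * (g * k * g⁻¹) := by group
  have hSBC : SB ≤ Subgroup.centralizer (centPart B m : Set G) := by
    intro s hs
    rw [Subgroup.mem_centralizer_iff]
    intro k' hk'
    exact hk'.2.1 s (hSB hs)
  obtain ⟨c, hcC, hc⟩ := sylow_conj_in P _ _ SB hS₁C hSBC hS₁c hcB
  refine ⟨c * g, ?_⟩
  symm
  apply Subgroup.eq_of_le_of_card_ge
  · rintro x ⟨a, ha, rfl⟩
    obtain ⟨k, s, rfl, hk, hkc, hkm, hs⟩ := hdecA a ha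
    have hk1 : g * k * g⁻¹ ∈ centPart B m := by
      rw [hg]; exact ⟨k, ⟨hk, hkc, hkm⟩, rfl⟩
    have hk2 : c * (g * k * g⁻¹) * c⁻¹ = g * k * g⁻¹ := by
      have := (Subgroup.mem_centralizer_iff.mp hcC) _ hk1
      calc c * (g * k * g⁻¹) * c⁻¹ = ((g * k * g⁻¹) * c) * c⁻¹ := by rw [this]
        _ = g * k * g⁻¹ := by group
    have hs1 : c * (g * s * g⁻¹) * c⁻¹ ∈ SB := by
      rw [hc]
      have : c⁻¹ * (c * (g * s * g⁻¹) * c⁻¹) * c = g * s * g⁻¹ := by group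
      rw [this]
      exact ⟨s, hs, rfl⟩
    have : (MulAut.conj (c * g)).toMonoidHom (k * s) =
        (c * (g * k * g⁻¹) * c⁻¹) * (c * (g * s * g⁻¹) * c⁻¹) := by
      simp only [MulEquiv.coe_toMonoidHom, MulAut.conj_apply]; group
    rw [this, hk2]
    exact B.mul_mem hk1.1 (hSB hs1)
  · rw [Subgroup.card_map_of_injective (MulAut.conj (c * g)).injective, hAB]

/-- if the Sylow order divides `|B|` then the subgroup of all `p`-elements of `B` (assumed to
be a `p`-group) has Sylow order. -/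
theorem card_sylow_of_dvd [Finite G] {p : ℕ} [Fact p.Prime] (P : Sylow p G)
    (B SB : Subgroup G) (hSBp : IsPGroup p SB)
    (hmem : ∀ s ∈ B, ∀ j, s ^ (p ^ j) = 1 → s ∈ SB)
    (hdvd : Nat.card (P : Subgroup G) ∣ Nat.card B) :
    Nat.card SB = Nat.card (P : Subgroup G) := by
  apply le_antisymm (card_le_sylow P hSBp)
  rw [P.card_eq_multiplicity] at hdvd ⊢
  obtain ⟨R, hR⟩ := Sylow.exists_subgroup_card_pow_prime p hdvd
  have hle : R.map B.subtype ≤ SB := by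
    rintro x ⟨r, hr, rfl⟩
    apply hmem _ r.2 ((Nat.card G).factorization p)
    have h3 : (⟨r, hr⟩ : R) ^ Nat.card R = 1 := pow_card_eq_one'
    rw [hR] at h3
    have h4 := congrArg Subtype.val (congrArg Subtype.val h3)
    simpa using h4
  calc p ^ (Nat.card G).factorization p = Nat.card R := hR.symm
    _ = Nat.card (R.map B.subtype) :=
        (Subgroup.card_map_of_injective B.subtype_injective).symm
    _ ≤ Nat.card SB := Nat.le_of_dvd Nat.card_pos (Subgroup.card_dvd_of_le hle)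

end tools

end Cfsg.Agent.Lib.Helper69.ACQ
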