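import Mathlib
import Cfsg.Agent.Lib.Helper69.ACQuotD

set_option autoImplicit false

/-!
Quotients of finite solvable `AC`-groups are `AC`-groups: the main step and the induction.
-/

namespace Cfsg.Agent.Lib.Helper69.ACQ

open Cfsg

universe u

section step

variable {G : Type*} [Group G] {Q : Type*} [Group Q]

theorem conj_map_of_conj (π : G →* Q) (A₀ B₀ : Subgroup G) (g : G)
    (h : B₀ = A₀.map (MulAut.conj g).toMonoidHom) :
    B₀.map π = (A₀.map π).map (MulAut.conj (π g)).toMonoidHom := by
  rw [h, Subgroup.map_map, Subgroup.map_map]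
  congr 1
  ext x
  simp

theorem pow_central_comap [Finite G] (π : G →* Q) (hπ : Function.Surjective π) {p : ℕ}
    [Fact p.Prime] (hKc : Nat.card π.ker = p) (hΩ : ∀ x : G, x ^ p = 1 → x ∈ π.ker)
    (Aq : Subgroup Q) (hc : ∀ a ∈ Aq, ∀ b ∈ Aq, a * b = b * a) (hp : p ∣ Nat.card Aq) :
    ∀ a ∈ Aq.comap π, ∀ b ∈ Aq.comap π, a ^ p * b = b * a ^ p := by
  haveI : Finite Q := Finite.of_surjective π hπ
  obtain ⟨x, hx⟩ := exists_prime_orderOf_dvd_card' (G := Aq) p hp
  obtain ⟨t, ht⟩ := hπ (x : Q)
  have htA : t ∈ Aq.comap π := by rw [Subgroup.mem_comap, ht]; exact x.2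
  have htK : t ∉ π.ker := by
    intro h
    rw [MonoidHom.mem_ker, ht] at h
    have h1 : x = 1 := Subtype.ext h
    rw [h1, orderOf_one] at hx
    exact (Fact.out : p.Prime).one_lt.ne hx
  have htp : t ^ p ∈ π.ker := by
    rw [MonoidHom.mem_ker, map_pow, ht, ← Subgroup.coe_pow, ← hx, pow_orderOf_eq_one,
      Subgroup.coe_one]
  have hAc := comm_mem_ker π hc
  have hcent := central_of_card_prime π.ker (Aq.comap π) hKc hΩ hAc htA htK htp
  exact pow_central π.ker (Aq.comap π) hKc hAc hcent

/-- the main step: the quotient of a solvable `AC`-group by a nontrivial normal subgroup of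
exponent `p` is an `AC`-group. -/
theorem step1 {G : Type u} [Group G] [Finite G] (π : G →* Q) (hπ : Function.Surjective π)
    (hAC : AC G) (hsol : Group.IsSolvable G) {p : ℕ} [Fact p.Prime] (hK1 : π.ker ≠ ⊥)
    (hKexp : ∀ x ∈ π.ker, x ^ p = 1) : AC Q := by
  have hp : p.Prime := Fact.out
  haveI : Finite Q := Finite.of_surjective π hπ
  have hKp : IsPGroup p π.ker := Cfsg.Agent.Lib.Helper13.isPGroup_of_exponent p π.ker hKexp
  have hΩ : ∀ x : G, x ^ p = 1 → x ∈ π.ker :=
    fun x hx => hAC.mem_of_pow_eq_one π.ker hK1 hKp hx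
  intro Aq Bq hAq hBq hcard
  have hcA := comm_of_imc hAq
  have hcB := comm_of_imc hBq
  have key : ∀ (A₀ B₀ : Subgroup G), (∀ a ∈ A₀, ∀ b ∈ A₀, a * b = b * a) →
      (∀ a ∈ B₀, ∀ b ∈ B₀, a * b = b * a) → Nat.card A₀ = Nat.card B₀ → A₀.map π = Aq →
      B₀.map π = Bq → ∃ g : Q, Bq = Aq.map (MulAut.conj g).toMonoidHom := by
    intro A₀ B₀ hA₀ hB₀ hc hA hB
    obtain ⟨g, hg⟩ := hAC.conj_of_comm hA₀ hB₀ hc
    refine ⟨π g, ?_⟩
    rw [← hA, ← hB]
    exact conj_map_of_conj π A₀ B₀ g hg
  by_cases hpA : p ∣ Nat.card Aq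
  · have hpB : p ∣ Nat.card Bq := hcard ▸ hpA
    obtain ⟨P⟩ : Nonempty (Sylow p G) := inferInstance
    -- the Sylow subgroup does not have exponent `p`
    have hnexp : ¬ ∀ x ∈ (P : Subgroup G), x ^ p = 1 := by
      intro hexp
      obtain ⟨x, hx⟩ := exists_prime_orderOf_dvd_card' (G := Aq) p hpA
      obtain ⟨t, ht⟩ := hπ (x : Q)
      have htp : t ^ p ∈ π.ker := by
        rw [MonoidHom.mem_ker, map_pow, ht, ← Subgroup.coe_pow, ← hx, pow_orderOf_eq_one,
          Subgroup.coe_one]
      have htpp : t ^ (p ^ 2) = 1 := by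
        rw [pow_two, pow_mul]; exact hKexp _ htp
      have hpg : IsPGroup p (Subgroup.zpowers t) := by
        rintro ⟨y, hy⟩
        obtain ⟨i, rfl⟩ := Subgroup.mem_zpowers_iff.mp hy
        refine ⟨2, Subtype.ext ?_⟩
        rw [Subgroup.coe_pow, Subgroup.coe_one]
        show (t ^ i) ^ (p ^ 2) = 1
        rw [← zpow_natCast, ← zpow_mul, mul_comm, zpow_mul, zpow_natCast, htpp, one_zpow]
      obtain ⟨g, hg⟩ := conj_into_sylow P hpg
      have h1 := hexp _ (hg t (Subgroup.mem_zpowers t))
      have h2 : t ^ p = 1 := by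
        have h3 : (g⁻¹ * t * g) ^ p = g⁻¹ * t ^ p * g := by
          have := conj_pow (a := g⁻¹) (b := t) (i := p)
          simpa using this
        rw [h3] at h1
        calc t ^ p = g * (g⁻¹ * t ^ p * g) * g⁻¹ := by group
          _ = 1 := by rw [h1]; group
      have h3 : t ∈ π.ker := hΩ t h2
      rw [MonoidHom.mem_ker, ht] at h3
      have h4 : x = 1 := Subtype.ext h3
      rw [h4, orderOf_one] at hx
      exact hp.one_lt.ne hx
    have hcases : IsCyclic ↥(P : Subgroup G) ∨
        (p = 2 ∧ ∃ k : ℕ, Nonempty (↥(P : Subgroup G) ≃* QuaternionGroup (2 ^ k))) := by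
      rcases hAC.sylow_structure p P with h | h | h
      · exact Or.inl h
      · exact Or.inr h
      · exact absurd h hnexp
    have hKP : π.ker ≤ P := by
      obtain ⟨g, hg⟩ := conj_into_sylow P hKp
      intro x hx
      have h1 := hg (g * x * g⁻¹) ((inferInstance : π.ker.Normal).conj_mem x hx g)
      have : g⁻¹ * (g * x * g⁻¹) * g = x := by group
      rwa [this] at h1
    have hKle : Nat.card π.ker ≤ p := by
      rcases hcases with h | ⟨h2, k, ⟨e⟩⟩
      · exact card_le_of_cyclic P h π.ker hKP hKexp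
      · subst h2
        haveI : NeZero (2 ^ k) := ⟨by positivity⟩
        exact card_le_of_quat P e π.ker hKP hKexp
    have hKc : Nat.card π.ker = p := by
      obtain ⟨j, hj⟩ := IsPGroup.iff_card.mp hKp
      have hj0 : j ≠ 0 := by
        rintro rfl
        rw [pow_zero] at hj
        exact hK1 (Subgroup.card_eq_one.mp hj)
      have h1 : p ^ 1 ≤ p ^ j := Nat.pow_le_pow_right hp.pos (by omega)
      rw [pow_one] at h1
      omega
    obtain ⟨e, m, hm, hcardG⟩ :=
      Nat.exists_eq_pow_mul_and_not_dvd (Nat.card_pos (α := G)).ne' p hp.ne_one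
    have he : e ≠ 0 := by
      rintro rfl
      rw [pow_zero, one_mul] at hcardG
      have h1 : p ∣ Nat.card G := hKc ▸ Subgroup.card_subgroup_dvd_card π.ker
      rw [hcardG] at h1
      exact hm h1
    have hpowA := pow_central_comap π hπ hKc hΩ Aq hcA hpA
    have hpowB := pow_central_comap π hπ hKc hΩ Bq hcB hpB
    have hcardAB : Nat.card (Aq.comap π) = Nat.card (Bq.comap π) := by
      rw [card_comap π hπ, card_comap π hπ, hcard]
    have hSAp : IsPGroup p ((pPart p Aq hcA).comap π) :=
      IsPGroup.comap_of_ker_isPGroup pPart_isPGroup π hKp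
    have hSBp : IsPGroup p ((pPart p Bq hcB).comap π) :=
      IsPGroup.comap_of_ker_isPGroup pPart_isPGroup π hKp
    have hSAle : (pPart p Aq hcA).comap π ≤ Aq.comap π := Subgroup.comap_mono pPart_le
    have hSBle : (pPart p Bq hcB).comap π ≤ Bq.comap π := Subgroup.comap_mono pPart_le
    have hmemSA : ∀ s ∈ Aq.comap π, ∀ j, s ^ (p ^ j) = 1 → s ∈ (pPart p Aq hcA).comap π := by
      intro s hs j hj
      exact ⟨hs, j, by rw [← map_pow, hj, map_one]⟩
    have hmemSB : ∀ s ∈ Bq.comap π, ∀ j, s ^ (p ^ j) = 1 → s ∈ (pPart p Bq hcB).comap π := by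
      intro s hs j hj
      exact ⟨hs, j, by rw [← map_pow, hj, map_one]⟩
    have habel : (∀ s ∈ (pPart p Aq hcA).comap π, ∀ s' ∈ (pPart p Aq hcA).comap π,
        s * s' = s' * s) → (∀ s ∈ (pPart p Bq hcB).comap π, ∀ s' ∈ (pPart p Bq hcB).comap π,
        s * s' = s' * s) → ∃ g : Q, Bq = Aq.map (MulAut.conj g).toMonoidHom := by
      intro h1 h2
      have hA := comm_of_decomp (Aq.comap π) hpowA he hcardG hm
        (fun s hs s' hs' h h' => h1 s (hmemSA s hs e h) s' (hmemSA s' hs' e h'))
      have hB := comm_of_decomp (Bq.comap π) hpowB he hcardG hm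
        (fun s hs s' hs' h h' => h2 s (hmemSB s hs e h) s' (hmemSB s' hs' e h'))
      exact key _ _ hA hB hcardAB (Subgroup.map_comap_eq_self_of_surjective hπ _)
        (Subgroup.map_comap_eq_self_of_surjective hπ _)
    have hPcomm : (∀ a ∈ (P : Subgroup G), ∀ b ∈ (P : Subgroup G), a * b = b * a) →
        ∀ R : Subgroup G, IsPGroup p R → ∀ s ∈ R, ∀ s' ∈ R, s * s' = s' * s := by
      intro hPc R hR s hs s' hs'
      obtain ⟨g, hg⟩ := conj_into_sylow P hR
      have h1 := hPc _ (hg s hs) _ (hg s' hs')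
      calc s * s' = g * ((g⁻¹ * s * g) * (g⁻¹ * s' * g)) * g⁻¹ := by group
        _ = g * ((g⁻¹ * s' * g) * (g⁻¹ * s * g)) * g⁻¹ := by rw [h1]
        _ = s' * s := by group
    have hcyc : IsCyclic ↥(P : Subgroup G) → ∃ g : Q, Bq = Aq.map (MulAut.conj g).toMonoidHom := by
      intro h
      have hPc := cyclic_comm (P : Subgroup G) h
      exact habel (hPcomm hPc _ hSAp) (hPcomm hPc _ hSBp)
    rcases hcases with h | ⟨h2, k, ⟨e'⟩⟩
    · exact hcyc h
    · subst h2
      rcases Nat.lt_or_ge k 2 with hk | hk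
      · interval_cases k
        · -- cyclic of order 4
          apply hcyc
          have e0 : ↥(P : Subgroup G) ≃* QuaternionGroup 1 := e'
          haveI := QuaternionGroup.quaternionGroup_one_isCyclic
          exact isCyclic_of_surjective e0.symm e0.symm.surjective
        · -- quaternion of order 8
          have hP8 : Nat.card (P : Subgroup G) = 8 := by
            have e1 : ↥(P : Subgroup G) ≃* QuaternionGroup 2 := e'
            rw [Nat.card_congr e1.toEquiv, Nat.card_eq_fintype_card, QuaternionGroup.card]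
          have hdecA : ∀ a ∈ Aq.comap π, ∃ k s, a = k * s ∧ k ∈ Aq.comap π ∧
              (∀ b ∈ Aq.comap π, k * b = b * k) ∧ k ^ m = 1 ∧ s ∈ (pPart 2 Aq hcA).comap π := by
            intro a ha
            obtain ⟨k, s, h1, h2, h3, h4, h5, h6⟩ := decomp (Aq.comap π) hpowA he hcardG hm ha
            exact ⟨k, s, h1, h2, h3, h4, hmemSA s h5 e h6⟩
          have hdecB : ∀ a ∈ Bq.comap π, ∃ k s, a = k * s ∧ k ∈ Bq.comap π ∧
              (∀ b ∈ Bq.comap π, k * b = b * k) ∧ k ^ m = 1 ∧ s ∈ (pPart 2 Bq hcB).comap π := by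
            intro a ha
            obtain ⟨k, s, h1, h2, h3, h4, h5, h6⟩ := decomp (Bq.comap π) hpowB he hcardG hm ha
            exact ⟨k, s, h1, h2, h3, h4, hmemSB s h5 e h6⟩
          have hsyl : Nat.card ((pPart 2 Aq hcA).comap π) = Nat.card (P : Subgroup G) →
              Nat.card ((pPart 2 Bq hcB).comap π) = Nat.card (P : Subgroup G) →
              ∃ g : Q, Bq = Aq.map (MulAut.conj g).toMonoidHom := by
            intro h1 h2
            obtain ⟨g, hg⟩ := conj_of_sylow_type hAC P (Aq.comap π) (Bq.comap π) _ _ m hm hSAle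
              hSBle h1 h2 hcardAB hdecA hdecB
            refine ⟨π g, ?_⟩
            have h3 := conj_map_of_conj π _ _ g hg
            rwa [Subgroup.map_comap_eq_self_of_surjective hπ,
              Subgroup.map_comap_eq_self_of_surjective hπ] at h3
          have hsmall : ∀ S : Subgroup G, IsPGroup 2 S → Nat.card S ≠ Nat.card (P : Subgroup G) →
              ∀ a ∈ S, ∀ b ∈ S, a * b = b * a := by
            intro S hS hne
            obtain ⟨j, hj⟩ := IsPGroup.iff_card.mp hS
            have hle := card_le_sylow P hS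
            rw [hP8] at hle hne
            have hj2 : j ≤ 2 := by
              by_contra hc
              have h3 : 3 ≤ j := by omega
              have h4 : 2 ^ 3 ≤ 2 ^ j := Nat.pow_le_pow_right (by norm_num) h3
              omega
            exact comm_of_card_le_sq S j hj2 hj
          by_cases h8A : Nat.card ((pPart 2 Aq hcA).comap π) = Nat.card (P : Subgroup G)
          · have h8B : Nat.card ((pPart 2 Bq hcB).comap π) = Nat.card (P : Subgroup G) := by
              apply card_sylow_of_dvd P (Bq.comap π) _ hSBp hmemSB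
              rw [← hcardAB, ← h8A]
              exact Subgroup.card_dvd_of_le hSAle
            exact hsyl h8A h8B
          · by_cases h8B : Nat.card ((pPart 2 Bq hcB).comap π) = Nat.card (P : Subgroup G)
            · exfalso
              apply h8A
              apply card_sylow_of_dvd P (Aq.comap π) _ hSAp hmemSA
              rw [hcardAB, ← h8B]
              exact Subgroup.card_dvd_of_le hSBle
            · exact habel (hsmall _ hSAp h8A) (hsmall _ hSBp h8B)
      · exact (hAC.no_gen_quat_sylow hsol P k hk e').elim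
  · have hcopA : (Nat.card Aq).Coprime p :=
      Nat.Coprime.symm ((Nat.Prime.coprime_iff_not_dvd hp).mpr hpA)
    have hcopB : (Nat.card Bq).Coprime p := hcard ▸ hcopA
    obtain ⟨A₀, hA₀c, hA₀m, hA₀n⟩ := lift_of_coprime π hπ hKp Aq hcA hcopA
    obtain ⟨B₀, hB₀c, hB₀m, hB₀n⟩ := lift_of_coprime π hπ hKp Bq hcB hcopB
    exact key A₀ B₀ hA₀c hB₀c (by rw [hA₀n, hB₀n, hcard]) hA₀m hB₀m

end step

/-- every homomorphic image of a finite solvable `AC`-group is an `AC`-group -/
theorem AC.of_surjective : ∀ (n : ℕ) (G : Type u) [Group G] [Finite G], Nat.card G = n →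
    AC G → Group.IsSolvable G → ∀ (H : Type u) [Group H] (f : G →* H),
    Function.Surjective f → AC H := by
  intro n
  induction n using Nat.strong_induction_on with
  | _ n ih =>
    intro G _ _ hn hAC hsol H _ f hf
    by_cases hker : f.ker = ⊥
    · have hinj : Function.Injective f := (MonoidHom.ker_eq_bot_iff f).mp hker
      intro A B hA hB hc
      have hcA := comm_of_imc hA
      have hcB := comm_of_imc hB
      have hA' : ∀ a ∈ A.comap f, ∀ b ∈ A.comap f, a * b = b * a := by
        intro a ha b hb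
        apply hinj
        rw [map_mul, map_mul]
        exact hcA _ ha _ hb
      have hB' : ∀ a ∈ B.comap f, ∀ b ∈ B.comap f, a * b = b * a := by
        intro a ha b hb
        apply hinj
        rw [map_mul, map_mul]
        exact hcB _ ha _ hb
      have hcard : Nat.card (A.comap f) = Nat.card (B.comap f) := by
        rw [card_comap f hf, card_comap f hf, hc]
      obtain ⟨g, hg⟩ := hAC.conj_of_comm hA' hB' hcard
      refine ⟨f g, ?_⟩
      have h3 := conj_map_of_conj f _ _ g hg
      rwa [Subgroup.map_comap_eq_self_of_surjective hf,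
        Subgroup.map_comap_eq_self_of_surjective hf] at h3
    · obtain ⟨N, hNle, hNn, hN1, hNmin⟩ :=
        Cfsg.Agent.Lib.Helper13.exists_minimal_normal_le f.ker inferInstance hker
      haveI := hNn
      haveI := hsol
      obtain ⟨p, hp, -, -, hexp, -⟩ :=
        Cfsg.Agent.Lib.Helper13.minimal_normal_solvable N hNn hN1 hNmin
      haveI : Fact p.Prime := ⟨hp⟩
      have hker' : (QuotientGroup.mk' N).ker = N := QuotientGroup.ker_mk' N
      have hAC' : AC (G ⧸ N) :=
        step1 (QuotientGroup.mk' N) (QuotientGroup.mk'_surjective N) hAC hsol (p := p)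
          (by rw [hker']; exact hN1) (by rw [hker']; exact hexp)
      have hlt : Nat.card (G ⧸ N) < n := by
        have h1 : 1 < Nat.card N := (Subgroup.one_lt_card_iff_ne_bot N).mpr hN1
        have h2 := Subgroup.index_mul_card N
        rw [Subgroup.index_eq_card, hn] at h2
        have h3 : 0 < Nat.card (G ⧸ N) := Nat.card_pos
        nlinarith
      exact ih _ hlt (G ⧸ N) rfl hAC' inferInstance H (QuotientGroup.lift N f hNle)
        (QuotientGroup.lift_surjective_of_surjective N f hf hNle)

end Cfsg.Agent.Lib.Helper69.ACQ
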