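import Cfsg.Agent.Lib.Helper15.BG13CDefs
import Cfsg.Agent.Lib.Helper78.BG12P16D
import Cfsg.Agent.Lib.Helper3.BG12a

/-!
# B&G Corollary 13.3(b) (row S1428), piece C-G1B (helper69)

`N_G(Q) ≤ (H_β ∩ C(Q)) (N_G(Q) ∩ C(P))` by a Frattini argument on a cyclic Sylow `p`-subgroup of
`H_β ∩ C(Q)` containing `P`.
-/

set_option autoImplicit false

open Cfsg Cfsg.Agent.Lib.Helper32 Cfsg.Agent.Lib.Helper32.BG10 Cfsg.Agent.Lib.Helper3.BG12

namespace Cfsg.Agent.Lib.Helper15.BG13C

universe u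

variable {G : Type u} [Group G] [Finite G]

theorem g1b : G1bStmt G := by
  intro hG M H hM hH p _ hp P Q hPc hPβ hPQ hNM hNH hCyc
  have hpP : p.Prime := Fact.out
  -- notation
  have hCN : Subgroup.centralizer (Q : Set G) ≤ Subgroup.normalizer (Q : Set G) :=
    Subgroup.centralizer_le_normalizer _
  have hDN : piCoreOf (beta H) H ⊓ Subgroup.centralizer (Q : Set G) ≤
      Subgroup.normalizer (Q : Set G) := inf_le_right.trans hCN
  have hHβ : H ≤ Subgroup.normalizer ((piCoreOf (beta H) H : Subgroup G) : Set G) :=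
    le_normalizer_map_subtype H (piCore (beta H) ↥H)
  have hND : Subgroup.normalizer (Q : Set G) ≤ Subgroup.normalizer
      ((piCoreOf (beta H) H ⊓ Subgroup.centralizer (Q : Set G) : Subgroup G) : Set G) :=
    Cfsg.Agent.Lib.Helper3.BG13T.le_normalizer_inf_centralizer (hNH.trans hHβ) le_rfl
  have hPD : P ≤ piCoreOf (beta H) H ⊓ Subgroup.centralizer (Q : Set G) := le_inf hPβ hPQ
  have hPp : IsPGroup p P := IsPGroup.of_card (n := 1) (by rw [hPc, pow_one])
  -- a Sylow subgroup of `D` containing `P`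
  obtain ⟨B, hB, hPB⟩ : ∃ B : Subgroup G,
      B ∈ sylSet p (piCoreOf (beta H) H ⊓ Subgroup.centralizer (Q : Set G)) ∧ P ≤ B := by
    have hP' : IsPGroup p (P.subgroupOf (piCoreOf (beta H) H ⊓ Subgroup.centralizer (Q : Set G))) :=
      hPp.comap_subtype
    obtain ⟨S, hS⟩ := hP'.exists_le_sylow
    refine ⟨(S : Subgroup ↥(piCoreOf (beta H) H ⊓ Subgroup.centralizer (Q : Set G))).map
      (piCoreOf (beta H) H ⊓ Subgroup.centralizer (Q : Set G)).subtype, mem_sylSet_of_sylow S, ?_⟩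
    intro x hx
    exact ⟨⟨x, hPD hx⟩, hS (Subgroup.mem_subgroupOf.mpr hx), rfl⟩
  have hBc : IsCyclic B := hCyc B hB.1 (isPGroup_of_mem_sylSet hB)
  have hfr := Cfsg.Agent.Lib.Helper78.BG12.frattini_sylSet hDN hND hB
  have hBP : Subgroup.normalizer (B : Set G) ≤ Subgroup.normalizer (P : Set G) :=
    normalizer_le_normalizer_of_cyclic hBc hPB
  -- elements of `N ⊓ N(P)` centralize `P`
  have hkey : Subgroup.normalizer (Q : Set G) ⊓ Subgroup.normalizer (B : Set G) ≤
      Subgroup.normalizer (Q : Set G) ⊓ Subgroup.centralizer (P : Set G) := by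
    rintro n ⟨hnN, hnB⟩
    refine ⟨hnN, ?_⟩
    show n ∈ Subgroup.centralizer (P : Set G)
    rw [Subgroup.mem_centralizer_iff]
    intro x hx
    have hxP : x ∈ P := hx
    have hnP : n ∈ Subgroup.normalizer (P : Set G) := hBP hnB
    have h1 : n * x * n⁻¹ ∈ P := (Subgroup.mem_normalizer_iff.mp hnP x).mp hxP
    have hc : n * x * n⁻¹ * x⁻¹ ∈ P := P.mul_mem h1 (P.inv_mem hxP)
    have hnM : n ∈ M := hNM hnN
    have hxM : x ∈ M := hNM (hCN (hPQ hxP))
    have hc' : n * x * n⁻¹ * x⁻¹ ∈ ⁅M, M⁆ := Subgroup.commutator_mem_commutator hnM hxM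
    have hc1 : n * x * n⁻¹ * x⁻¹ = 1 := by
      by_contra hne
      have ho : orderOf (n * x * n⁻¹ * x⁻¹) ∣ p := by
        rw [← hPc]
        exact Subgroup.orderOf_dvd_natCard P hc
      have ho' : orderOf (n * x * n⁻¹ * x⁻¹) = p := by
        rcases (Nat.dvd_prime hpP).mp ho with h | h
        · exact absurd (orderOf_eq_one_iff.mp h) hne
        · exact h
      have hdvd : p ∣ Nat.card ↥⁅M, M⁆ := by
        rw [← ho']
        exact Subgroup.orderOf_dvd_natCard _ hc'
      exact hp.2.2.2.1 hdvd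
    have h2 : n * x * n⁻¹ = x := by
      have := congrArg (· * x) hc1
      simpa using this
    have h3 : n * x = x * n := by
      have := congrArg (· * n) h2
      simpa using this
    exact h3.symm
  exact hfr.trans (sup_le_sup_left hkey _)

end Cfsg.Agent.Lib.Helper15.BG13C
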