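import Mathlib
import Cfsg.Agent.Lib.Helper69.ACQuotE

set_option autoImplicit false

/-!
Definitions for the proof that solvable `AC`-groups (abelian subgroups of equal order conjugate)
are `B`-groups (all subgroups of equal order conjugate).
-/

namespace Cfsg.Agent.Lib.Helper69.BG

/-- all subgroups of equal order are conjugate -/
def BP (G : Type*) [Group G] : Prop :=
  ∀ A B : Subgroup G, Nat.card ↥A = Nat.card ↥B →
    ∃ g : G, B = A.map (MulAut.conj g).toMonoidHom

/-- minimal normal subgroup -/
def MinNormal {G : Type*} [Group G] (N : Subgroup G) : Prop :=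
  N.Normal ∧ N ≠ ⊥ ∧ ∀ K : Subgroup G, K.Normal → K ≤ N → K = ⊥ ∨ K = N

/-- the subgroup generated by all minimal normal subgroups -/
def socle (G : Type*) [Group G] : Subgroup G :=
  sSup {N : Subgroup G | MinNormal N}

end Cfsg.Agent.Lib.Helper69.BG
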