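import Mathlib
import Cfsg.Agent.S3360
import Cfsg.Agent.Lib.Helper69.BGDefs
import Cfsg.Agent.Lib.Helper1.Hall
import Cfsg.Agent.Lib.Helper58.BGCYC
import Cfsg.Agent.Lib.Helper94.BGDIM2
import Cfsg.Agent.Lib.Helper43.BGSEMI
import Cfsg.Agent.Lib.Helper98.BGC81A
import Cfsg.Agent.Lib.Helper43.BGSUBF
import Cfsg.Agent.Lib.Helper60.BGC81B

set_option autoImplicit false

namespace Cfsg.Agent.Lib.Helper69.BG

universe u

section

variable (p : ℕ) [Fact p.Prime] {V : Type u} [AddCommGroup V] [Module (ZMod p) V] [Finite V]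

/-- Huppert's theorem applied to a line-transitive solvable linear group. -/
theorem huppert_apply [Nontrivial V]
    (Γ : Subgroup (V ≃ₗ[ZMod p] V)) (hsol : Group.IsSolvable ↥Γ)
    (htr : ∀ v w : V, v ≠ 0 → w ≠ 0 → ∃ g ∈ Γ, ∃ k : ZMod p, g v = k • w) :
    (∃ (F : Type) (_ : Field F) (_ : Fintype F) (e : V ≃+ F),
        ∀ g ∈ Γ, ∃ (a : F) (σ : F ≃+* F), ∀ v : V, e (g v) = a * σ (e v)) ∨
    Nat.card V ∈ ({9, 25, 49, 121, 529, 81} : Set ℕ) := by
  classical
  haveI : Finite (V ≃ₗ[ZMod p] V) :=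
    Finite.of_injective (fun e : V ≃ₗ[ZMod p] V => (e : V → V)) DFunLike.coe_injective
  let sc : (ZMod p)ˣ →* (V ≃ₗ[ZMod p] V) := DistribMulAction.toModuleAut (ZMod p) V
  have hsc : ∀ (c : (ZMod p)ˣ) (v : V), sc c v = (c : ZMod p) • v := fun c v => rfl
  have hcomm : ∀ (g : ↥Γ) (c : (ZMod p)ˣ), Commute (Γ.subtype g) (sc c) := by
    intro g c
    apply LinearEquiv.ext
    intro v
    change (g : V ≃ₗ[ZMod p] V) (sc c v) = sc c ((g : V ≃ₗ[ZMod p] V) v)
    rw [hsc, hsc, map_smul]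
  let φ : ↥Γ × (ZMod p)ˣ →* (V ≃ₗ[ZMod p] V) := MonoidHom.noncommCoprod Γ.subtype sc hcomm
  have hφ : ∀ (g : ↥Γ) (c : (ZMod p)ˣ), φ (g, c) = (g : V ≃ₗ[ZMod p] V) * sc c := fun g c => rfl
  haveI : Group.IsSolvable ↥Γ := hsol
  have hsolr : Group.IsSolvable ↥φ.range :=
    solvable_of_surjective (f := φ.rangeRestrict) φ.rangeRestrict_surjective
  have htrans : ∀ v w : V, v ≠ 0 → w ≠ 0 → ∃ g : ↥φ.range, φ.range.subtype g v = w := by
    intro v w hv hw
    obtain ⟨g, hg, k, hk⟩ := htr v w hv hw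
    have hk0 : k ≠ 0 := by
      rintro rfl
      rw [zero_smul] at hk
      exact hv ((LinearEquiv.map_eq_zero_iff g).mp hk)
    refine ⟨⟨φ (⟨g, hg⟩, (Units.mk0 k hk0)⁻¹), ⟨_, rfl⟩⟩, ?_⟩
    change φ (⟨g, hg⟩, (Units.mk0 k hk0)⁻¹) v = w
    rw [hφ]
    change g (sc (Units.mk0 k hk0)⁻¹ v) = w
    rw [hsc, map_smul, hk, smul_smul]
    have : ((Units.mk0 k hk0)⁻¹ : (ZMod p)ˣ).val * k = 1 := by
      have h := Units.inv_mul (Units.mk0 k hk0)
      simpa using h
    rw [this, one_smul]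
  rcases Cfsg.Agent.S3360.result p hsolr φ.range.subtype (Subgroup.subtype_injective _) htrans
    with h | h
  · left
    obtain ⟨F, iF, iFt, e, he⟩ := h
    refine ⟨F, iF, iFt, e, ?_⟩
    intro g hg
    have hmem : g ∈ φ.range := ⟨(⟨g, hg⟩, 1), by rw [hφ]; simp⟩
    exact he ⟨g, hmem⟩
  · exact Or.inr h

theorem scalar_comm {s : V ≃ₗ[ZMod p] V} (hs : ∃ k : ZMod p, ∀ v : V, s v = k • v)
    (γ : V ≃ₗ[ZMod p] V) : γ * s = s * γ := by
  obtain ⟨k, hk⟩ := hs
  apply LinearEquiv.ext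
  intro v
  change γ (s v) = s (γ v)
  rw [hk, hk, map_smul]

/-- the numerical fact about Huppert's exceptional list -/
theorem exc_list {n : ℕ} (hn : 3 ≤ n) (h : p ^ n ∈ ({9, 25, 49, 121, 529, 81} : Set ℕ)) :
    p = 3 ∧ n = 4 := by
  have hp : p.Prime := Fact.out
  have key : ∀ (q m : ℕ), q.Prime → p ^ n = q ^ m → p = q ∧ n = m := by
    intro q m hq hpq
    have hn0 : n ≠ 0 := by omega
    have h1 : p ∣ q ^ m := by rw [← hpq]; exact dvd_pow_self p hn0
    have h2 : p = q := (Nat.prime_dvd_prime_iff_eq hp hq).mp (hp.dvd_of_dvd_pow h1)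
    subst h2
    exact ⟨rfl, Nat.pow_right_injective hp.two_le hpq⟩
  simp only [Set.mem_insert_iff, Set.mem_singleton_iff] at h
  rcases h with h | h | h | h | h | h
  · have := key 3 2 (by norm_num) (by rw [h]; norm_num); omega
  · have := key 5 2 (by norm_num) (by rw [h]; norm_num); omega
  · have := key 7 2 (by norm_num) (by rw [h]; norm_num); omega
  · have := key 11 2 (by norm_num) (by rw [h]; norm_num); omega
  · have := key 23 2 (by norm_num) (by rw [h]; norm_num); omega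
  · exact key 3 4 (by norm_num) (by rw [h]; norm_num)

/-- **Linear lemma.** In a solvable `p'`-group of linear automorphisms which is transitive on
the subgroups of each order and in which elements of equal prime order generate conjugate
subgroups, the stabilizer of a proper nontrivial subgroup is cyclic. -/
theorem stab_cyclic
    (Γ : Subgroup (V ≃ₗ[ZMod p] V)) (hsol : Group.IsSolvable ↥Γ) (hp : ¬ p ∣ Nat.card ↥Γ)
    (hV : p ^ 2 ≤ Nat.card V)
    (htr : ∀ U U' : AddSubgroup V, Nat.card ↥U = Nat.card ↥U' → ∃ g ∈ Γ, ∀ u ∈ U, g u ∈ U')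
    (hconj : ∀ a ∈ Γ, ∀ b ∈ Γ, (orderOf a).Prime → orderOf b = orderOf a →
      ∃ g ∈ Γ, ∃ i : ℤ, b = g * a ^ i * g⁻¹)
    (U : AddSubgroup V) (hU0 : U ≠ ⊥) (hU1 : U ≠ ⊤)
    (S : Subgroup (V ≃ₗ[ZMod p] V)) (hS : S ≤ Γ) (hSU : ∀ g ∈ S, ∀ u ∈ U, g u ∈ U) :
    IsCyclic ↥S := by
  classical
  have hpp : p.Prime := Fact.out
  haveI : Finite (V ≃ₗ[ZMod p] V) :=
    Finite.of_injective (fun e : V ≃ₗ[ZMod p] V => (e : V → V)) DFunLike.coe_injective
  obtain ⟨n, hn⟩ : ∃ n : ℕ, Nat.card V = p ^ n := by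
    refine ⟨Module.finrank (ZMod p) V, ?_⟩
    have h := Module.natCard_eq_pow_finrank (K := ZMod p) (V := V)
    rw [Nat.card_zmod] at h
    exact h
  have hn2 : 2 ≤ n := by
    by_contra hlt
    have h1 : n ≤ 1 := by omega
    have h2 : p ^ n ≤ p ^ 1 := Nat.pow_le_pow_right hpp.pos h1
    have h3 : p ^ 1 < p ^ 2 := Nat.pow_lt_pow_right hpp.one_lt (by norm_num)
    omega
  have hkerc : ∀ {C : Type} [Group C] (χ : ↥S →* C),
      (∀ s : ↥S, χ s = 1 → ∃ k : ZMod p, ∀ v : V, (s : V ≃ₗ[ZMod p] V) v = k • v) →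
      ∀ s : ↥S, χ s = 1 → ∀ γ ∈ Γ, γ * (s : V ≃ₗ[ZMod p] V) = (s : V ≃ₗ[ZMod p] V) * γ :=
    fun χ h s hs γ _ => scalar_comm p (h s hs) γ
  rcases Nat.lt_or_ge n 3 with hlt | hge
  · -- dimension two
    have hn' : n = 2 := by omega
    subst hn'
    have hUc : Nat.card ↥U = p := by
      have hdvd : Nat.card ↥U ∣ p ^ 2 := by
        rw [← hn]; exact AddSubgroup.card_addSubgroup_dvd_card U
      obtain ⟨j, hj, hjc⟩ := (Nat.dvd_prime_pow hpp).mp hdvd
      interval_cases j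
      · exfalso
        rw [pow_zero] at hjc
        exact hU0 (AddSubgroup.card_eq_one.mp hjc)
      · rw [hjc, pow_one]
      · exfalso
        apply hU1
        apply AddSubgroup.eq_top_of_card_eq
        rw [hjc, hn]
    have hpS : ¬ p ∣ Nat.card ↥S := fun h =>
      hp (dvd_trans h (Subgroup.card_dvd_of_le hS))
    obtain ⟨χ, hχ⟩ := Cfsg.Agent.Lib.Helper94.BG.dim2_char p hn U hUc S hSU hpS
    exact Cfsg.Agent.Lib.Helper58.BG.cyclic_of_central_ker Γ S hS χ (hkerc χ hχ) hconj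
  · -- dimension at least three: Huppert
    haveI : Nontrivial V := by
      apply Finite.one_lt_card_iff_nontrivial.mp
      rw [hn]
      exact Nat.one_lt_pow (by omega) hpp.one_lt
    have htr' : ∀ v w : V, v ≠ 0 → w ≠ 0 → ∃ g ∈ Γ, ∃ k : ZMod p, g v = k • w := by
      intro v w hv hw
      have hcard : ∀ x : V, x ≠ 0 → Nat.card ↥(AddSubgroup.zmultiples x) = p := by
        intro x hx
        rw [Nat.card_zmultiples]
        have hpx : p • x = 0 := by
          have := ZModModule.char_nsmul_eq_zero p x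
          exact this
        exact addOrderOf_eq_prime hpx hx
      obtain ⟨g, hg, hgU⟩ := htr (AddSubgroup.zmultiples v) (AddSubgroup.zmultiples w)
        (by rw [hcard v hv, hcard w hw])
      have h1 := hgU v (AddSubgroup.mem_zmultiples v)
      obtain ⟨m, hm⟩ := AddSubgroup.mem_zmultiples_iff.mp h1
      refine ⟨g, hg, (m : ZMod p), ?_⟩
      rw [← hm, Int.cast_smul_eq_zsmul]
    rcases huppert_apply p Γ hsol htr' with h | h
    · obtain ⟨F, iF, iFt, e, he⟩ := h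
      by_cases hsub : ∀ E : Subfield F, E = ⊥ ∨ E = ⊤
      · obtain ⟨χ, hχ⟩ := Cfsg.Agent.Lib.Helper43.BG.semilinear_char p F e hsub U hU0 hU1 S hSU
          (fun g hg => he g (hS hg))
        haveI : IsCyclic (F ≃+* F) := Cfsg.Agent.Lib.Helper43.BG.ringAut_cyclic F
        haveI : Finite (F ≃+* F) :=
          Finite.of_injective (fun σ : F ≃+* F => (σ : F → F)) DFunLike.coe_injective
        exact Cfsg.Agent.Lib.Helper58.BG.cyclic_of_central_ker Γ S hS χ (hkerc χ hχ) hconj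
      · exfalso
        push_neg at hsub
        obtain ⟨E, hE0, hE1⟩ := hsub
        exact Cfsg.Agent.Lib.Helper43.BG.subfield_contra p F e E hE0 hE1 Γ he
          (fun U₁ U₂ h1 h2 => htr U₁ U₂ (by rw [h1, h2]))
    · exfalso
      rw [hn] at h
      obtain ⟨hp3, hn4⟩ := exc_list p hge h
      subst hp3
      subst hn4
      have hV81 : Nat.card V = 81 := by rw [hn]; norm_num
      obtain ⟨h5, h13⟩ := Cfsg.Agent.Lib.Helper98.BG.card_dvd_81 hV81 Γ htr
      exact Cfsg.Agent.Lib.Helper60.BG.no_65 hV81 Γ hsol h5 h13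

end

end Cfsg.Agent.Lib.Helper69.BG
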