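import Mathlib
import Cfsg.Agent.Lib.Helper69.BGLin

set_option autoImplicit false

namespace Cfsg.Agent.Lib.Helper69.BG

open Cfsg.Agent.Lib.Helper69.ACQ

universe u

/-- a normal elementary abelian `p`-subgroup of rank at least two in an `AC`-group is a Sylow
subgroup -/
theorem AC.not_dvd_index {G : Type*} [Group G] [Finite G] (hAC : AC G) (N : Subgroup G)
    [hNn : N.Normal] (p : ℕ) [Fact p.Prime] (hcomm : ∀ a ∈ N, ∀ b ∈ N, a * b = b * a)
    (hexp : ∀ a ∈ N, a ^ p = 1) (hcard : p ^ 2 ∣ Nat.card ↥N) : ¬ p ∣ N.index := by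
  intro hdvd
  have hpp : p.Prime := Fact.out
  have hN1 : N ≠ ⊥ := by
    rintro rfl
    rw [Subgroup.card_bot] at hcard
    have := Nat.le_of_dvd one_pos hcard
    have h2 : 1 < p ^ 2 := Nat.one_lt_pow (by norm_num) hpp.one_lt
    omega
  have hNp : IsPGroup p ↥N := by
    intro x
    refine ⟨1, ?_⟩
    apply Subtype.ext
    rw [pow_one, Subgroup.coe_pow, Subgroup.coe_one]
    exact hexp x x.2
  rw [Subgroup.index_eq_card] at hdvd
  obtain ⟨yb, hyb⟩ := exists_prime_orderOf_dvd_card' p hdvd
  obtain ⟨y, rfl⟩ := QuotientGroup.mk_surjective yb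
  have hyN : y ∉ N := by
    intro h
    have h1 : (QuotientGroup.mk y : G ⧸ N) = 1 := (QuotientGroup.eq_one_iff y).mpr h
    rw [h1, orderOf_one] at hyb
    exact hpp.one_lt.ne hyb
  have hypN : y ^ p ∈ N := by
    rw [← QuotientGroup.eq_one_iff, QuotientGroup.mk_pow, ← hyb, pow_orderOf_eq_one]
  by_cases hyp : y ^ p = 1
  · exact hyN (hAC.mem_of_pow_eq_one N hN1 hNp hyp)
  · have hyo : orderOf y = p ^ 2 := by
      have h1 : y ^ (p ^ 2) = 1 := by rw [pow_two, pow_mul]; exact hexp _ hypN
      obtain ⟨j, hj, hjo⟩ := (Nat.dvd_prime_pow hpp).mp (orderOf_dvd_of_pow_eq_one h1)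
      interval_cases j
      · exfalso
        rw [pow_zero, orderOf_eq_one_iff] at hjo
        exact hyp (by rw [hjo, one_pow])
      · exfalso
        rw [pow_one] at hjo
        exact hyp (by rw [← hjo, pow_orderOf_eq_one])
      · exact hjo
    obtain ⟨K, hK⟩ := Sylow.exists_subgroup_card_pow_prime p hcard
    have hEc : Nat.card ↥(K.map N.subtype) = p ^ 2 := by
      rw [Subgroup.card_map_of_injective N.subtype_injective, hK]
    have hEN : K.map N.subtype ≤ N := by
      rintro x ⟨k, -, rfl⟩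
      exact k.2
    obtain ⟨g, hg⟩ := hAC.conj_of_comm (A := K.map N.subtype) (B := Subgroup.zpowers y)
      (fun a ha b hb => hcomm a (hEN ha) b (hEN hb))
      (fun a ha b hb => by
        obtain ⟨i, rfl⟩ := Subgroup.mem_zpowers_iff.mp ha
        obtain ⟨j, rfl⟩ := Subgroup.mem_zpowers_iff.mp hb
        exact (Commute.zpow_zpow (Commute.refl y) i j).eq)
      (by rw [hEc, Nat.card_zpowers, hyo])
    have hy : y ∈ (K.map N.subtype).map (MulAut.conj g).toMonoidHom :=
      hg ▸ Subgroup.mem_zpowers y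
    obtain ⟨w, hw, rfl⟩ := hy
    exact hyN (hNn.conj_mem w (hEN hw) g)

section transport

variable {G : Type u} [Group G] [Finite G]

/-- transport of the linear lemma: abstract additive model `V` of `N` -/
theorem cyclic_image_normalizer_core (hsol : Group.IsSolvable G) (hAC : AC G)
    (N : Subgroup G) [hNn : N.Normal] (p : ℕ) [Fact p.Prime]
    {V : Type u} [AddCommGroup V] [Module (ZMod p) V] (e : ↥N ≃* Multiplicative V)
    (hcard : p ^ 2 ∣ Nat.card ↥N) (hidx : ¬ p ∣ N.index)
    (U : Subgroup G) (hUN : U ≤ N) (hU0 : U ≠ ⊥) (hU1 : U ≠ N) :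
    IsCyclic ↥((Subgroup.normalizer (U : Set G)).map (MulAut.conjNormal (H := N))) := by
  classical
  have hpp : p.Prime := Fact.out
  have hcomm : ∀ a ∈ N, ∀ b ∈ N, a * b = b * a := by
    intro a ha b hb
    have h : e (⟨a, ha⟩ * ⟨b, hb⟩) = e (⟨b, hb⟩ * ⟨a, ha⟩) := by
      rw [map_mul, map_mul, mul_comm]
    exact congrArg Subtype.val (e.injective h)
  -- automorphisms of `N` act linearly
  let ι : MulAut ↥N →* (V ≃ₗ[ZMod p] V) :=
    { toFun := fun f => (AddEquiv.toMultiplicative.symm ((e.symm.trans f).trans e)).toLinearEquiv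
        (fun c x => ZMod.map_smul (AddEquiv.toMultiplicative.symm ((e.symm.trans f).trans e)) c x)
      map_one' := by
        apply LinearEquiv.ext
        intro x
        simp [LinearEquiv.coe_one]
      map_mul' := by
        intro f f'
        apply LinearEquiv.ext
        intro x
        simp [LinearEquiv.mul_apply] }
  have hι : ∀ (f : MulAut ↥N) (x : V),
      ι f x = Multiplicative.toAdd (e (f (e.symm (Multiplicative.ofAdd x)))) :=
    fun f x => rfl
  have hιinj : Function.Injective ι := by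
    intro f f' hff
    apply MulEquiv.ext
    intro n
    have h := congrArg (fun L : V ≃ₗ[ZMod p] V => L (Multiplicative.toAdd (e n))) hff
    simp only [hι] at h
    have h2 := Multiplicative.toAdd.injective h
    simpa using e.injective h2
  let ρ : G →* (V ≃ₗ[ZMod p] V) := ι.comp (MulAut.conjNormal (H := N))
  have hρ : ∀ (g : G) (x : V),
      ((e.symm (Multiplicative.ofAdd (ρ g x)) : ↥N) : G) =
        g * ((e.symm (Multiplicative.ofAdd x) : ↥N) : G) * g⁻¹ := by
    intro g x
    change ((e.symm (Multiplicative.ofAdd (ι (MulAut.conjNormal g) x)) : ↥N) : G) = _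
    rw [hι]
    simp [MulAut.conjNormal_apply]
  haveI : Finite (Multiplicative V) := Finite.of_equiv ↥N e.toEquiv
  haveI : Finite V := inferInstanceAs (Finite (Multiplicative V))
  haveI : Finite (V ≃ₗ[ZMod p] V) :=
    Finite.of_injective (fun e : V ≃ₗ[ZMod p] V => (e : V → V)) DFunLike.coe_injective
  haveI := hsol
  -- the hypotheses of the linear lemma
  have hsolΓ : Group.IsSolvable ↥ρ.range :=
    solvable_of_surjective (f := ρ.rangeRestrict) ρ.rangeRestrict_surjective
  have hNker : N ≤ ρ.ker := by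
    intro g hg
    rw [MonoidHom.mem_ker]
    apply LinearEquiv.ext
    intro x
    apply Multiplicative.ofAdd.injective
    apply e.symm.injective
    apply Subtype.ext
    rw [hρ]
    change g * ((e.symm (Multiplicative.ofAdd x) : ↥N) : G) * g⁻¹ = _
    rw [hcomm g hg _ (e.symm (Multiplicative.ofAdd x)).2, mul_inv_cancel_right]
    rfl
  have hpΓ : ¬ p ∣ Nat.card ↥ρ.range := by
    intro h
    apply hidx
    rw [← Subgroup.index_ker] at h
    exact dvd_trans h (Subgroup.index_dvd_of_le hNker)
  have hVc : Nat.card V = Nat.card ↥N := (Nat.card_congr e.toEquiv).symm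
  have hV : p ^ 2 ≤ Nat.card V := by
    rw [hVc]
    exact Nat.le_of_dvd Nat.card_pos hcard
  -- subgroups of `V` as subgroups of `G`
  let sub : AddSubgroup V → Subgroup G :=
    fun W => ((AddSubgroup.toSubgroup W).comap e.toMonoidHom).map N.subtype
  have hsub_mem : ∀ (W : AddSubgroup V) (x : G), x ∈ sub W ↔
      ∃ h : x ∈ N, Multiplicative.toAdd (e ⟨x, h⟩) ∈ W := by
    intro W x
    constructor
    · rintro ⟨n, hn, rfl⟩
      exact ⟨n.2, hn⟩
    · rintro ⟨h, hW⟩
      exact ⟨⟨x, h⟩, hW, rfl⟩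
  have hsub_card : ∀ W : AddSubgroup V, Nat.card ↥(sub W) = Nat.card ↥W := by
    intro W
    rw [Subgroup.card_map_of_injective N.subtype_injective]
    apply Nat.card_congr
    exact
      { toFun := fun x => ⟨Multiplicative.toAdd (e x.1), x.2⟩
        invFun := fun w => ⟨e.symm (Multiplicative.ofAdd w.1), by
          change Multiplicative.toAdd (e (e.symm (Multiplicative.ofAdd w.1))) ∈ W
          simpa using w.2⟩
        left_inv := fun x => by
          apply Subtype.ext
          simp
        right_inv := fun w => by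
          apply Subtype.ext
          simp }
  have hsub_le : ∀ W : AddSubgroup V, sub W ≤ N := by
    intro W x hx
    exact ((hsub_mem W x).mp hx).1
  have htr : ∀ W W' : AddSubgroup V, Nat.card ↥W = Nat.card ↥W' →
      ∃ g ∈ ρ.range, ∀ u ∈ W, g u ∈ W' := by
    intro W W' hc
    obtain ⟨g, hg⟩ := hAC.conj_of_comm (A := sub W) (B := sub W')
      (fun a ha b hb => hcomm a (hsub_le W ha) b (hsub_le W hb))
      (fun a ha b hb => hcomm a (hsub_le W' ha) b (hsub_le W' hb))
      (by rw [hsub_card, hsub_card, hc])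
    refine ⟨ρ g, ⟨g, rfl⟩, ?_⟩
    intro u hu
    have h1 : ((e.symm (Multiplicative.ofAdd u) : ↥N) : G) ∈ sub W :=
      (hsub_mem W _).mpr ⟨(e.symm (Multiplicative.ofAdd u)).2, by simpa using hu⟩
    have h2 : g * ((e.symm (Multiplicative.ofAdd u) : ↥N) : G) * g⁻¹ ∈ sub W' := by
      rw [hg]
      exact ⟨_, h1, rfl⟩
    rw [← hρ g u] at h2
    obtain ⟨_, h3⟩ := (hsub_mem W' _).mp h2
    simpa using h3
  have hACΓ : AC ↥ρ.range :=
    AC.of_surjective (Nat.card G) G rfl hAC hsol ↥ρ.range ρ.rangeRestrict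
      ρ.rangeRestrict_surjective
  have hconj : ∀ a ∈ ρ.range, ∀ b ∈ ρ.range, (orderOf a).Prime → orderOf b = orderOf a →
      ∃ g ∈ ρ.range, ∃ i : ℤ, b = g * a ^ i * g⁻¹ := by
    intro a ha b hb _ hab
    obtain ⟨g, i, hgi⟩ := hACΓ.conj_of_orderOf (x := ⟨a, ha⟩) (y := ⟨b, hb⟩)
      (by rw [Subgroup.orderOf_mk, Subgroup.orderOf_mk, hab])
    refine ⟨g.1, g.2, i, ?_⟩
    have := congrArg Subtype.val hgi
    simpa using this
  -- the subgroup `U`
  let UV : AddSubgroup V :=
    { carrier := {x | ((e.symm (Multiplicative.ofAdd x) : ↥N) : G) ∈ U}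
      add_mem' := by
        intro a b ha hb
        change ((e.symm (Multiplicative.ofAdd (a + b)) : ↥N) : G) ∈ U
        rw [ofAdd_add, map_mul, Subgroup.coe_mul]
        exact U.mul_mem ha hb
      zero_mem' := by
        change ((e.symm (Multiplicative.ofAdd (0 : V)) : ↥N) : G) ∈ U
        rw [ofAdd_zero, map_one, Subgroup.coe_one]
        exact U.one_mem
      neg_mem' := by
        intro a ha
        change ((e.symm (Multiplicative.ofAdd (-a)) : ↥N) : G) ∈ U
        rw [ofAdd_neg, map_inv, Subgroup.coe_inv]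
        exact U.inv_mem ha }
  have hUV_mem : ∀ x : V, x ∈ UV ↔ ((e.symm (Multiplicative.ofAdd x) : ↥N) : G) ∈ U :=
    fun x => Iff.rfl
  have hUV0 : UV ≠ ⊥ := by
    intro h
    apply hU0
    rw [eq_bot_iff]
    intro x hx
    have h1 : Multiplicative.toAdd (e ⟨x, hUN hx⟩) ∈ UV := by
      rw [hUV_mem]
      simpa using hx
    rw [h, AddSubgroup.mem_bot] at h1
    have h2 : e ⟨x, hUN hx⟩ = 1 := h1
    have h3 : (⟨x, hUN hx⟩ : ↥N) = 1 := by
      apply e.injective
      rw [h2, map_one]
    exact congrArg Subtype.val h3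
  have hUV1 : UV ≠ ⊤ := by
    intro h
    apply hU1
    apply le_antisymm hUN
    intro x hx
    have h1 : Multiplicative.toAdd (e ⟨x, hx⟩) ∈ UV := by rw [h]; exact AddSubgroup.mem_top _
    rw [hUV_mem] at h1
    simpa using h1
  have hS : (Subgroup.normalizer (U : Set G)).map ρ ≤ ρ.range := by
    rintro _ ⟨x, -, rfl⟩
    exact ⟨x, rfl⟩
  have hSU : ∀ g ∈ (Subgroup.normalizer (U : Set G)).map ρ, ∀ u ∈ UV, g u ∈ UV := by
    rintro _ ⟨x, hx, rfl⟩ u hu
    rw [hUV_mem] at hu ⊢
    rw [hρ]
    exact (Subgroup.mem_normalizer_iff.mp hx _).mp hu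
  have hcyc : IsCyclic ↥((Subgroup.normalizer (U : Set G)).map ρ) :=
    stab_cyclic p ρ.range hsolΓ hpΓ hV htr hconj UV hUV0 hUV1 _ hS hSU
  have hmap : (Subgroup.normalizer (U : Set G)).map ρ =
      ((Subgroup.normalizer (U : Set G)).map (MulAut.conjNormal (H := N))).map ι :=
    (Subgroup.map_map _ _ _).symm
  rw [hmap] at hcyc
  exact isCyclic_of_injective
    (((Subgroup.normalizer (U : Set G)).map (MulAut.conjNormal (H := N))).equivMapOfInjective ι
      hιinj).toMonoidHom
    (MulEquiv.injective _)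

/-- **Group form of the linear lemma.** If `N` is a normal elementary abelian Sylow
`p`-subgroup of rank at least two of a solvable `AC`-group and `U` is a proper nontrivial
subgroup of `N`, then the group of automorphisms of `N` induced by `N_G(U)` is cyclic. -/
theorem cyclic_image_normalizer (hsol : Group.IsSolvable G) (hAC : AC G)
    (N : Subgroup G) [hNn : N.Normal] (p : ℕ) [Fact p.Prime]
    (hcomm : ∀ a ∈ N, ∀ b ∈ N, a * b = b * a)
    (hexp : ∀ a ∈ N, a ^ p = 1) (hcard : p ^ 2 ∣ Nat.card ↥N) (hidx : ¬ p ∣ N.index)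
    (U : Subgroup G) (hUN : U ≤ N) (hU0 : U ≠ ⊥) (hU1 : U ≠ N) :
    IsCyclic ↥((Subgroup.normalizer (U : Set G)).map (MulAut.conjNormal (H := N))) := by
  letI : CommGroup ↥N :=
    { (inferInstance : Group ↥N) with
      mul_comm := fun a b => Subtype.ext (hcomm a a.2 b b.2) }
  letI : Module (ZMod p) (Additive ↥N) := AddCommGroup.zmodModule (n := p) (by
    intro x
    have h1 : (Additive.toMul x) ^ p = 1 := by
      apply Subtype.ext
      rw [Subgroup.coe_pow, Subgroup.coe_one]
      exact hexp _ (Additive.toMul x).2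
    have h2 : Additive.ofMul ((Additive.toMul x) ^ p) = p • x := rfl
    rw [← h2, h1]
    rfl)
  exact cyclic_image_normalizer_core hsol hAC N p
    (MulEquiv.multiplicativeAdditive ↥N).symm hcard hidx U hUN hU0 hU1

end transport

end Cfsg.Agent.Lib.Helper69.BG
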