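import Mathlib
import Cfsg.Agent.Lib.Helper69.BGTrans
import Cfsg.Agent.Lib.Helper58.BGCYC
import Cfsg.Agent.Lib.Helper78.BGQUOT
import Cfsg.Agent.Lib.Helper31.BGENDG
import Cfsg.Agent.Lib.Helper89.BGSOCLE

set_option autoImplicit false

namespace Cfsg.Agent.Lib.Helper69.BG

open Cfsg.Agent.Lib.Helper69.ACQ Cfsg.Agent.Lib.Helper89.BG

universe u

section aux

variable {G : Type u} [Group G]

theorem conjNormal_eq_one_iff (N : Subgroup G) [N.Normal] (g : G) :
    MulAut.conjNormal (H := N) g = 1 ↔ g ∈ Subgroup.centralizer (N : Set G) := by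
  constructor
  · intro h
    rw [Subgroup.mem_centralizer_iff]
    intro n hn
    have h1 := congrArg (fun f : MulAut ↥N => ((f ⟨n, hn⟩ : ↥N) : G)) h
    simp only [MulAut.conjNormal_apply, MulAut.one_apply] at h1
    calc n * g = (g * n * g⁻¹) * g := by rw [h1]
      _ = g * n := by group
  · intro h
    apply MulEquiv.ext
    intro n
    apply Subtype.ext
    rw [MulAut.conjNormal_apply, MulAut.one_apply]
    have := (Subgroup.mem_centralizer_iff.mp h) n n.2
    rw [← this, mul_inv_cancel_right]

theorem map_conj_of_normal (N : Subgroup G) [hN : N.Normal] (g : G) :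
    N.map (MulAut.conj g).toMonoidHom = N := by
  apply le_antisymm
  · rintro _ ⟨n, hn, rfl⟩
    exact hN.conj_mem n hn g
  · intro n hn
    refine ⟨g⁻¹ * n * g, ?_, ?_⟩
    · have := hN.conj_mem n hn g⁻¹
      rwa [inv_inv] at this
    · simp [mul_assoc]

theorem card_inf_mul_relIndex [Finite G] (F A : Subgroup G) :
    Nat.card ↥(A ⊓ F) * F.relIndex A = Nat.card ↥A := by
  have h1 := Subgroup.card_mul_index (F.subgroupOf A)
  have h2 : Nat.card ↥(F.subgroupOf A) = Nat.card ↥(A ⊓ F) := by
    rw [inf_comm, ← Subgroup.inf_subgroupOf_right F A]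
    exact Nat.card_congr (Subgroup.subgroupOfEquivOfLe (inf_le_right : F ⊓ A ≤ A)).toEquiv
  rw [h2] at h1
  exact h1

theorem card_inf_of_hall [Finite G] (F : Subgroup G) [F.Normal]
    (hcop : (Nat.card ↥F).Coprime F.index) (A : Subgroup G) :
    Nat.card ↥(A ⊓ F) = Nat.gcd (Nat.card ↥A) (Nat.card ↥F) := by
  have h1 : Nat.card ↥(A ⊓ F) ∣ Nat.card ↥A := Subgroup.card_dvd_of_le inf_le_left
  have h2 : Nat.card ↥(A ⊓ F) ∣ Nat.card ↥F := Subgroup.card_dvd_of_le inf_le_right
  have h3 := card_inf_mul_relIndex F A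
  have h4 : F.relIndex A ∣ F.index := Subgroup.relIndex_dvd_index_of_normal F A
  apply Nat.dvd_antisymm (Nat.dvd_gcd h1 h2)
  have h5 : (Nat.gcd (Nat.card ↥A) (Nat.card ↥F)).Coprime (F.relIndex A) :=
    Nat.Coprime.coprime_dvd_left (Nat.gcd_dvd_right _ _) (Nat.Coprime.coprime_dvd_right h4 hcop)
  have h6 : Nat.gcd (Nat.card ↥A) (Nat.card ↥F) ∣ Nat.card ↥(A ⊓ F) * F.relIndex A := by
    rw [h3]; exact Nat.gcd_dvd_left _ _
  exact h5.dvd_of_dvd_mul_right h6

theorem le_of_card_pow [Finite G] (N : Subgroup G) [N.Normal] {p : ℕ} (hp : p.Prime)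
    (hidx : ¬ p ∣ N.index) (K : Subgroup G) {k : ℕ} (hK : Nat.card ↥K = p ^ k) : K ≤ N := by
  intro z hz
  rw [← QuotientGroup.eq_one_iff]
  have hz1 : z ^ p ^ k = 1 := by
    have h := pow_card_eq_one' (G := ↥K) (x := ⟨z, hz⟩)
    rw [hK] at h
    exact congrArg Subtype.val h
  have h1 : orderOf (QuotientGroup.mk z : G ⧸ N) ∣ p ^ k := by
    apply orderOf_dvd_of_pow_eq_one
    rw [← QuotientGroup.mk_pow, hz1]
    rfl
  have h2 : orderOf (QuotientGroup.mk z : G ⧸ N) ∣ N.index := by
    rw [Subgroup.index_eq_card]; exact orderOf_dvd_natCard _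
  have hcop : Nat.Coprime (p ^ k) N.index :=
    Nat.Coprime.pow_left k ((Nat.Prime.coprime_iff_not_dvd hp).mpr hidx)
  have h3 : orderOf (QuotientGroup.mk z : G ⧸ N) = 1 :=
    Nat.dvd_one.mp (hcop ▸ Nat.dvd_gcd h1 h2)
  exact orderOf_eq_one_iff.mp h3

theorem le_normalizer_inf_normal (A F : Subgroup G) [hF : F.Normal] :
    A ≤ Subgroup.normalizer ((A ⊓ F : Subgroup G) : Set G) := by
  intro a ha
  rw [Subgroup.mem_normalizer_iff]
  intro h
  constructor
  · rintro ⟨h1, h2⟩
    exact ⟨A.mul_mem (A.mul_mem ha h1) (A.inv_mem ha), hF.conj_mem h h2 a⟩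
  · rintro ⟨h1, h2⟩
    refine ⟨?_, ?_⟩
    · have := A.mul_mem (A.mul_mem (A.inv_mem ha) h1) ha
      simpa [mul_assoc] using this
    · have := hF.conj_mem _ h2 a⁻¹
      simpa [mul_assoc] using this

end aux

/-- **Main theorem.** A finite solvable group in which abelian subgroups of equal order are
conjugate has all subgroups of equal order conjugate. -/
theorem bp_of_ac : ∀ (n : ℕ) (G : Type u) [Group G] [Finite G], Nat.card G = n → AC G →
    Group.IsSolvable G → BP G := by
  intro n
  induction n using Nat.strong_induction_on with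
  | _ n ih =>
  intro G _ _ hn hAC hsol A B hc
  classical
  haveI := hsol
  have hquot : ∀ (N : Subgroup G) [N.Normal], N ≠ ⊥ → BP (G ⧸ N) := by
    intro N _ hN1
    have hlt : Nat.card (G ⧸ N) < n := by
      have h1 : 1 < Nat.card N := (Subgroup.one_lt_card_iff_ne_bot N).mpr hN1
      have h2 := Subgroup.index_mul_card N
      rw [Subgroup.index_eq_card, hn] at h2
      have h3 : 0 < Nat.card (G ⧸ N) := Nat.card_pos
      nlinarith
    exact ih _ hlt (G ⧸ N) rfl
      (AC.of_surjective (Nat.card G) G rfl hAC hsol (G ⧸ N) (QuotientGroup.mk' N)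
        (QuotientGroup.mk'_surjective N))
      inferInstance
  have hmin : ∀ N : Subgroup G, MinNormal N → ∃ p : ℕ, p.Prime ∧
      (∀ a ∈ N, ∀ b ∈ N, a * b = b * a) ∧ (∀ a ∈ N, a ^ p = 1) ∧ IsPGroup p ↥N ∧
      ∃ k, 1 ≤ k ∧ Nat.card ↥N = p ^ k := by
    intro N hN
    obtain ⟨p, hp, -, hcomm, hexp, hPG⟩ :=
      Cfsg.Agent.Lib.Helper13.minimal_normal_solvable N hN.1 hN.2.1 hN.2.2
    haveI : Fact p.Prime := ⟨hp⟩
    obtain ⟨k, hk⟩ := IsPGroup.iff_card.mp hPG
    refine ⟨p, hp, hcomm, hexp, hPG, k, ?_, hk⟩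
    by_contra h0
    have hk0 : k = 0 := by omega
    subst hk0
    rw [pow_zero] at hk
    exact hN.2.1 (Subgroup.card_eq_one.mp hk)
  have hmemN : ∀ (N : Subgroup G), MinNormal N → ∀ (p : ℕ), p.Prime → IsPGroup p ↥N →
      ∀ D : Subgroup G, p ∣ Nat.card ↥D → ∃ x ∈ D, x ∈ N ∧ x ≠ 1 := by
    intro N hN p hp hPG D hdvd
    haveI : Fact p.Prime := ⟨hp⟩
    haveI := hN.1
    obtain ⟨x, hx⟩ := exists_prime_orderOf_dvd_card' p hdvd
    refine ⟨x, x.2, ?_, ?_⟩
    · apply hAC.mem_of_pow_eq_one N hN.2.1 hPG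
      rw [← Subgroup.coe_pow, ← hx, pow_orderOf_eq_one]
      rfl
    · intro h
      have h1 : x = 1 := Subtype.ext h
      rw [h1, orderOf_one] at hx
      exact hp.one_lt.ne hx
  by_cases hprime : ∃ N : Subgroup G, MinNormal N ∧ (Nat.card ↥N).Prime
  · -- a minimal normal subgroup of prime order
    obtain ⟨N, hN, hNp⟩ := hprime
    haveI := hN.1
    obtain ⟨p, hp, hcomm, hexp, hPG, k, hk1, hk⟩ := hmin N hN
    haveI : Fact p.Prime := ⟨hp⟩
    have hNp' : Nat.card ↥N = p := by
      have hdvd : p ∣ Nat.card ↥N := by rw [hk]; exact dvd_pow_self p (by omega)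
      rcases (Nat.dvd_prime hNp).mp hdvd with h | h
      · exact absurd h hp.one_lt.ne'
      · exact h.symm
    apply Cfsg.Agent.Lib.Helper78.BG.conj_of_quotient hsol N (hquot N hN.2.1) A B hc
    by_cases hdA : p ∣ Nat.card ↥A
    · left
      have key : ∀ D : Subgroup G, p ∣ Nat.card ↥D → N ≤ D := by
        intro D hD
        obtain ⟨x, hxD, hxN, hx1⟩ := hmemN N hN p hp hPG D hD
        have hz : Subgroup.zpowers x = N := by
          apply Subgroup.eq_of_le_of_card_ge ((Subgroup.zpowers_le).mpr hxN)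
          rw [hNp', Nat.card_zpowers]
          exact (orderOf_eq_prime (hexp x hxN) hx1).ge
        rw [← hz]
        exact (Subgroup.zpowers_le).mpr hxD
      exact ⟨key A hdA, key B (hc ▸ hdA)⟩
    · right
      rw [hNp']
      exact (Nat.Prime.coprime_iff_not_dvd hp).mpr hdA
  · -- all minimal normal subgroups are noncyclic Sylow subgroups
    push_neg at hprime
    have hSyl : ∀ N : Subgroup G, MinNormal N → ∃ p : ℕ, p.Prime ∧
        (∀ a ∈ N, ∀ b ∈ N, a * b = b * a) ∧ (∀ a ∈ N, a ^ p = 1) ∧ IsPGroup p ↥N ∧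
        p ^ 2 ∣ Nat.card ↥N ∧ ¬ p ∣ N.index ∧ ∃ k, Nat.card ↥N = p ^ k := by
      intro N hN
      obtain ⟨p, hp, hcomm, hexp, hPG, k, hk1, hk⟩ := hmin N hN
      haveI : Fact p.Prime := ⟨hp⟩
      haveI := hN.1
      have hk2 : 2 ≤ k := by
        by_contra h
        have hk' : k = 1 := by omega
        subst hk'
        rw [pow_one] at hk
        exact hprime N hN (hk ▸ hp)
      have hp2 : p ^ 2 ∣ Nat.card ↥N := by rw [hk]; exact pow_dvd_pow p hk2
      exact ⟨p, hp, hcomm, hexp, hPG, hp2, AC.not_dvd_index hAC N p hcomm hexp hp2, k, hk⟩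
    have hS : ∀ N : Subgroup G, MinNormal N →
        ∃ p : ℕ, p.Prime ∧ (∀ a ∈ N, a ^ p = 1) ∧ ¬ p ∣ N.index := by
      intro N hN
      obtain ⟨p, hp, -, hexp, -, -, hidx, -⟩ := hSyl N hN
      exact ⟨p, hp, hexp, hidx⟩
    haveI hFn : (socle G).Normal := socle_normal
    have hFc := socle_comm (G := G) hsol
    have hFcop := socle_coprime hsol hS
    have hFcent := centralizer_socle_le hsol hS
    have hcW : Nat.card ↥(A ⊓ socle G) = Nat.card ↥(B ⊓ socle G) := by
      rw [card_inf_of_hall (socle G) hFcop A, card_inf_of_hall (socle G) hFcop B, hc]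
    obtain ⟨g₀, hg₀⟩ := hAC.conj_of_comm (A := A ⊓ socle G) (B := B ⊓ socle G)
      (fun a ha b hb => hFc a ha.2 b hb.2) (fun a ha b hb => hFc a ha.2 b hb.2) hcW
    suffices h : ∃ d : G, B = (A.map (MulAut.conj g₀).toMonoidHom).map
        (MulAut.conj d).toMonoidHom by
      obtain ⟨d, hd⟩ := h
      refine ⟨d * g₀, ?_⟩
      rw [hd, Subgroup.map_map]
      congr 1
      ext x
      simp [mul_assoc]
    have hc' : Nat.card ↥(A.map (MulAut.conj g₀).toMonoidHom) = Nat.card ↥B := by
      rw [Subgroup.card_map_of_injective (MulAut.conj g₀).injective, hc]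
    have hW : A.map (MulAut.conj g₀).toMonoidHom ⊓ socle G = B ⊓ socle G := by
      rw [hg₀, Subgroup.map_inf _ _ _ (MulAut.conj g₀).injective,
        map_conj_of_normal (socle G)]
    generalize A.map (MulAut.conj g₀).toMonoidHom = A' at hc' hW ⊢
    by_cases hE : ∃ N : Subgroup G, MinNormal N ∧
        ((N ≤ A' ∧ N ≤ B) ∨ (Nat.card ↥N).Coprime (Nat.card ↥A'))
    · obtain ⟨N, hN, h⟩ := hE
      haveI := hN.1
      exact Cfsg.Agent.Lib.Helper78.BG.conj_of_quotient hsol N (hquot N hN.2.1) A' B hc' h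
    push_neg at hE
    have hA'N : ∀ N : Subgroup G, MinNormal N → A' ⊓ N ≠ ⊥ ∧ ¬ N ≤ A' := by
      intro N hN
      obtain ⟨p, hp, hcomm, hexp, hPG, hp2, hidx, k, hk⟩ := hSyl N hN
      haveI : Fact p.Prime := ⟨hp⟩
      haveI := hN.1
      obtain ⟨h1, h2⟩ := hE N hN
      constructor
      · have hdvd : p ∣ Nat.card ↥A' := by
          by_contra hnd
          apply h2
          rw [hk]
          exact Nat.Coprime.pow_left k ((Nat.Prime.coprime_iff_not_dvd hp).mpr hnd)
        obtain ⟨x, hxA, hxN, hx1⟩ := hmemN N hN p hp hPG A' hdvd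
        intro hbot
        have hx : x ∈ A' ⊓ N := ⟨hxA, hxN⟩
        rw [hbot, Subgroup.mem_bot] at hx
        exact hx1 hx
      · intro hNA
        apply h1 hNA
        have hdvd : p ^ k ∣ Nat.card ↥B := by
          rw [← hc', ← hk]; exact Subgroup.card_dvd_of_le hNA
        obtain ⟨K, hK⟩ := Sylow.exists_subgroup_card_pow_prime p hdvd
        have hKc : Nat.card ↥(K.map B.subtype) = p ^ k := by
          rw [Subgroup.card_map_of_injective B.subtype_injective, hK]
        have hKN : K.map B.subtype ≤ N := le_of_card_pow N hp hidx _ hKc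
        have hKeq : K.map B.subtype = N :=
          Subgroup.eq_of_le_of_card_ge hKN (by rw [hKc, hk])
        rw [← hKeq]
        rintro x ⟨b, -, rfl⟩
        exact b.2
    -- the endgame
    have hA'X : A' ≤ Subgroup.normalizer ((B ⊓ socle G : Subgroup G) : Set G) := by
      rw [← hW]; exact le_normalizer_inf_normal A' (socle G)
    have hBX : B ≤ Subgroup.normalizer ((B ⊓ socle G : Subgroup G) : Set G) :=
      le_normalizer_inf_normal B (socle G)
    have hXN : ∀ N : Subgroup G, MinNormal N →
        Subgroup.normalizer ((B ⊓ socle G : Subgroup G) : Set G) ≤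
          Subgroup.normalizer ((B ⊓ socle G ⊓ N : Subgroup G) : Set G) := by
      intro N hN x hx
      rw [Subgroup.mem_normalizer_iff] at hx ⊢
      intro h
      constructor
      · rintro ⟨h1, h2⟩
        exact ⟨(hx h).mp h1, hN.1.conj_mem h h2 x⟩
      · rintro ⟨h1, h2⟩
        refine ⟨(hx h).mpr h1, ?_⟩
        have := hN.1.conj_mem _ h2 x⁻¹
        simpa [mul_assoc] using this
    have hUeq : ∀ N : Subgroup G, MinNormal N → B ⊓ socle G ⊓ N = A' ⊓ N := by
      intro N hN
      rw [← hW, inf_assoc, inf_eq_right.mpr (le_socle hN)]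
    have cyc : ∀ (N : Subgroup G) (hN : MinNormal N),
        haveI := hN.1
        IsCyclic ↥((Subgroup.normalizer ((B ⊓ socle G ⊓ N : Subgroup G) : Set G)).map
          (MulAut.conjNormal (H := N))) := by
      intro N hN
      obtain ⟨p, hp, hcomm, hexp, hPG, hp2, hidx, k, hk⟩ := hSyl N hN
      haveI : Fact p.Prime := ⟨hp⟩
      haveI := hN.1
      refine cyclic_image_normalizer hsol hAC N p hcomm hexp hp2 hidx _ inf_le_right ?_ ?_
      · rw [hUeq N hN]; exact (hA'N N hN).1
      · intro h
        apply (hA'N N hN).2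
        rw [← h, hUeq N hN]
        exact inf_le_left
    -- commutators of elements of the normalizer lie in the socle
    have hcommX : ∀ x ∈ Subgroup.normalizer ((B ⊓ socle G : Subgroup G) : Set G),
        ∀ y ∈ Subgroup.normalizer ((B ⊓ socle G : Subgroup G) : Set G),
        x * y * x⁻¹ * y⁻¹ ∈ socle G := by
      intro x hx y hy
      apply hFcent
      apply mem_centralizer_socle
      intro N hN
      haveI := hN.1
      rw [← conjNormal_eq_one_iff]
      have h1 := cyclic_comm _ (cyc N hN) _ (Subgroup.mem_map_of_mem _ (hXN N hN hx)) _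
        (Subgroup.mem_map_of_mem _ (hXN N hN hy))
      rw [map_mul, map_mul, map_mul, map_inv, map_inv, h1]
      group
    have hfin : Finite (G ⧸ socle G) := inferInstance
    have hcycX : IsCyclic ↥((Subgroup.normalizer ((B ⊓ socle G : Subgroup G) : Set G)).map
        (QuotientGroup.mk' (socle G))) := by
      have hcX : ∀ a b : ↥((Subgroup.normalizer ((B ⊓ socle G : Subgroup G) : Set G)).map
          (QuotientGroup.mk' (socle G))), a * b = b * a := by
        intro a b
        obtain ⟨x, hx, hxa⟩ := a.2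
        obtain ⟨y, hy, hyb⟩ := b.2
        apply Subtype.ext
        rw [Subgroup.coe_mul, Subgroup.coe_mul, ← hxa, ← hyb, ← map_mul, ← map_mul]
        apply (QuotientGroup.eq).mpr
        have h := hcommX y⁻¹ (Subgroup.inv_mem _ hy) x⁻¹ (Subgroup.inv_mem _ hx)
        rw [inv_inv, inv_inv] at h
        have h2 : (x * y)⁻¹ * (y * x) = y⁻¹ * x⁻¹ * y * x := by group
        rw [h2]
        exact h
      apply Cfsg.Agent.Lib.Helper58.BG.isCyclic_of_comm_of_prime hcX
      intro a b hap hba
      obtain ⟨x, hx, hxa⟩ := a.2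
      obtain ⟨y, hy, hyb⟩ := b.2
      have hoa : orderOf (a : G ⧸ socle G) = orderOf a := Subgroup.orderOf_coe a
      have hob : orderOf (b : G ⧸ socle G) = orderOf a := by rw [Subgroup.orderOf_coe b, hba]
      have hℓf : ¬ orderOf a ∣ Nat.card ↥(socle G) := by
        intro h
        have h1 : orderOf a ∣ (socle G).index := by
          rw [Subgroup.index_eq_card]
          exact dvd_trans (orderOf_dvd_natCard a) (Subgroup.card_subgroup_dvd_card _)
        have h2 := Nat.dvd_gcd h h1
        rw [Nat.Coprime.gcd_eq_one hFcop] at h2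
        exact hap.one_lt.ne' (Nat.dvd_one.mp h2)
      -- two general facts
      have P1 : ∀ z : G, (QuotientGroup.mk' (socle G) z) ^ orderOf a = 1 →
          (z ^ Nat.card ↥(socle G)) ^ orderOf a = 1 := by
        intro z hz
        have hzF : z ^ orderOf a ∈ socle G := by
          rw [← QuotientGroup.eq_one_iff, QuotientGroup.mk_pow]
          exact hz
        have h := pow_card_eq_one' (G := ↥(socle G)) (x := ⟨z ^ orderOf a, hzF⟩)
        have h' := congrArg Subtype.val h
        rw [Subgroup.coe_pow, Subgroup.coe_one] at h'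
        rw [← pow_mul, mul_comm, pow_mul]
        exact h'
      have P2 : ∀ z : G, orderOf (QuotientGroup.mk' (socle G) z) = orderOf a →
          z ^ Nat.card ↥(socle G) ∉ socle G := by
        intro z hz hmem
        apply hℓf
        rw [← hz]
        apply orderOf_dvd_of_pow_eq_one
        rw [← map_pow]
        exact (QuotientGroup.eq_one_iff _).mpr hmem
      have P3 : ∀ z : G, orderOf (QuotientGroup.mk' (socle G) z) = orderOf a →
          orderOf (z ^ Nat.card ↥(socle G)) = orderOf a := by
        intro z hz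
        haveI : Fact (orderOf a).Prime := ⟨hap⟩
        apply orderOf_eq_prime
        · apply P1
          rw [← hz]
          exact pow_orderOf_eq_one _
        · intro h1
          apply P2 z hz
          rw [h1]
          exact Subgroup.one_mem _
      have hxo : orderOf (QuotientGroup.mk' (socle G) x) = orderOf a := by rw [hxa, hoa]
      have hyo : orderOf (QuotientGroup.mk' (socle G) y) = orderOf a := by rw [hyb, hob]
      have hx'o := P3 x hxo
      have hy'o := P3 y hyo
      -- a minimal normal subgroup not centralized by x'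
      have hx'F : x ^ Nat.card ↥(socle G) ∉ Subgroup.centralizer (socle G : Set G) :=
        fun h => P2 x hxo (hFcent h)
      obtain ⟨N, hN, hxN⟩ : ∃ N : Subgroup G, MinNormal N ∧
          x ^ Nat.card ↥(socle G) ∉ Subgroup.centralizer (N : Set G) := by
        by_contra hcon
        push_neg at hcon
        exact hx'F (mem_centralizer_socle hcon)
      haveI := hN.1
      have hstar : ∀ z : G, orderOf z = orderOf a → MulAut.conjNormal (H := N) z ≠ 1 := by
        intro z hz hφ
        obtain ⟨g, i, hgi⟩ := hAC.conj_of_orderOf (x := z) (y := x ^ Nat.card ↥(socle G))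
          (by rw [hz, hx'o])
        apply hxN
        rw [← conjNormal_eq_one_iff, hgi, map_mul, map_mul, map_zpow, hφ, one_zpow, mul_one,
          map_inv, mul_inv_cancel]
      haveI : Finite (MulAut ↥N) :=
        Finite.of_injective (fun σ : MulAut ↥N => (σ : ↥N → ↥N)) DFunLike.coe_injective
      haveI := cyc N hN
      have hx'C : MulAut.conjNormal (H := N) (x ^ Nat.card ↥(socle G)) ∈
          (Subgroup.normalizer ((B ⊓ socle G ⊓ N : Subgroup G) : Set G)).map
            (MulAut.conjNormal (H := N)) :=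
        Subgroup.mem_map_of_mem _ (hXN N hN (Subgroup.pow_mem _ hx _))
      have hy'C : MulAut.conjNormal (H := N) (y ^ Nat.card ↥(socle G)) ∈
          (Subgroup.normalizer ((B ⊓ socle G ⊓ N : Subgroup G) : Set G)).map
            (MulAut.conjNormal (H := N)) :=
        Subgroup.mem_map_of_mem _ (hXN N hN (Subgroup.pow_mem _ hy _))
      have hX1o : orderOf (⟨_, hx'C⟩ : ↥((Subgroup.normalizer
          ((B ⊓ socle G ⊓ N : Subgroup G) : Set G)).map (MulAut.conjNormal (H := N)))) =
          orderOf a := by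
        haveI : Fact (orderOf a).Prime := ⟨hap⟩
        apply orderOf_eq_prime
        · apply Subtype.ext
          rw [Subgroup.coe_pow, Subgroup.coe_one, ← map_pow, ← hx'o, pow_orderOf_eq_one, map_one]
        · intro h1
          exact hstar _ hx'o (congrArg Subtype.val h1)
      have hY1 : (⟨_, hy'C⟩ : ↥((Subgroup.normalizer
          ((B ⊓ socle G ⊓ N : Subgroup G) : Set G)).map (MulAut.conjNormal (H := N)))) ^
          orderOf a = 1 := by
        apply Subtype.ext
        rw [Subgroup.coe_pow, Subgroup.coe_one, ← map_pow, ← hy'o, pow_orderOf_eq_one, map_one]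
      obtain ⟨j, hj⟩ := Subgroup.mem_zpowers_iff.mp
        (Cfsg.Agent.Lib.Helper58.BG.mem_zpowers_of_pow_eq_one _ _ hap.pos hX1o hY1)
      have hj' : MulAut.conjNormal (H := N) (x ^ Nat.card ↥(socle G)) ^ j =
          MulAut.conjNormal (H := N) (y ^ Nat.card ↥(socle G)) := by
        have := congrArg Subtype.val hj
        simpa using this
      -- the element z
      have hzφ : MulAut.conjNormal (H := N)
          (y ^ Nat.card ↥(socle G) * ((x ^ Nat.card ↥(socle G)) ^ j)⁻¹) = 1 := by
        rw [map_mul, map_inv, map_zpow, hj', mul_inv_cancel]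
      have hzq : QuotientGroup.mk' (socle G)
          (y ^ Nat.card ↥(socle G) * ((x ^ Nat.card ↥(socle G)) ^ j)⁻¹) =
          ((b ^ Nat.card ↥(socle G) * ((a ^ Nat.card ↥(socle G)) ^ j)⁻¹ :
            ↥((Subgroup.normalizer ((B ⊓ socle G : Subgroup G) : Set G)).map
              (QuotientGroup.mk' (socle G)))) : G ⧸ socle G) := by
        rw [map_mul, map_inv, map_zpow, map_pow, map_pow, hxa, hyb]
        simp
      have hzpow : (b ^ Nat.card ↥(socle G) * ((a ^ Nat.card ↥(socle G)) ^ j)⁻¹ :
            ↥((Subgroup.normalizer ((B ⊓ socle G : Subgroup G) : Set G)).map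
              (QuotientGroup.mk' (socle G)))) ^ orderOf a = 1 := by
        rw [(Commute.mul_pow (hcX _ _) _), ← pow_mul, mul_comm, pow_mul, ← hba, pow_orderOf_eq_one,
          one_pow, one_mul, inv_pow, ← zpow_natCast, ← zpow_mul, mul_comm, zpow_mul, zpow_natCast,
          ← pow_mul, mul_comm _ (orderOf b), pow_mul, hba, pow_orderOf_eq_one, one_pow, one_zpow,
          inv_one]
      have hz1 : (b ^ Nat.card ↥(socle G) * ((a ^ Nat.card ↥(socle G)) ^ j)⁻¹ :
            ↥((Subgroup.normalizer ((B ⊓ socle G : Subgroup G) : Set G)).map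
              (QuotientGroup.mk' (socle G)))) = 1 := by
        by_contra hne
        haveI : Fact (orderOf a).Prime := ⟨hap⟩
        have ho := orderOf_eq_prime hzpow hne
        have ho' : orderOf (QuotientGroup.mk' (socle G)
            (y ^ Nat.card ↥(socle G) * ((x ^ Nat.card ↥(socle G)) ^ j)⁻¹)) = orderOf a := by
          rw [hzq, Subgroup.orderOf_coe, ho]
        have h3 := hstar _ (P3 _ ho')
        apply h3
        rw [map_pow, hzφ, one_pow]
      -- conclusion
      have hbf : b ^ Nat.card ↥(socle G) = (a ^ Nat.card ↥(socle G)) ^ j := by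
        rw [mul_inv_eq_one] at hz1
        exact hz1
      obtain ⟨m, hm⟩ := exists_pow_eq_self_of_coprime (x := b) (n := Nat.card ↥(socle G))
        (by
          rw [hba]
          exact Nat.Coprime.symm ((Nat.Prime.coprime_iff_not_dvd hap).mpr hℓf))
      rw [← hm, hbf]
      exact Subgroup.pow_mem _ (Subgroup.zpow_mem _ (Subgroup.pow_mem _
        (Subgroup.mem_zpowers a) _) _) _
    -- images of A' and B in the cyclic group coincide
    have hrel : (socle G).relIndex A' = (socle G).relIndex B := by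
      have h1 := card_inf_mul_relIndex (socle G) A'
      have h2 := card_inf_mul_relIndex (socle G) B
      rw [hW, hc', ← h2] at h1
      have hpos : 0 < Nat.card ↥(B ⊓ socle G) := Nat.card_pos
      exact Nat.eq_of_mul_eq_mul_left hpos h1
    have hcardq : Nat.card ↥(A'.map (QuotientGroup.mk' (socle G))) =
        Nat.card ↥(B.map (QuotientGroup.mk' (socle G))) := by
      have h1 := Subgroup.relIndex_ker (QuotientGroup.mk' (socle G)) (K := A')
      have h2 := Subgroup.relIndex_ker (QuotientGroup.mk' (socle G)) (K := B)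
      rw [QuotientGroup.ker_mk'] at h1 h2
      rw [← h1, ← h2, hrel]
    have heq := Cfsg.Agent.Lib.Helper58.BG.eq_of_card_eq_of_le_cyclic _ _ _ hcycX
      (Subgroup.map_mono hA'X) (Subgroup.map_mono hBX) hcardq
    have hD : A' ⊔ socle G = B ⊔ socle G := by
      have h := congrArg (Subgroup.comap (QuotientGroup.mk' (socle G))) heq
      rw [Subgroup.comap_map_eq, Subgroup.comap_map_eq, QuotientGroup.ker_mk'] at h
      exact h
    exact Cfsg.Agent.Lib.Helper31.BG.conj_of_sup_eq hsol (socle G) hFc hFcop A' B hc' hW hD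

end Cfsg.Agent.Lib.Helper69.BG
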