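import Mathlib
import Cfsg.Agent.Lib.Helper10.BWDefs

/-!
# S0997 case B2 (project BW), piece BW-OMN (helper69): `om` is multiplicative against `N_G(P)`
-/

set_option autoImplicit false
set_option linter.style.haveILetI false

namespace Cfsg.Agent.Lib.Helper10.BW

open Cfsg
open Cfsg.Agent.Lib.Helper83 (trivIrr)
open Cfsg.Agent.Lib.Helper10.BR (psum DOut)
open scoped ComplexConjugate

universe u

variable {G : Type u} [Group G] [Fintype G]

private theorem omn_psum_right (P : Subgroup G) (ψ : G → ℂ) (y u0 : G) (hu : u0 ∈ P) :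
    psum P ψ (y * u0) = psum P ψ y := by
  classical
  haveI := Fintype.ofFinite P
  rw [Cfsg.Agent.Lib.Helper10.BR.psum_eq_sum, Cfsg.Agent.Lib.Helper10.BR.psum_eq_sum]
  refine Fintype.sum_equiv (Equiv.mulLeft (⟨u0, hu⟩ : P)) _ _ (fun v => ?_)
  simp [mul_assoc]

private theorem omn_psum_left (P : Subgroup G) (ψ : G → ℂ) (hψ : IsClassFunction G ψ)
    (y u0 : G) (hu : u0 ∈ P) :
    psum P ψ (u0 * y) = psum P ψ y := by
  classical
  haveI := Fintype.ofFinite P
  rw [Cfsg.Agent.Lib.Helper10.BR.psum_eq_sum, Cfsg.Agent.Lib.Helper10.BR.psum_eq_sum]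
  refine Fintype.sum_equiv (Equiv.mulRight (⟨u0, hu⟩ : P)) _ _ (fun v => ?_)
  have h := hψ (u0 * y * (v : G)) u0⁻¹
  rw [← h]
  congr 1
  simp [mul_assoc]

/-- BW-OMN -/
theorem om_mul_norm (P : Subgroup G) (ψ : G → ℂ) (hψ : IsClassFunction G ψ)
    (hrk : ∀ a b : G, (∑ᶠ u : P, om P ψ (a * (u : G) * b)) / (Nat.card P : ℂ) =
      om P ψ a * om P ψ b)
    (n : G) (hn : n ∈ Subgroup.normalizer (P : Set G)) (g : G) :
    om P ψ (n * g) = om P ψ n * om P ψ g ∧ om P ψ (g * n) = om P ψ g * om P ψ n := by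
  classical
  haveI := Fintype.ofFinite P
  have hP : (Nat.card P : ℂ) ≠ 0 := by
    have : 0 < Nat.card P := Nat.card_pos
    exact_mod_cast this.ne'
  have hconst : ∀ c : ℂ, (∑ᶠ _u : P, c) / (Nat.card P : ℂ) = c := by
    intro c
    rw [finsum_eq_sum_of_fintype, Finset.sum_const, Finset.card_univ, nsmul_eq_mul,
      ← Nat.card_eq_fintype_card]
    exact mul_div_cancel_left₀ c hP
  constructor
  · rw [← hrk n g]
    have h1 : ∀ u : P, om P ψ (n * (u : G) * g) = om P ψ (n * g) := by
      intro u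
      have hu' : n * (u : G) * n⁻¹ ∈ P := (Subgroup.mem_normalizer_iff.1 hn (u : G)).1 u.2
      have e : n * (u : G) * g = (n * (u : G) * n⁻¹) * (n * g) := by group
      unfold om
      rw [e, omn_psum_left P ψ hψ _ _ hu']
    simp only [h1]
    exact (hconst _).symm
  · rw [← hrk g n]
    have h2 : ∀ u : P, om P ψ (g * (u : G) * n) = om P ψ (g * n) := by
      intro u
      have hu' : n⁻¹ * (u : G) * n ∈ P := by
        apply (Subgroup.mem_normalizer_iff.1 hn (n⁻¹ * (u : G) * n)).2
        have e' : n * (n⁻¹ * (u : G) * n) * n⁻¹ = (u : G) := by group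
        rw [e']
        exact u.2
      have e : g * (u : G) * n = (g * n) * (n⁻¹ * (u : G) * n) := by group
      unfold om
      rw [e, omn_psum_right P ψ _ _ hu']
    simp only [h2]
    exact (hconst _).symm

end Cfsg.Agent.Lib.Helper10.BW
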