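import Mathlib
import Cfsg.Prelude.Def_Solvable
import Cfsg.Agent.Lib.Helper69.MaxCent
import Cfsg.Agent.S0035

set_option autoImplicit false
open Cfsg
open scoped commutatorElement Pointwise

/-! Finite groups in which the centralizer of every non-central element is a maximal subgroup:
the case of a non-normal abelian centralizer (helper69). -/

namespace Cfsg.Agent.Lib.Helper69.MaxCent

variable {G : Type*} [Group G]

/-- a non-normal maximal subgroup is self-normalizing -/
theorem mem_of_normalizes {M : Subgroup G} (hM : IsCoatom M) (hn : ¬ M.Normal) {g : G}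
    (hg : g ∈ Subgroup.normalizer (M : Set G)) : g ∈ M := by
  rcases hM.le_iff.mp (Subgroup.le_normalizer (H := M)) with h1 | h1
  · exact absurd (Subgroup.normalizer_eq_top_iff.mp h1) hn
  · exact h1 ▸ hg

theorem mem_Cn_conj {x g k : G} : k ∈ Cn (g * x * g⁻¹) ↔ g⁻¹ * k * g ∈ Cn x := by
  rw [mem_Cn, mem_Cn]
  constructor
  · intro h
    calc g⁻¹ * k * g * x = g⁻¹ * (k * (g * x * g⁻¹)) * g := by group
      _ = g⁻¹ * (g * x * g⁻¹ * k) * g := by rw [h]
      _ = x * (g⁻¹ * k * g) := by group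
  · intro h
    calc k * (g * x * g⁻¹) = g * (g⁻¹ * k * g * x) * g⁻¹ := by group
      _ = g * (x * (g⁻¹ * k * g)) * g⁻¹ := by rw [h]
      _ = g * x * g⁻¹ * k := by group

theorem conj_not_mem_center {x : G} (hx : x ∉ Subgroup.center G) (g : G) :
    g * x * g⁻¹ ∉ Subgroup.center G := by
  intro h
  apply hx
  have := (inferInstance : (Subgroup.center G).Normal).conj_mem _ h g⁻¹
  have e : g⁻¹ * (g * x * g⁻¹) * g⁻¹⁻¹ = x := by group
  rwa [e] at this

/-- the centre of the centralizer of `x` -/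
abbrev Zc (x : G) : Subgroup G := Subgroup.centralizer ((Cn x : Subgroup G) : Set G)

theorem Zc_le_Cn (x : G) : Zc x ≤ Cn x := by
  intro k hk
  rw [mem_Cn]
  exact (Subgroup.mem_centralizer_iff.mp hk x (self_mem_Cn x)).symm

theorem self_mem_Zc (x : G) : x ∈ Zc x := by
  rw [Subgroup.mem_centralizer_iff]
  intro m hm
  exact mem_Cn.mp hm

theorem center_le_Zc (x : G) : Subgroup.center G ≤ Zc x := Subgroup.center_le_centralizer _

theorem Cn_eq_of_mem_Zc (h : MC G) {x y : G} (hx : x ∉ Subgroup.center G) (hy : y ∈ Zc x)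
    (hyZ : y ∉ Subgroup.center G) : Cn y = Cn x := by
  refine (Cn_eq_of_le h hx hyZ ?_).symm
  intro m hm
  rw [mem_Cn]
  exact Subgroup.mem_centralizer_iff.mp hy m hm

/-- the centre of a non-normal centralizer meets its conjugates in the centre of `G` -/
theorem ti (h : MC G) {x : G} (hx : x ∉ Subgroup.center G) (hn : ¬ (Cn x).Normal) {g a : G}
    (hg : g ∉ Cn x) (ha : a ∈ Zc x) (hga : g * a * g⁻¹ ∈ Zc x) : a ∈ Subgroup.center G := by
  by_contra haZ
  have h1 : Cn a = Cn x := Cn_eq_of_mem_Zc h hx ha haZ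
  have h2 : Cn (g * a * g⁻¹) = Cn x := Cn_eq_of_mem_Zc h hx hga (conj_not_mem_center haZ g)
  apply hg
  have h3 : g⁻¹ ∈ Subgroup.normalizer ((Cn x : Subgroup G) : Set G) := by
    rw [Subgroup.mem_normalizer_iff]
    intro k
    rw [inv_inv]
    constructor
    · intro hk
      have hk' : k ∈ Cn (g * a * g⁻¹) := h2 ▸ hk
      rw [mem_Cn_conj] at hk'
      exact h1 ▸ hk'
    · intro hk
      have hk' : g⁻¹ * k * g ∈ Cn a := h1 ▸ hk
      rw [← mem_Cn_conj] at hk'
      exact h2 ▸ hk'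
  have h4 := mem_of_normalizes (h x hx) hn h3
  simpa using (Cn x).inv_mem h4

theorem mk_mem_map {N M : Subgroup G} [N.Normal] (hNM : N ≤ M) {g : G} :
    (g : G ⧸ N) ∈ M.map (QuotientGroup.mk' N) ↔ g ∈ M := by
  constructor
  · rintro ⟨m, hm, e⟩
    have h1 : m⁻¹ * g ∈ N := QuotientGroup.eq.mp e
    have e2 : g = m * (m⁻¹ * g) := by group
    rw [e2]
    exact M.mul_mem hm (hNM h1)
  · intro hg
    exact ⟨g, hg, rfl⟩

theorem comm_aux {k c w z : G} (hck : c * k = k * c) (hz : z ∈ Subgroup.center G)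
    (hw : w = c * z⁻¹) : k * w = w * k := by
  subst hw
  have hzk : k * z⁻¹ = z⁻¹ * k := Subgroup.mem_center_iff.mp (Subgroup.inv_mem _ hz) k
  calc k * (c * z⁻¹) = (k * c) * z⁻¹ := (mul_assoc _ _ _).symm
    _ = (c * k) * z⁻¹ := by rw [hck]
    _ = c * (k * z⁻¹) := mul_assoc _ _ _
    _ = c * (z⁻¹ * k) := by rw [hzk]
    _ = c * z⁻¹ * k := (mul_assoc _ _ _).symm

/-- the case of a non-normal abelian centralizer -/
theorem caseB1 [Finite G] (h : MC G) {u : G} (hu : u ∉ Subgroup.center G)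
    (hn : ¬ (Cn u).Normal) (hab : ∀ a ∈ Cn u, ∀ b ∈ Cn u, a * b = b * a) :
    ¬ IsMulCommutative (G ⧸ Subgroup.center G) ∧
      (∀ H : Subgroup (G ⧸ Subgroup.center G), H ≠ ⊤ → IsMulCommutative ↥H) ∧
      ∃ p q a : ℕ, p.Prime ∧ q.Prime ∧ p ≠ q ∧ Nat.card (G ⧸ Subgroup.center G) = p ^ a * q ∧
        ∀ P : Subgroup (G ⧸ Subgroup.center G), Nat.card ↥P = p ^ a → P.Normal := by
  have hZM : Subgroup.center G ≤ Cn u := center_le_Cn u
  have hMA : Cn u ≤ Zc u := by
    intro k hk
    rw [Subgroup.mem_centralizer_iff]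
    intro m hm
    exact hab m hm k hk
  have hmem : ∀ g : G, (g : G ⧸ Subgroup.center G) ∈ (Cn u).map (QuotientGroup.mk' _) ↔ g ∈ Cn u :=
    fun g => mk_mem_map hZM
  have hu1 : (u : G ⧸ Subgroup.center G) ≠ 1 := by
    rw [Ne, QuotientGroup.eq_one_iff]; exact hu
  have huM : (u : G ⧸ Subgroup.center G) ∈ (Cn u).map (QuotientGroup.mk' _) :=
    (hmem u).mpr (self_mem_Cn u)
  obtain ⟨g₀, hg₀⟩ : ∃ g : G, g ∉ Cn u := by
    by_contra hcon
    push Not at hcon
    exact (h u hu).1 (eq_top_iff.mpr fun x _ => hcon x)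
  -- the Frobenius complement
  have hF : IsFrobeniusComplement ((Cn u).map (QuotientGroup.mk' (Subgroup.center G))) := by
    refine ⟨?_, ?_, ?_⟩
    · intro h0
      rw [h0, Subgroup.mem_bot] at huM
      exact hu1 huM
    · intro h0
      have : (g₀ : G ⧸ Subgroup.center G) ∈ (Cn u).map (QuotientGroup.mk' _) := h0 ▸ Subgroup.mem_top _
      exact hg₀ ((hmem g₀).mp this)
    · intro q hq
      induction q using QuotientGroup.induction_on with
      | H g =>
        have hg : g ∉ Cn u := fun hg => hq ((hmem g).mpr hg)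
        rw [eq_bot_iff]
        rintro x ⟨hx1, hx2⟩
        obtain ⟨s, hs, rfl⟩ := (Subgroup.mem_smul_pointwise_iff_exists _ _ _).mp hx2
        obtain ⟨b, hb, rfl⟩ := hs
        have hx1' : ((g * b * g⁻¹ : G) : G ⧸ Subgroup.center G) ∈
            (Cn u).map (QuotientGroup.mk' _) := hx1
        have h1 := (hmem _).mp hx1'
        have hbZ := ti h hu hn hg (hMA hb) (hMA h1)
        rw [Subgroup.mem_bot]
        have : (QuotientGroup.mk' (Subgroup.center G)) b = 1 := (QuotientGroup.eq_one_iff b).mpr hbZ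
        rw [this, smul_one]
  obtain ⟨Kb, hKset, hKn, hKc⟩ := Cfsg.Agent.S0035.result _ hF
  have mem_K : ∀ x : G ⧸ Subgroup.center G, x ∈ Kb ↔
      (x = 1 ∨ ∀ q : G ⧸ Subgroup.center G, x ∉ MulAut.conj q • (Cn u).map (QuotientGroup.mk' _)) := by
    intro x
    have : x ∈ (Kb : Set _) ↔ x ∈ frobeniusKernel ((Cn u).map (QuotientGroup.mk' (Subgroup.center G))) := by
      rw [hKset]
    exact this
  have hKM : ∀ x : G ⧸ Subgroup.center G, x ∈ Kb → x ∈ (Cn u).map (QuotientGroup.mk' _) → x = 1 := by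
    intro x h1 h2
    have := hKc.disjoint.le_bot (show x ∈ Kb ⊓ _ from ⟨h1, h2⟩)
    exact Subgroup.mem_bot.mp this
  have hcard := hKc.card_mul_card
  have hKtop : Kb ≠ ⊤ := fun h0 => hu1 (hKM _ (h0 ▸ Subgroup.mem_top _) huM)
  have hKbot : Kb ≠ ⊥ := by
    intro h0
    rw [h0, Subgroup.card_bot, one_mul] at hcard
    have := Subgroup.eq_top_of_card_eq _ hcard
    exact hF.2.1 this
  -- centralizers of elements of the kernel
  have hCK : ∀ k : G, (k : G ⧸ Subgroup.center G) ∈ Kb → k ∉ Subgroup.center G →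
      ∀ c ∈ Cn k, (c : G ⧸ Subgroup.center G) ∈ Kb := by
    intro k hk hkZ c hc
    rw [mem_K]
    by_contra hcon
    push Not at hcon
    obtain ⟨hc1, q, hq⟩ := hcon
    induction q using QuotientGroup.induction_on with
    | H g =>
      obtain ⟨s, hs, e⟩ := (Subgroup.mem_smul_pointwise_iff_exists _ _ _).mp hq
      obtain ⟨m, hm, rfl⟩ := hs
      have e' : ((g * m * g⁻¹ : G) : G ⧸ Subgroup.center G) = (c : G ⧸ Subgroup.center G) := e
      have hz : (g * m * g⁻¹)⁻¹ * c ∈ Subgroup.center G := QuotientGroup.eq.mp e'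
      have hmZ : m ∉ Subgroup.center G := by
        intro hmZ
        apply hc1
        rw [← e', QuotientGroup.eq_one_iff]
        exact (inferInstance : (Subgroup.center G).Normal).conj_mem _ hmZ g
      have hCm : Cn m = Cn u := Cn_eq_of_mem_Zc h hu (hMA hm) hmZ
      -- `k` commutes with `g m g⁻¹`
      have hk1 : k ∈ Cn (g * m * g⁻¹) := by
        rw [mem_Cn]
        exact comm_aux (mem_Cn.mp hc) hz (by group)
      rw [mem_Cn_conj, hCm] at hk1
      have hk2 : (k : G ⧸ Subgroup.center G) ∈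
          MulAut.conj (g : G ⧸ Subgroup.center G) • (Cn u).map (QuotientGroup.mk' _) := by
        rw [Subgroup.mem_smul_pointwise_iff_exists]
        refine ⟨((g⁻¹ * k * g : G) : G ⧸ Subgroup.center G), (hmem _).mpr hk1, ?_⟩
        show (g : G ⧸ Subgroup.center G) * ((g⁻¹ * k * g : G) : G ⧸ Subgroup.center G) *
          (g : G ⧸ Subgroup.center G)⁻¹ = k
        rw [← QuotientGroup.mk_inv, ← QuotientGroup.mk_mul, ← QuotientGroup.mk_mul]
        congr 1
        group
      have hk3 := (mem_K _).mp hk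
      rcases hk3 with hk3 | hk3
      · exact hkZ ((QuotientGroup.eq_one_iff k).mp hk3)
      · exact hk3 _ hk2
  have hKcomap_top : Kb.comap (QuotientGroup.mk' (Subgroup.center G)) ≠ ⊤ := by
    intro h0
    apply hKtop
    rw [eq_top_iff]
    intro x _
    induction x using QuotientGroup.induction_on with
    | H x =>
      have : x ∈ Kb.comap (QuotientGroup.mk' (Subgroup.center G)) := h0 ▸ Subgroup.mem_top x
      exact this
  have hCeq : ∀ k : G, (k : G ⧸ Subgroup.center G) ∈ Kb → k ∉ Subgroup.center G →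
      Kb.comap (QuotientGroup.mk' (Subgroup.center G)) = Cn k := by
    intro k hk hkZ
    exact ((h k hkZ).le_iff_eq hKcomap_top).mp (fun c hc => hCK k hk hkZ c hc)
  obtain ⟨k₀, hk₀, hk₀Z⟩ : ∃ k₀ : G, (k₀ : G ⧸ Subgroup.center G) ∈ Kb ∧ k₀ ∉ Subgroup.center G := by
    obtain ⟨⟨x, hx⟩, hx1⟩ := (Subgroup.ne_bot_iff_exists_ne_one).mp hKbot
    obtain ⟨k, rfl⟩ := QuotientGroup.mk_surjective x
    exact ⟨k, hx, fun hkZ => hx1 (Subtype.ext ((QuotientGroup.eq_one_iff k).mpr hkZ))⟩
  set K := Kb.comap (QuotientGroup.mk' (Subgroup.center G)) with hKdef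
  have hKk₀ : K = Cn k₀ := hCeq k₀ hk₀ hk₀Z
  have hKco : IsCoatom K := hKk₀ ▸ h k₀ hk₀Z
  haveI hKnorm : K.Normal := hKn.comap _
  have hq := card_quotient_prime_of_coatom K hKco
  -- `K` is abelian
  have hKab : ∀ a ∈ K, ∀ b ∈ K, a * b = b * a := by
    intro a ha b hb
    by_cases haZ : a ∈ Subgroup.center G
    · exact (Subgroup.mem_center_iff.mp haZ b).symm
    · have hb' : b ∈ Cn a := (hCeq a ha haZ) ▸ hb
      exact (mem_Cn.mp hb').symm
  have hKbab : ∀ x ∈ Kb, ∀ y ∈ Kb, x * y = y * x := by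
    intro x hx y hy
    obtain ⟨a, rfl⟩ := QuotientGroup.mk_surjective x
    obtain ⟨b, rfl⟩ := QuotientGroup.mk_surjective y
    have := hKab a hx b hy
    exact congrArg (QuotientGroup.mk' (Subgroup.center G)) this
  -- `|M/Z| = q`
  have hMq : Nat.card ((Cn u).map (QuotientGroup.mk' (Subgroup.center G))) = Nat.card (G ⧸ K) := by
    have h1 : K.index = Kb.index :=
      Subgroup.index_comap_of_surjective _ (QuotientGroup.mk'_surjective _)
    have h2 := Subgroup.card_mul_index Kb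
    rw [← hcard] at h2
    have h3 := Nat.eq_of_mul_eq_mul_left Nat.card_pos h2
    rw [← Subgroup.index_eq_card K, h1]
    exact h3.symm
  -- the exponent of the kernel
  have hKb1 : Nat.card Kb ≠ 1 := fun h1 => hKbot (Subgroup.card_eq_one.mp h1)
  have hp : (Nat.card Kb).minFac.Prime := Nat.minFac_prime hKb1
  set p := (Nat.card Kb).minFac with hpdef
  haveI : Fact p.Prime := ⟨hp⟩
  obtain ⟨⟨x₁, hx₁⟩, ho⟩ := exists_prime_orderOf_dvd_card' (G := Kb) p (Nat.minFac_dvd _)
  obtain ⟨k₁, rfl⟩ := QuotientGroup.mk_surjective x₁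
  have ho' : orderOf (k₁ : G ⧸ Subgroup.center G) = p := by
    rw [← ho]
    exact (Subgroup.orderOf_mk _ _).symm
  have hk₁Z : k₁ ∉ Subgroup.center G := by
    intro hc
    rw [(QuotientGroup.eq_one_iff k₁).mpr hc, orderOf_one] at ho'
    exact hp.one_lt.ne ho'
  have hk₁p : k₁ ^ p ∈ Subgroup.center G := by
    rw [pow_mem_center_iff, ho']
  let L : Subgroup G :=
    { carrier := {k | k ∈ K ∧ k ^ p ∈ Subgroup.center G}
      one_mem' := ⟨K.one_mem, by rw [one_pow]; exact Subgroup.one_mem _⟩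
      mul_mem' := fun {a b} ha hb => ⟨K.mul_mem ha.1 hb.1, by
        rw [Commute.mul_pow (show Commute a b from hKab a ha.1 b hb.1)]
        exact Subgroup.mul_mem _ ha.2 hb.2⟩
      inv_mem' := fun {a} ha => ⟨K.inv_mem ha.1, by
        rw [inv_pow]; exact Subgroup.inv_mem _ ha.2⟩ }
  haveI hLn : L.Normal := by
    constructor
    intro k hk g
    refine ⟨hKnorm.conj_mem k hk.1 g, ?_⟩
    rw [conj_pow]
    exact (inferInstance : (Subgroup.center G).Normal).conj_mem _ hk.2 g
  have hk₁M : k₁ ∉ Cn u := by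
    intro hc
    exact hk₁Z ((QuotientGroup.eq_one_iff k₁).mp (hKM _ hx₁ ((hmem k₁).mpr hc)))
  have htop : Cn u ⊔ L = ⊤ := by
    apply (h u hu).2
    exact lt_of_le_of_ne le_sup_left
      (fun he => hk₁M (he ▸ Subgroup.mem_sup_right (show k₁ ∈ L from ⟨hx₁, hk₁p⟩)))
  have hexp : ∀ k ∈ K, k ^ p ∈ Subgroup.center G := by
    intro k hk
    have hk' : k ∈ Cn u ⊔ L := htop ▸ Subgroup.mem_top k
    obtain ⟨m, hm, l, hl, rfl⟩ := Subgroup.mem_sup_of_normal_right.mp hk'
    have hmK : m ∈ K := by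
      have e : m = (m * l) * l⁻¹ := by group
      rw [e]
      exact K.mul_mem hk (K.inv_mem hl.1)
    have hmZ : m ∈ Subgroup.center G :=
      (QuotientGroup.eq_one_iff m).mp (hKM _ hmK ((hmem m).mpr hm))
    rw [Commute.mul_pow (show Commute m l from (Subgroup.mem_center_iff.mp hmZ l).symm)]
    exact Subgroup.mul_mem _ (Subgroup.pow_mem _ hmZ p) hl.2
  have hKbexp : ∀ x ∈ Kb, x ^ p = 1 := by
    intro x hx
    obtain ⟨k, rfl⟩ := QuotientGroup.mk_surjective x
    have := (QuotientGroup.eq_one_iff (k ^ p)).mpr (hexp k hx)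
    exact this
  have hKbp : IsPGroup p Kb := fun x => ⟨1, by rw [pow_one]; exact Subtype.ext (hKbexp x.1 x.2)⟩
  obtain ⟨a, ha⟩ := IsPGroup.iff_card.mp hKbp
  set q := Nat.card (G ⧸ K) with hqdef
  have hpq : p ≠ q := by
    intro e
    have hcardG : Nat.card (G ⧸ Subgroup.center G) = p ^ (a + 1) := by
      rw [← hcard, ha, hMq, ← e, pow_succ]
    have hPG : IsPGroup p (G ⧸ Subgroup.center G) := IsPGroup.of_card hcardG
    haveI : Group.IsNilpotent (G ⧸ Subgroup.center G) := hPG.isNilpotent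
    have hnc := normalizerCondition_of_isNilpotent (G := G ⧸ Subgroup.center G) _
      (lt_top_iff_ne_top.mpr hF.2.1)
    obtain ⟨x, hx, hxM⟩ := SetLike.exists_of_lt hnc
    have h1 := hF.2.2 x hxM
    have h2 : x * (u : G ⧸ Subgroup.center G) * x⁻¹ ∈ (Cn u).map (QuotientGroup.mk' _) :=
      (Subgroup.mem_normalizer_iff.mp hx _).mp huM
    have h3 : x * (u : G ⧸ Subgroup.center G) * x⁻¹ ∈
        MulAut.conj x • (Cn u).map (QuotientGroup.mk' (Subgroup.center G)) :=
      Subgroup.smul_mem_pointwise_smul _ (MulAut.conj x) _ huM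
    have h4 : x * (u : G ⧸ Subgroup.center G) * x⁻¹ ∈ (⊥ : Subgroup (G ⧸ Subgroup.center G)) :=
      h1 ▸ ⟨h2, h3⟩
    rw [Subgroup.mem_bot] at h4
    apply hu1
    have e2 : (u : G ⧸ Subgroup.center G) = x⁻¹ * (x * u * x⁻¹) * x := by group
    rw [e2, h4]
    group
  refine ⟨?_, ?_, p, q, a, hp, hq, hpq, ?_, ?_⟩
  · -- not commutative
    intro hc
    have hg₀' : (g₀ : G ⧸ Subgroup.center G) ∉ (Cn u).map (QuotientGroup.mk' _) :=
      fun hh => hg₀ ((hmem g₀).mp hh)
    have h1 := hF.2.2 _ hg₀'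
    have h3 : (g₀ : G ⧸ Subgroup.center G) * u * (g₀ : G ⧸ Subgroup.center G)⁻¹ ∈
        MulAut.conj (g₀ : G ⧸ Subgroup.center G) • (Cn u).map (QuotientGroup.mk' (Subgroup.center G)) :=
      Subgroup.smul_mem_pointwise_smul _ (MulAut.conj _) _ huM
    have e : (g₀ : G ⧸ Subgroup.center G) * u * (g₀ : G ⧸ Subgroup.center G)⁻¹ = u := by
      rw [hc.is_comm.comm (g₀ : G ⧸ Subgroup.center G) u, mul_inv_cancel_right]
    rw [e] at h3
    have h4 : (u : G ⧸ Subgroup.center G) ∈ (⊥ : Subgroup (G ⧸ Subgroup.center G)) := h1 ▸ ⟨huM, h3⟩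
    exact hu1 (Subgroup.mem_bot.mp h4)
  · -- proper subgroups are abelian
    intro H hH
    by_cases hHK : H ≤ Kb
    · exact ⟨⟨fun x y => Subtype.ext (hKbab x.1 (hHK x.2) y.1 (hHK y.2))⟩⟩
    · obtain ⟨x, hxH, hxK⟩ := SetLike.not_le_iff_exists.mp hHK
      rw [mem_K] at hxK
      push Not at hxK
      obtain ⟨hx1, t, ht⟩ := hxK
      obtain ⟨g, rfl⟩ := QuotientGroup.mk_surjective t
      obtain ⟨s, hs, rfl⟩ := (Subgroup.mem_smul_pointwise_iff_exists _ _ _).mp ht
      obtain ⟨c, hc, rfl⟩ := hs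
      have hcZ : c ∉ Subgroup.center G := by
        intro hcZ
        apply hx1
        have : (QuotientGroup.mk' (Subgroup.center G)) c = 1 := (QuotientGroup.eq_one_iff c).mpr hcZ
        rw [this, smul_one]
      haveI : Fact q.Prime := ⟨hq⟩
      have hgen : ∀ y ∈ (Cn u).map (QuotientGroup.mk' (Subgroup.center G)),
          ∃ i : ℤ, y = (c : G ⧸ Subgroup.center G) ^ i := by
        intro y hy
        have hc' : (⟨(c : G ⧸ Subgroup.center G), (hmem c).mpr hc⟩ :
            (Cn u).map (QuotientGroup.mk' (Subgroup.center G))) ≠ 1 := by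
          intro h1
          exact hcZ ((QuotientGroup.eq_one_iff c).mp (congrArg Subtype.val h1))
        have h2 := zpowers_eq_top_of_prime_card hMq hc'
        have h3 : (⟨y, hy⟩ : (Cn u).map (QuotientGroup.mk' (Subgroup.center G))) ∈
            Subgroup.zpowers (⟨(c : G ⧸ Subgroup.center G), (hmem c).mpr hc⟩ :
              (Cn u).map (QuotientGroup.mk' (Subgroup.center G))) := h2 ▸ Subgroup.mem_top _
        obtain ⟨i, hi⟩ := Subgroup.mem_zpowers_iff.mp h3
        exact ⟨i, (congrArg Subtype.val hi).symm⟩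
      have hH' : H.comap (QuotientGroup.mk' (Subgroup.center G)) ≠ ⊤ := by
        intro h0
        apply hH
        rw [eq_top_iff]
        intro y _
        obtain ⟨b, rfl⟩ := QuotientGroup.mk_surjective y
        have : b ∈ H.comap (QuotientGroup.mk' (Subgroup.center G)) := h0 ▸ Subgroup.mem_top b
        exact this
      have hu' : g * u * g⁻¹ ∉ Subgroup.center G := conj_not_mem_center hu g
      have hle : Cn (g * u * g⁻¹) ≤ H.comap (QuotientGroup.mk' (Subgroup.center G)) := by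
        intro m' hm'
        rw [mem_Cn_conj] at hm'
        obtain ⟨i, hi⟩ := hgen _ ((hmem _).mpr hm')
        show (m' : G ⧸ Subgroup.center G) ∈ H
        have e : (m' : G ⧸ Subgroup.center G) =
            ((g : G ⧸ Subgroup.center G) * c * (g : G ⧸ Subgroup.center G)⁻¹) ^ i := by
          rw [conj_zpow, ← hi, ← QuotientGroup.mk_inv, ← QuotientGroup.mk_mul,
            ← QuotientGroup.mk_mul]
          congr 1
          group
        rw [e]
        exact H.zpow_mem hxH i
      have hHeq := ((h _ hu').le_iff_eq hH').mp hle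
      refine ⟨⟨fun y z => Subtype.ext ?_⟩⟩
      obtain ⟨b₁, hb₁⟩ := QuotientGroup.mk_surjective y.1
      obtain ⟨b₂, hb₂⟩ := QuotientGroup.mk_surjective z.1
      have m1 : b₁ ∈ Cn (g * u * g⁻¹) := by
        rw [← hHeq]
        show (b₁ : G ⧸ Subgroup.center G) ∈ H
        rw [hb₁]
        exact y.2
      have m2 : b₂ ∈ Cn (g * u * g⁻¹) := by
        rw [← hHeq]
        show (b₂ : G ⧸ Subgroup.center G) ∈ H
        rw [hb₂]
        exact z.2
      rw [mem_Cn_conj] at m1 m2
      have hcomm := hab _ m1 _ m2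
      have hb : b₁ * b₂ = b₂ * b₁ := by
        have e1 : b₁ * b₂ = g * ((g⁻¹ * b₁ * g) * (g⁻¹ * b₂ * g)) * g⁻¹ := by group
        have e2 : b₂ * b₁ = g * ((g⁻¹ * b₂ * g) * (g⁻¹ * b₁ * g)) * g⁻¹ := by group
        rw [e1, e2, hcomm]
      show y.1 * z.1 = z.1 * y.1
      rw [← hb₁, ← hb₂]
      exact congrArg (QuotientGroup.mk' (Subgroup.center G)) hb
  · rw [← hcard, ha, hMq]
  · intro P hP
    have hPK : P ≤ Kb := by
      intro x hx
      by_contra hxK
      rw [mem_K] at hxK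
      push Not at hxK
      obtain ⟨hx1, t, ht⟩ := hxK
      obtain ⟨s, hs, rfl⟩ := (Subgroup.mem_smul_pointwise_iff_exists _ _ _).mp ht
      have hs1 : s ≠ 1 := by
        rintro rfl
        exact hx1 (smul_one _)
      have ho1 : orderOf s = q := by
        have h1 : orderOf (⟨s, hs⟩ : (Cn u).map (QuotientGroup.mk' (Subgroup.center G))) ∣ q := by
          rw [← hMq]
          exact orderOf_dvd_natCard _
        rw [Subgroup.orderOf_mk] at h1
        exact ((Nat.dvd_prime hq).mp h1).resolve_left (fun h0 => hs1 (orderOf_eq_one_iff.mp h0))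
      have ho2 : orderOf (MulAut.conj t • s) = q := by
        rw [← ho1]
        exact MulEquiv.orderOf_eq (MulAut.conj t) s
      have h3 : orderOf (⟨MulAut.conj t • s, hx⟩ : P) ∣ Nat.card P := orderOf_dvd_natCard _
      rw [Subgroup.orderOf_mk, ho2, hP] at h3
      have := (Nat.prime_dvd_prime_iff_eq hq hp).mp (hq.dvd_of_dvd_pow h3)
      exact hpq this.symm
    have hPeq : P = Kb := Subgroup.eq_of_le_of_card_ge hPK (by rw [hP, ha])
    rw [hPeq]
    exact hKn

end Cfsg.Agent.Lib.Helper69.MaxCent
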