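import Mathlib
import Cfsg.Agent.Lib.Helper69.MaxCentB

set_option autoImplicit false
open Cfsg
open scoped commutatorElement Pointwise

/-! Finite groups in which the centralizer of every non-central element is a maximal subgroup:
a non-normal centralizer is abelian (helper69). -/

namespace Cfsg.Agent.Lib.Helper69.MaxCent

variable {G : Type*} [Group G]

/-- an element of a non-abelian centralizer outside its centre -/
theorem exists_not_mem_Zc {u : G} (hnab : ¬ ∀ a ∈ Cn u, ∀ b ∈ Cn u, a * b = b * a) :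
    ∃ y ∈ Cn u, y ∉ Zc u := by
  push Not at hnab
  obtain ⟨a, ha, b, hb, hab⟩ := hnab
  refine ⟨b, hb, fun hc => hab ?_⟩
  exact Subgroup.mem_centralizer_iff.mp hc a ha

theorem Cn_ne_of_not_mem_Zc {u y : G} (hy : y ∉ Zc u) : Cn y ≠ Cn u := by
  intro he
  apply hy
  have := self_mem_Zc y
  rwa [Zc, he] at this

/-- a non-abelian centralizer has prime exponent modulo the centre -/
theorem exp_of_nonabelian [Finite G] (h : MC G) {u : G} (hu : u ∉ Subgroup.center G)
    (hnab : ¬ ∀ a ∈ Cn u, ∀ b ∈ Cn u, a * b = b * a) :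
    ∃ p : ℕ, p.Prime ∧ ∀ m ∈ Cn u, m ^ p ∈ Subgroup.center G := by
  obtain ⟨y₀, hy₀, hy₀A⟩ := exists_not_mem_Zc hnab
  have hy₀Z : y₀ ∉ Subgroup.center G := fun hc => hy₀A (center_le_Zc u hc)
  have hne : Cn u ≠ Cn y₀ := (Cn_ne_of_not_mem_Zc hy₀A).symm
  obtain ⟨p, hp, hup, hyp⟩ := exists_prime_pow_mem_center h hu hy₀Z (mem_Cn.mp hy₀).symm hne
  refine ⟨p, hp, ?_⟩
  intro m hm
  by_cases hmZ : m ∈ Subgroup.center G
  · exact Subgroup.pow_mem _ hmZ p
  by_cases hmA : m ∈ Zc u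
  · have hCm : Cn m = Cn u := Cn_eq_of_mem_Zc h hu hmA hmZ
    have hcomm : m * y₀ = y₀ * m := (Subgroup.mem_centralizer_iff.mp hmA y₀ hy₀).symm
    obtain ⟨r, hr, hmr, hyr⟩ := exists_prime_pow_mem_center h hmZ hy₀Z hcomm (hCm ▸ hne)
    have := prime_unique hy₀Z hp hr hyp hyr
    rw [this]
    exact hmr
  · have hne' : Cn u ≠ Cn m := (Cn_ne_of_not_mem_Zc hmA).symm
    obtain ⟨r, hr, hur, hmr⟩ := exists_prime_pow_mem_center h hu hmZ (mem_Cn.mp hm).symm hne'
    have := prime_unique hu hp hr hup hur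
    rw [this]
    exact hmr

/-- if `G / Z(G)` is a `p`-group, then the maximal subgroups of `G` containing the centre are
normal -/
theorem normal_of_pgroup_quot [Finite G] {p : ℕ} [Fact p.Prime]
    (hP : IsPGroup p (G ⧸ Subgroup.center G)) {M : Subgroup G} (hM : IsCoatom M)
    (hZ : Subgroup.center G ≤ M) : M.Normal := by
  by_contra hn
  obtain ⟨g₀, hg₀⟩ : ∃ g : G, g ∉ M := by
    by_contra hcon
    push Not at hcon
    exact hM.1 (eq_top_iff.mpr fun x _ => hcon x)
  have hMb : M.map (QuotientGroup.mk' (Subgroup.center G)) ≠ ⊤ := by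
    intro h0
    have : (g₀ : G ⧸ Subgroup.center G) ∈ M.map (QuotientGroup.mk' (Subgroup.center G)) :=
      h0 ▸ Subgroup.mem_top _
    exact hg₀ ((mk_mem_map hZ).mp this)
  haveI : Group.IsNilpotent (G ⧸ Subgroup.center G) := hP.isNilpotent
  have hnc := normalizerCondition_of_isNilpotent (G := G ⧸ Subgroup.center G) _
    (lt_top_iff_ne_top.mpr hMb)
  obtain ⟨x, hx, hxM⟩ := SetLike.exists_of_lt hnc
  obtain ⟨g, rfl⟩ := QuotientGroup.mk_surjective x
  have hg : g ∉ M := fun hg => hxM ((mk_mem_map hZ).mpr hg)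
  apply hg
  apply mem_of_normalizes hM hn
  rw [Subgroup.mem_normalizer_iff]
  intro k
  have := Subgroup.mem_normalizer_iff.mp hx (k : G ⧸ Subgroup.center G)
  have e : (g : G ⧸ Subgroup.center G) * k * (g : G ⧸ Subgroup.center G)⁻¹ =
      ((g * k * g⁻¹ : G) : G ⧸ Subgroup.center G) := rfl
  rw [e, mk_mem_map hZ, mk_mem_map hZ] at this
  exact this

/-- in the presence of a non-normal non-abelian centralizer, no centralizer of a non-central
element is normal -/
theorem no_normal [Finite G] (h : MC G) {x₀ : G} (hx₀ : x₀ ∉ Subgroup.center G)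
    (hn : ¬ (Cn x₀).Normal) (hnab : ¬ ∀ a ∈ Cn x₀, ∀ b ∈ Cn x₀, a * b = b * a) {u : G}
    (hu : u ∉ Subgroup.center G) (hN : (Cn u).Normal) : False := by
  obtain ⟨p, hp, hexp⟩ := exp_of_nonabelian h hx₀ hnab
  haveI : Fact p.Prime := ⟨hp⟩
  have hq := card_quotient_prime_of_coatom (Cn u) (h u hu)
  have hNM : Cn u ≠ Cn x₀ := fun he => hn (he ▸ hN)
  -- the index of `C(u)` is `p`
  have hqp : Nat.card (G ⧸ Cn u) = p := by
    by_contra hne
    apply hNM
    refine (Cn_eq_of_le h hx₀ hu ?_).symm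
    intro m hm
    have h1 : (m : G ⧸ Cn u) ^ p = 1 := by
      rw [← QuotientGroup.mk_pow, QuotientGroup.eq_one_iff]
      exact center_le_Cn u (hexp m hm)
    have h2 : (m : G ⧸ Cn u) ^ Nat.card (G ⧸ Cn u) = 1 := pow_card_eq_one'
    have h3 := Nat.dvd_gcd (orderOf_dvd_of_pow_eq_one h1) (orderOf_dvd_of_pow_eq_one h2)
    have hcop : Nat.gcd p (Nat.card (G ⧸ Cn u)) = 1 :=
      (Nat.coprime_primes hp hq).mpr (fun e => hne e.symm)
    rw [hcop, Nat.dvd_one, orderOf_eq_one_iff, QuotientGroup.eq_one_iff] at h3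
    exact h3
  have hNp : ∀ g : G, g ^ p ∈ Cn u := by
    intro g
    rw [← QuotientGroup.eq_one_iff, QuotientGroup.mk_pow, ← hqp]
    exact pow_card_eq_one'
  obtain ⟨y₀, hy₀, hy₀A⟩ := exists_not_mem_Zc hnab
  -- an element of `C(x₀) ∩ C(u)` outside the centre
  obtain ⟨m, hmM, hmN, hmZ⟩ : ∃ m : G, m ∈ Cn x₀ ∧ m ∈ Cn u ∧ m ∉ Subgroup.center G := by
    by_cases hx₀N : x₀ ∈ Cn u
    · exact ⟨x₀, self_mem_Cn x₀, hx₀N, hx₀⟩
    · have hx1 : (x₀ : G ⧸ Cn u) ≠ 1 := by
        rw [Ne, QuotientGroup.eq_one_iff]; exact hx₀N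
      have htop := zpowers_eq_top_of_prime_card hqp hx1
      have hy : (y₀ : G ⧸ Cn u) ∈ Subgroup.zpowers (x₀ : G ⧸ Cn u) := htop ▸ Subgroup.mem_top _
      obtain ⟨i, hi⟩ := Subgroup.mem_zpowers_iff.mp hy
      rw [← QuotientGroup.mk_zpow] at hi
      have h1 : (x₀ ^ i)⁻¹ * y₀ ∈ Cn u := QuotientGroup.eq.mp hi
      refine ⟨(x₀ ^ i)⁻¹ * y₀, ?_, h1, ?_⟩
      · exact (Cn x₀).mul_mem ((Cn x₀).inv_mem ((Cn x₀).zpow_mem (self_mem_Cn x₀) i)) hy₀
      · intro hc
        apply hy₀A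
        have e : y₀ = x₀ ^ i * ((x₀ ^ i)⁻¹ * y₀) := by group
        rw [e]
        exact (Zc x₀).mul_mem ((Zc x₀).zpow_mem (self_mem_Zc x₀) i) (center_le_Zc x₀ hc)
  have hmu : m * u = u * m := mem_Cn.mp hmN
  have hx₀p : x₀ ^ p ∈ Subgroup.center G := hexp x₀ (self_mem_Cn x₀)
  -- `u` has order `p` modulo the centre
  have hup : u ^ p ∈ Subgroup.center G := by
    by_cases hC : Cn m = Cn u
    · have hx₀u : x₀ ∈ Cn u := by
        rw [← hC, mem_Cn]
        exact (mem_Cn.mp hmM).symm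
      obtain ⟨r, hr, hur, hxr⟩ := exists_prime_pow_mem_center h hu hx₀ (mem_Cn.mp hx₀u).symm hNM
      have := prime_unique hx₀ hp hr hx₀p hxr
      rw [this]
      exact hur
    · obtain ⟨r, hr, hmr, hur⟩ := exists_prime_pow_mem_center h hmZ hu hmu hC
      have := prime_unique hmZ hp hr (hexp m hmM) hmr
      rw [this]
      exact hur
  -- `C(u)` has exponent `p` modulo the centre
  have hNexp : ∀ c ∈ Cn u, c ^ p ∈ Subgroup.center G := by
    intro c hc
    by_cases hcZ : c ∈ Subgroup.center G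
    · exact Subgroup.pow_mem _ hcZ p
    have hcu : c * u = u * c := mem_Cn.mp hc
    by_cases hC : Cn c = Cn u
    · by_cases hNab : ∀ w ∈ Cn u, w ∈ Zc u
      · exfalso
        have h1 : Cn u = Cn m := by
          refine Cn_eq_of_le h hu hmZ ?_
          intro w hw
          rw [mem_Cn]
          exact Subgroup.mem_centralizer_iff.mp (hNab m hmN) w hw
        have hx₀u : x₀ ∈ Cn u := by
          rw [h1, mem_Cn]
          exact (mem_Cn.mp hmM).symm
        apply hNM
        refine Cn_eq_of_le h hu hx₀ ?_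
        intro w hw
        rw [mem_Cn]
        exact Subgroup.mem_centralizer_iff.mp (hNab x₀ hx₀u) w hw
      · push Not at hNab
        obtain ⟨w, hw, hwA⟩ := hNab
        have hwZ : w ∉ Subgroup.center G := fun hc' => hwA (center_le_Zc u hc')
        have hwne : Cn w ≠ Cn u := Cn_ne_of_not_mem_Zc hwA
        obtain ⟨r₁, hr₁, hwr₁, hur₁⟩ := exists_prime_pow_mem_center h hwZ hu (mem_Cn.mp hw) hwne
        have e1 := prime_unique hu hp hr₁ hup hur₁
        have hwc : c * w = w * c := by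
          have : w ∈ Cn c := hC ▸ hw
          exact (mem_Cn.mp this).symm
        obtain ⟨r₂, hr₂, hcr₂, hwr₂⟩ := exists_prime_pow_mem_center h hcZ hwZ hwc
          (fun he => hwne (he.symm.trans hC))
        have e2 := prime_unique hwZ hr₁ hr₂ hwr₁ hwr₂
        rw [e1, e2]
        exact hcr₂
    · obtain ⟨r, hr, hcr, hur⟩ := exists_prime_pow_mem_center h hcZ hu hcu hC
      have := prime_unique hu hp hr hup hur
      rw [this]
      exact hcr
  have hPG : IsPGroup p (G ⧸ Subgroup.center G) := by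
    intro x
    obtain ⟨g, rfl⟩ := QuotientGroup.mk_surjective x
    refine ⟨2, ?_⟩
    have h1 := hNexp _ (hNp g)
    rw [← pow_mul, ← pow_two] at h1
    exact (QuotientGroup.eq_one_iff _).mpr h1
  exact hn (normal_of_pgroup_quot hPG (h x₀ hx₀) (center_le_Cn x₀))

end Cfsg.Agent.Lib.Helper69.MaxCent
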