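import Mathlib
import Cfsg.Agent.Lib.Helper69.MaxCentC

set_option autoImplicit false
open Cfsg
open scoped commutatorElement Pointwise

/-! Finite groups in which the centralizer of every non-central element is a maximal subgroup:
the counting argument excluding non-normal non-abelian centralizers (helper69). -/

namespace Cfsg.Agent.Lib.Helper69.MaxCent

variable {G : Type*} [Group G]

/-- every centralizer of a non-central element is neither normal nor abelian -/
def Bad (G : Type*) [Group G] : Prop :=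
  ∀ u : G, u ∉ Subgroup.center G →
    ¬ (Cn u).Normal ∧ ¬ ∀ a ∈ Cn u, ∀ b ∈ Cn u, a * b = b * a

theorem sum_inv_sq_le (N : ℕ) (hN : 1 ≤ N) :
    ∑ k ∈ Finset.Icc 2 N, (1 : ℚ) / (k : ℚ) ^ 2 ≤ 1 - 1 / (N : ℚ) := by
  induction N, hN using Nat.le_induction with
  | base => simp
  | succ N hN ih =>
    rw [Finset.sum_Icc_succ_top (by omega)]
    have hNpos : (0 : ℚ) < N := by exact_mod_cast hN
    have h1 : (1 : ℚ) / ((N + 1 : ℕ) : ℚ) ^ 2 ≤ 1 / (N : ℚ) - 1 / ((N + 1 : ℕ) : ℚ) := by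
      push_cast
      rw [div_sub_div _ _ hNpos.ne' (by positivity), div_le_div_iff₀ (by positivity) (by positivity)]
      nlinarith
    linarith

theorem card_mul_le_of_lt {H : Type*} [Group H] [Finite H] {r : ℕ} (hr : r.Prime)
    {A B : Subgroup H} (hB : IsPGroup r B) (hlt : A < B) : r * Nat.card A ≤ Nat.card B := by
  haveI : Fact r.Prime := ⟨hr⟩
  obtain ⟨j, hj⟩ := IsPGroup.iff_card.mp hB
  have hdvd : Nat.card A ∣ Nat.card B := Subgroup.card_dvd_of_le hlt.le
  rw [hj] at hdvd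
  obtain ⟨i, hi, hAi⟩ := (Nat.dvd_prime_pow hr).mp hdvd
  have hij : i ≠ j := by
    rintro rfl
    exact hlt.ne (Subgroup.eq_of_le_of_card_ge hlt.le (by rw [hj, hAi]))
  have hle : i + 1 ≤ j := by omega
  rw [hj, hAi]
  calc r * r ^ i = r ^ (i + 1) := by ring
    _ ≤ r ^ j := Nat.pow_le_pow_right hr.pos hle

theorem isPGroup_map {u : G} {r : ℕ}
    (hexp : ∀ m ∈ Cn u, m ^ r ∈ Subgroup.center G) :
    IsPGroup r ((Cn u).map (QuotientGroup.mk' (Subgroup.center G))) := by
  rintro ⟨x, hx⟩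
  obtain ⟨m, hm, rfl⟩ := Subgroup.mem_map.mp hx
  refine ⟨1, ?_⟩
  rw [pow_one]
  apply Subtype.ext
  show (QuotientGroup.mk' (Subgroup.center G) m) ^ r = 1
  exact (QuotientGroup.eq_one_iff _).mpr (hexp m hm)

/-- the image of a centralizer in `G / Z(G)` is a Sylow subgroup -/
theorem sylow_aux [Finite G] (h : MC G) (hb : Bad G) {u : G} (hu : u ∉ Subgroup.center G)
    {r : ℕ} (hr : r.Prime) (hexp : ∀ m ∈ Cn u, m ^ r ∈ Subgroup.center G) :
    ∃ P : Sylow r (G ⧸ Subgroup.center G),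
      (P : Subgroup (G ⧸ Subgroup.center G)) =
        (Cn u).map (QuotientGroup.mk' (Subgroup.center G)) := by
  haveI : Fact r.Prime := ⟨hr⟩
  refine ⟨⟨_, isPGroup_map hexp, ?_⟩, rfl⟩
  intro Q hQ hle
  have h1 : Cn u ≤ Q.comap (QuotientGroup.mk' (Subgroup.center G)) := by
    intro m hm
    exact hle (Subgroup.mem_map_of_mem _ hm)
  rcases (h u hu).le_iff.mp h1 with htop | heq
  · exfalso
    have hPG : IsPGroup r (G ⧸ Subgroup.center G) := by
      intro x
      obtain ⟨g, rfl⟩ := QuotientGroup.mk_surjective x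
      have hg : g ∈ Q.comap (QuotientGroup.mk' (Subgroup.center G)) := htop ▸ Subgroup.mem_top g
      obtain ⟨k, hk⟩ := hQ ⟨_, hg⟩
      exact ⟨k, congrArg Subtype.val hk⟩
    exact (hb u hu).1 (normal_of_pgroup_quot hPG (h u hu) (center_le_Cn u))
  · apply le_antisymm _ hle
    intro x hx
    obtain ⟨g, rfl⟩ := QuotientGroup.mk_surjective x
    have hg : g ∈ Q.comap (QuotientGroup.mk' (Subgroup.center G)) := hx
    rw [heq] at hg
    exact Subgroup.mem_map_of_mem _ hg

theorem card_aux [Finite G] (hb : Bad G) {u : G} (hu : u ∉ Subgroup.center G)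
    {r : ℕ} (hr : r.Prime) (hexp : ∀ m ∈ Cn u, m ^ r ∈ Subgroup.center G) :
    r ^ 2 * Nat.card ((Zc u).map (QuotientGroup.mk' (Subgroup.center G))) ≤
      Nat.card ((Cn u).map (QuotientGroup.mk' (Subgroup.center G))) := by
  have hnab := (hb u hu).2
  push Not at hnab
  obtain ⟨a, ha, b, hb', hab⟩ := hnab
  have hP := isPGroup_map hexp
  have hZK : Subgroup.center G ≤ Cn u ⊓ Cn a := le_inf (center_le_Cn u) (center_le_Cn a)
  have h1 : (Zc u).map (QuotientGroup.mk' (Subgroup.center G)) <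
      (Cn u ⊓ Cn a).map (QuotientGroup.mk' (Subgroup.center G)) := by
    refine lt_of_le_of_ne (Subgroup.map_mono ?_) ?_
    · intro z hz
      refine Subgroup.mem_inf.mpr ⟨Zc_le_Cn u hz, mem_Cn.mpr ?_⟩
      exact (Subgroup.mem_centralizer_iff.mp hz a ha).symm
    · intro he
      have h2 : (a : G ⧸ Subgroup.center G) ∈
          (Cn u ⊓ Cn a).map (QuotientGroup.mk' (Subgroup.center G)) :=
        Subgroup.mem_map_of_mem _ ⟨ha, self_mem_Cn a⟩
      rw [← he, mk_mem_map (center_le_Zc u)] at h2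
      exact hab (Subgroup.mem_centralizer_iff.mp h2 b hb').symm
  have h2 : (Cn u ⊓ Cn a).map (QuotientGroup.mk' (Subgroup.center G)) <
      (Cn u).map (QuotientGroup.mk' (Subgroup.center G)) := by
    refine lt_of_le_of_ne (Subgroup.map_mono inf_le_left) ?_
    intro he
    have h3 : (b : G ⧸ Subgroup.center G) ∈
        (Cn u).map (QuotientGroup.mk' (Subgroup.center G)) := Subgroup.mem_map_of_mem _ hb'
    rw [← he, mk_mem_map hZK] at h3
    exact hab (mem_Cn.mp h3.2).symm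
  have e1 := card_mul_le_of_lt hr (hP.to_le h2.le) h1
  have e2 := card_mul_le_of_lt hr hP h2
  calc r ^ 2 * Nat.card ((Zc u).map (QuotientGroup.mk' (Subgroup.center G)))
      = r * (r * Nat.card ((Zc u).map (QuotientGroup.mk' (Subgroup.center G)))) := by ring
    _ ≤ r * Nat.card ((Cn u ⊓ Cn a).map (QuotientGroup.mk' (Subgroup.center G))) :=
        Nat.mul_le_mul_left r e1
    _ ≤ _ := e2

/-- centralizers of the same prime exponent modulo the centre are conjugate -/
theorem conj_aux [Finite G] (h : MC G) (hb : Bad G) {u v : G} (hu : u ∉ Subgroup.center G)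
    (hv : v ∉ Subgroup.center G) {r : ℕ} (hr : r.Prime)
    (hue : ∀ m ∈ Cn u, m ^ r ∈ Subgroup.center G)
    (hve : ∀ m ∈ Cn v, m ^ r ∈ Subgroup.center G) :
    ∃ g : G, g⁻¹ * v * g ∈ Zc u := by
  haveI : Fact r.Prime := ⟨hr⟩
  obtain ⟨P, hP⟩ := sylow_aux h hb hu hr hue
  obtain ⟨Pv, hPv⟩ := sylow_aux h hb hv hr hve
  obtain ⟨t, ht⟩ := MulAction.exists_smul_eq (G ⧸ Subgroup.center G) P Pv
  obtain ⟨g, rfl⟩ := QuotientGroup.mk_surjective t
  refine ⟨g, ?_⟩
  have hle : Cn v ≤ Cn (g * u * g⁻¹) := by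
    intro k hk
    rw [mem_Cn_conj]
    have h1 : (k : G ⧸ Subgroup.center G) ∈ (Pv : Subgroup (G ⧸ Subgroup.center G)) := by
      rw [hPv]; exact Subgroup.mem_map_of_mem _ hk
    rw [← ht, Sylow.coe_subgroup_smul, Subgroup.mem_smul_pointwise_iff_exists] at h1
    obtain ⟨s, hs, hsk⟩ := h1
    rw [hP] at hs
    have hs' : s = ((g⁻¹ * k * g : G) : G ⧸ Subgroup.center G) := by
      have e : ((g⁻¹ * k * g : G) : G ⧸ Subgroup.center G) =
          (g : G ⧸ Subgroup.center G)⁻¹ * (k : G ⧸ Subgroup.center G) * g := rfl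
      rw [e, ← hsk, MulAut.smul_def, MulAut.conj_apply]
      group
    rw [hs', mk_mem_map (center_le_Cn u)] at hs
    exact hs
  have heq : Cn v = Cn (g * u * g⁻¹) := Cn_eq_of_le h hv (conj_not_mem_center hu g) hle
  rw [Subgroup.mem_centralizer_iff]
  intro m hm
  have h2 : g * m * g⁻¹ ∈ Cn v := by
    rw [heq, mem_Cn_conj]
    have e : g⁻¹ * (g * m * g⁻¹) * g = m := by group
    rw [e]
    exact hm
  have h3 := mem_Cn.mp h2
  calc m * (g⁻¹ * v * g) = g⁻¹ * (g * m * g⁻¹ * v) * g := by group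
    _ = g⁻¹ * (v * (g * m * g⁻¹)) * g := by rw [h3]
    _ = g⁻¹ * v * g * m := by group

/-- a non-central element has prime order modulo the centre, and its centralizer has that
exponent modulo the centre -/
theorem exp_orderOf [Finite G] (h : MC G) (hb : Bad G) {v : G} (hv : v ∉ Subgroup.center G) :
    (orderOf (v : G ⧸ Subgroup.center G)).Prime ∧
      ∀ m ∈ Cn v, m ^ orderOf (v : G ⧸ Subgroup.center G) ∈ Subgroup.center G := by
  obtain ⟨r, hr, hexp⟩ := exp_of_nonabelian h hv (hb v hv).2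
  have h1 := pow_mem_center_iff.mp (hexp v (self_mem_Cn v))
  have h2 := ((Nat.dvd_prime hr).mp h1).resolve_left (orderOf_mk_ne_one hv)
  rw [h2]
  exact ⟨hr, hexp⟩

theorem fiber_bound [Finite G] (h : MC G) (hb : Bad G) {r : ℕ} (hr : r.Prime)
    (s : Finset (G ⧸ Subgroup.center G)) (hs : ∀ x ∈ s, orderOf x = r) (hne : s.Nonempty) :
    r ^ 2 * (s.card + 1) ≤ Nat.card (G ⧸ Subgroup.center G) := by
  classical
  have hnc : ∀ v : G, (v : G ⧸ Subgroup.center G) ∈ s → v ∉ Subgroup.center G := by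
    intro v hvs hc
    have h1 : (v : G ⧸ Subgroup.center G) = 1 := (QuotientGroup.eq_one_iff v).mpr hc
    have h2 := hs _ hvs
    rw [h1, orderOf_one] at h2
    exact hr.one_lt.ne h2
  have hexp : ∀ v : G, (v : G ⧸ Subgroup.center G) ∈ s →
      ∀ m ∈ Cn v, m ^ r ∈ Subgroup.center G := by
    intro v hvs
    have h1 := (exp_orderOf h hb (hnc v hvs)).2
    rw [hs _ hvs] at h1
    exact h1
  obtain ⟨x₁, hx₁⟩ := hne
  obtain ⟨u, rfl⟩ := QuotientGroup.mk_surjective x₁
  have hu := hnc u hx₁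
  have hue := hexp u hx₁
  set Ab := (Zc u).map (QuotientGroup.mk' (Subgroup.center G)) with hAb
  set Mb := (Cn u).map (QuotientGroup.mk' (Subgroup.center G)) with hMb
  let f : ((G ⧸ Subgroup.center G) ⧸ Mb) × Ab → G ⧸ Subgroup.center G :=
    fun q => q.1.out * (q.2 : G ⧸ Subgroup.center G) * (q.1.out)⁻¹
  have hsurj : ∀ y ∈ insert 1 s, ∃ q, f q = y := by
    intro y hy
    rcases Finset.mem_insert.mp hy with rfl | hy
    · exact ⟨(((1 : G ⧸ Subgroup.center G) : (G ⧸ Subgroup.center G) ⧸ Mb), 1), by simp [f]⟩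
    · obtain ⟨v, rfl⟩ := QuotientGroup.mk_surjective y
      have hv := hnc v hy
      have hve := hexp v hy
      obtain ⟨g, hg⟩ := conj_aux h hb hu hv hr hue hve
      obtain ⟨m, hm⟩ := QuotientGroup.mk_out_eq_mul Mb (g : G ⧸ Subgroup.center G)
      obtain ⟨m', hm', hmm'⟩ := Subgroup.mem_map.mp m.2
      refine ⟨(((g : G ⧸ Subgroup.center G) : (G ⧸ Subgroup.center G) ⧸ Mb),
        ⟨((g⁻¹ * v * g : G) : G ⧸ Subgroup.center G), Subgroup.mem_map_of_mem _ hg⟩), ?_⟩
      show (((g : G ⧸ Subgroup.center G) : (G ⧸ Subgroup.center G) ⧸ Mb)).out *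
        ((g⁻¹ * v * g : G) : G ⧸ Subgroup.center G) *
        ((((g : G ⧸ Subgroup.center G) : (G ⧸ Subgroup.center G) ⧸ Mb)).out)⁻¹ = (v : G ⧸ Subgroup.center G)
      rw [hm]
      have hcomm : (m : G ⧸ Subgroup.center G) * ((g⁻¹ * v * g : G) : G ⧸ Subgroup.center G) =
          ((g⁻¹ * v * g : G) : G ⧸ Subgroup.center G) * (m : G ⧸ Subgroup.center G) := by
        rw [← hmm']
        exact congrArg (QuotientGroup.mk' (Subgroup.center G))
          (Subgroup.mem_centralizer_iff.mp hg m' hm')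
      calc (g : G ⧸ Subgroup.center G) * (m : G ⧸ Subgroup.center G) *
            ((g⁻¹ * v * g : G) : G ⧸ Subgroup.center G) *
            ((g : G ⧸ Subgroup.center G) * (m : G ⧸ Subgroup.center G))⁻¹
          = (g : G ⧸ Subgroup.center G) * ((m : G ⧸ Subgroup.center G) *
            ((g⁻¹ * v * g : G) : G ⧸ Subgroup.center G)) * (m : G ⧸ Subgroup.center G)⁻¹ *
            (g : G ⧸ Subgroup.center G)⁻¹ := by group
        _ = (g : G ⧸ Subgroup.center G) * (((g⁻¹ * v * g : G) : G ⧸ Subgroup.center G) *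
            (m : G ⧸ Subgroup.center G)) * (m : G ⧸ Subgroup.center G)⁻¹ *
            (g : G ⧸ Subgroup.center G)⁻¹ := by rw [hcomm]
        _ = (g : G ⧸ Subgroup.center G) * ((g⁻¹ * v * g : G) : G ⧸ Subgroup.center G) *
            (g : G ⧸ Subgroup.center G)⁻¹ := by group
        _ = ((g * (g⁻¹ * v * g) * g⁻¹ : G) : G ⧸ Subgroup.center G) := rfl
        _ = (v : G ⧸ Subgroup.center G) := by
          congr 1
          group
  haveI : Fintype (((G ⧸ Subgroup.center G) ⧸ Mb) × Ab) := Fintype.ofFinite _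
  have hcard : (insert 1 s).card ≤
      (Finset.univ : Finset (((G ⧸ Subgroup.center G) ⧸ Mb) × Ab)).card := by
    refine Finset.card_le_card_of_surjOn f ?_
    intro y hy
    obtain ⟨q, hq⟩ := hsurj y (Finset.mem_coe.mp hy)
    exact ⟨q, Finset.mem_coe.mpr (Finset.mem_univ q), hq⟩
  have h1s : (1 : G ⧸ Subgroup.center G) ∉ s := by
    intro h1
    have h2 := hs _ h1
    rw [orderOf_one] at h2
    exact hr.one_lt.ne h2
  rw [Finset.card_insert_of_notMem h1s, Finset.card_univ, ← Nat.card_eq_fintype_card,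
    Nat.card_prod] at hcard
  have e := card_aux hb hu hr hue
  have hidx := Subgroup.card_eq_card_quotient_mul_card_subgroup Mb
  calc r ^ 2 * (s.card + 1)
      ≤ r ^ 2 * (Nat.card ((G ⧸ Subgroup.center G) ⧸ Mb) * Nat.card Ab) :=
        Nat.mul_le_mul_left _ hcard
    _ = Nat.card ((G ⧸ Subgroup.center G) ⧸ Mb) * (r ^ 2 * Nat.card Ab) := by ring
    _ ≤ Nat.card ((G ⧸ Subgroup.center G) ⧸ Mb) * Nat.card Mb := Nat.mul_le_mul_left _ e
    _ = Nat.card (G ⧸ Subgroup.center G) := hidx.symm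

/-- the final contradiction -/
theorem bad_false [Finite G] (h : MC G) (hb : Bad G) (hna : ∃ x : G, x ∉ Subgroup.center G) :
    False := by
  classical
  haveI := Fintype.ofFinite (G ⧸ Subgroup.center G)
  obtain ⟨x₀, hx₀⟩ := hna
  set n := Nat.card (G ⧸ Subgroup.center G) with hn
  have hnpos : 1 ≤ n := Nat.card_pos
  set T : Finset (G ⧸ Subgroup.center G) := Finset.univ.erase 1 with hT
  have hTcard : T.card + 1 = n := by
    rw [hT, Finset.card_erase_add_one (Finset.mem_univ _), Finset.card_univ, hn,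
      Nat.card_eq_fintype_card]
  have hprime : ∀ x ∈ T, (orderOf x).Prime := by
    intro x hx
    obtain ⟨v, rfl⟩ := QuotientGroup.mk_surjective x
    have hv : v ∉ Subgroup.center G := by
      intro hc
      exact (Finset.mem_erase.mp hx).1 ((QuotientGroup.eq_one_iff v).mpr hc)
    exact (exp_orderOf h hb hv).1
  set S := T.image orderOf with hS
  have hSne : S.Nonempty := by
    refine ⟨orderOf (x₀ : G ⧸ Subgroup.center G),
      Finset.mem_image_of_mem _ (Finset.mem_erase.mpr ⟨?_, Finset.mem_univ _⟩)⟩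
    rw [Ne, QuotientGroup.eq_one_iff]
    exact hx₀
  have hsum : T.card = ∑ r ∈ S, (T.filter (fun a => orderOf a = r)).card :=
    Finset.card_eq_sum_card_image orderOf T
  have hbound : ∀ r ∈ S, ((T.filter (fun a => orderOf a = r)).card : ℚ) + 1 ≤
      (n : ℚ) * (1 / (r : ℚ) ^ 2) := by
    intro r hr
    obtain ⟨x, hx, rfl⟩ := Finset.mem_image.mp hr
    have hp := hprime x hx
    have hfb := fiber_bound h hb hp (T.filter (fun a => orderOf a = orderOf x))
      (fun y hy => (Finset.mem_filter.mp hy).2) ⟨x, Finset.mem_filter.mpr ⟨hx, rfl⟩⟩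
    have hpos : (0 : ℚ) < ((orderOf x : ℕ) : ℚ) ^ 2 := by
      have : (0 : ℚ) < ((orderOf x : ℕ) : ℚ) := by exact_mod_cast hp.pos
      positivity
    rw [mul_one_div, le_div_iff₀ hpos]
    have hq : (((orderOf x) ^ 2 * ((T.filter (fun a => orderOf a = orderOf x)).card + 1) : ℕ) : ℚ)
        ≤ (n : ℚ) := by exact_mod_cast hfb
    push_cast at hq
    linarith
  have hsub : S ⊆ Finset.Icc 2 n := by
    intro r hr
    obtain ⟨x, hx, rfl⟩ := Finset.mem_image.mp hr
    rw [Finset.mem_Icc]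
    exact ⟨(hprime x hx).two_le, Nat.le_of_dvd hnpos (orderOf_dvd_natCard x)⟩
  have h1 : ∑ r ∈ S, (((T.filter (fun a => orderOf a = r)).card : ℚ) + 1) ≤
      ∑ r ∈ S, (n : ℚ) * (1 / (r : ℚ) ^ 2) := Finset.sum_le_sum hbound
  have h2 : ∑ r ∈ S, (1 : ℚ) / (r : ℚ) ^ 2 ≤ ∑ r ∈ Finset.Icc 2 n, (1 : ℚ) / (r : ℚ) ^ 2 :=
    Finset.sum_le_sum_of_subset_of_nonneg hsub (fun i _ _ => by positivity)
  have h3 := sum_inv_sq_le n hnpos
  rw [Finset.sum_add_distrib, ← Finset.mul_sum] at h1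
  have h4 : (∑ r ∈ S, ((T.filter (fun a => orderOf a = r)).card : ℚ)) = (T.card : ℚ) := by
    rw [hsum]
    push_cast
    rfl
  have h5 : (T.card : ℚ) + 1 = n := by exact_mod_cast hTcard
  have h6 : (1 : ℚ) ≤ S.card := by exact_mod_cast hSne.card_pos
  have hnq : (0 : ℚ) < n := by exact_mod_cast hnpos
  simp only [Finset.sum_const, nsmul_eq_mul, mul_one] at h1
  have h7 : (n : ℚ) * ∑ r ∈ S, (1 : ℚ) / (r : ℚ) ^ 2 ≤ n * (1 - 1 / n) :=
    mul_le_mul_of_nonneg_left (h2.trans h3) hnq.le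
  have h8 : (n : ℚ) * (1 - 1 / n) = n - 1 := by field_simp
  linarith

end Cfsg.Agent.Lib.Helper69.MaxCent
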