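import Mathlib
import Cfsg.Prelude.Def_Transfer

set_option autoImplicit false

namespace Cfsg.Agent.Lib.Helper69

section NilCover

variable {G : Type*} [Group G]

/-- nilpotent minimal cover, in the exact shape of the statements S3890/S3891 -/
def IsNilMinCover (𝓐 : Finset (Subgroup G)) : Prop :=
  ((∀ A ∈ 𝓐, A ≠ ⊤) ∧ (∀ g : G, ∃ A ∈ 𝓐, g ∈ A)) ∧
    (∀ 𝓑 : Finset (Subgroup G), (∀ A ∈ 𝓑, A ≠ ⊤) ∧ (∀ g : G, ∃ A ∈ 𝓑, g ∈ A) → 𝓐.card ≤ 𝓑.card) ∧
    (∀ A ∈ 𝓐, Group.IsNilpotent ↥A)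

theorem nilcover_unique_le {𝓐 : Finset (Subgroup G)} (h𝓐 : IsNilMinCover 𝓐) (H : Subgroup G)
    (hH : H ≠ ⊤) {A B : Subgroup G} (hA : A ∈ 𝓐) (hB : B ∈ 𝓐) (hAH : A ≤ H) (hBH : B ≤ H) :
    A = B := by
  classical
  by_contra hne
  have key := h𝓐.2.1 (insert H ((𝓐.erase A).erase B)) ⟨?_, ?_⟩
  · have h1 : (insert H ((𝓐.erase A).erase B)).card ≤ ((𝓐.erase A).erase B).card + 1 :=
      Finset.card_insert_le _ _
    have h2 : ((𝓐.erase A).erase B).card = 𝓐.card - 1 - 1 := by
      rw [Finset.card_erase_of_mem, Finset.card_erase_of_mem hA]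
      exact Finset.mem_erase.mpr ⟨Ne.symm hne, hB⟩
    have h3 : 1 < 𝓐.card := Finset.one_lt_card.mpr ⟨A, hA, B, hB, hne⟩
    omega
  · intro C hC
    rcases Finset.mem_insert.mp hC with rfl | hC
    · exact hH
    · exact h𝓐.1.1 C (Finset.mem_of_mem_erase (Finset.mem_of_mem_erase hC))
  · intro g
    obtain ⟨C, hC, hg⟩ := h𝓐.1.2 g
    by_cases hCA : C = A
    · exact ⟨H, Finset.mem_insert_self _ _, hAH (hCA ▸ hg)⟩
    by_cases hCB : C = B
    · exact ⟨H, Finset.mem_insert_self _ _, hBH (hCB ▸ hg)⟩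
    · exact ⟨C, Finset.mem_insert_of_mem
        (Finset.mem_erase.mpr ⟨hCB, Finset.mem_erase.mpr ⟨hCA, hC⟩⟩), hg⟩

/-- in a finite nilpotent group, an element of a Sylow subgroup commuting with that Sylow
subgroup is central -/
theorem nilpotent_central_of_sylow_comm {A : Type*} [Group A] [Finite A] [Group.IsNilpotent A]
    {p : ℕ} [Fact p.Prime] (S : Sylow p A) (x : A) (hx : x ∈ (S : Subgroup A))
    (hcomm : ∀ s ∈ (S : Subgroup A), s * x = x * s) : ∀ a : A, a * x = x * a := by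
  have hnorm : ∀ (q : ℕ) (hq : Fact q.Prime) (T : Sylow q A), (T : Subgroup A).Normal :=
    (Group.isNilpotent_of_finite_tfae.out 0 3 rfl rfl).mp ‹_›
  have hC : (Subgroup.centralizer {x} : Subgroup A) = ⊤ := by
    rw [← Subgroup.index_eq_one, Nat.eq_one_iff_not_exists_prime_dvd]
    intro q hq hdvd
    have := Fact.mk hq
    obtain ⟨T⟩ : Nonempty (Sylow q A) := inferInstance
    have hTC : (T : Subgroup A) ≤ Subgroup.centralizer {x} := by
      intro t ht
      rw [Subgroup.mem_centralizer_iff]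
      intro y hy
      rw [Set.mem_singleton_iff] at hy
      subst hy
      by_cases hqp : q = p
      · subst hqp
        have hSn := hnorm q inferInstance S
        let _ := Sylow.unique_of_normal S hSn
        have : T = S := Subsingleton.elim _ _
        subst this
        exact (hcomm t ht).symm
      · have hTn := hnorm q inferInstance T
        have hSn := hnorm p inferInstance S
        have h1 : t * y * t⁻¹ * y⁻¹ ∈ (T : Subgroup A) := by
          have := hTn.conj_mem t⁻¹ (inv_mem ht) y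
          have h2 := mul_mem ht this
          simpa [mul_assoc] using h2
        have h2 : t * y * t⁻¹ * y⁻¹ ∈ (S : Subgroup A) :=
          mul_mem (hSn.conj_mem y hx t) (inv_mem hx)
        have hdisj : Disjoint (S : Subgroup A) (T : Subgroup A) :=
          IsPGroup.disjoint_of_ne p q (Ne.symm hqp) _ _ S.isPGroup' T.isPGroup'
        have h3 : t * y * t⁻¹ * y⁻¹ = 1 := by
          have := Subgroup.disjoint_def.mp hdisj h2 h1
          exact this
        have h4 : t * y = y * t := by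
          have := congrArg (fun z => z * y * t) h3
          simpa [mul_assoc] using this
        exact h4.symm
    exact T.not_dvd_index (hdvd.trans (Subgroup.index_dvd_of_le hTC))
  intro a
  have ha : a ∈ (Subgroup.centralizer {x} : Subgroup A) := hC ▸ Subgroup.mem_top a
  rw [Subgroup.mem_centralizer_iff] at ha
  exact (ha x rfl).symm


theorem isPGroup_zpowers_of_pow {H : Type*} [Group H] (p : ℕ) (x : H) (k : ℕ)
    (hk : x ^ (p ^ k) = 1) : IsPGroup p (Subgroup.zpowers x) := by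
  rintro ⟨y, hy⟩
  obtain ⟨n, rfl⟩ := Subgroup.mem_zpowers_iff.mp hy
  refine ⟨k, Subtype.ext ?_⟩
  simp only [Subgroup.coe_pow, Subgroup.coe_one]
  rw [← zpow_natCast, ← zpow_mul, mul_comm, zpow_mul, zpow_natCast, hk, one_zpow]

theorem exists_pow_order_p {H : Type*} [Group H] (p : ℕ) (x : H) (hx : x ≠ 1) (k : ℕ)
    (hk : x ^ (p ^ k) = 1) : ∃ j, x ^ (p ^ j) ≠ 1 ∧ (x ^ (p ^ j)) ^ p = 1 := by
  classical
  have hex : ∃ k, x ^ (p ^ k) = 1 := ⟨k, hk⟩
  have h0 : Nat.find hex ≠ 0 := by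
    intro h0
    have := Nat.find_spec hex
    rw [h0, pow_zero, pow_one] at this
    exact hx this
  obtain ⟨j, hj⟩ := Nat.exists_eq_succ_of_ne_zero h0
  refine ⟨j, ?_, ?_⟩
  · exact Nat.find_min hex (by omega)
  · rw [← pow_mul, ← pow_succ, ← Nat.succ_eq_add_one, ← hj]
    exact Nat.find_spec hex

theorem centralizer_singleton_ne_top (hZ : Subgroup.center G = ⊥) {x : G} (hx1 : x ≠ 1) :
    Subgroup.centralizer {x} ≠ (⊤ : Subgroup G) := by
  intro h
  apply hx1
  have : x ∈ Subgroup.center G := by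
    rw [Subgroup.mem_center_iff]
    intro g
    have hg : g ∈ Subgroup.centralizer {x} := h ▸ Subgroup.mem_top g
    rw [Subgroup.mem_centralizer_iff] at hg
    exact (hg x rfl).symm
  rw [hZ] at this
  exact Subgroup.mem_bot.mp this

section SylowPart

variable [Finite G] {p : ℕ} [Fact p.Prime]

theorem mem_smul_sylow_iff (P : Sylow p G) (g u : G) :
    u ∈ ((g • P : Sylow p G) : Subgroup G) ↔ g⁻¹ * u * g ∈ (P : Subgroup G) := by
  rw [Sylow.coe_subgroup_smul, Subgroup.mem_pointwise_smul_iff_inv_smul_mem, MulAut.smul_def,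
    MulAut.conj_inv_apply]

theorem comm_of_mem_sylow (P : Sylow p G) (hab : IsMulCommutative ↥(P : Subgroup G)) {u v : G}
    (hu : u ∈ (P : Subgroup G)) (hv : v ∈ (P : Subgroup G)) : u * v = v * u := by
  have := mul_comm' (⟨u, hu⟩ : ↥(P : Subgroup G)) ⟨v, hv⟩
  exact congrArg Subtype.val this

theorem isMulCommutative_sylow_of (P Q : Sylow p G) (hab : IsMulCommutative ↥(P : Subgroup G)) :
    IsMulCommutative ↥(Q : Subgroup G) := by
  obtain ⟨g, rfl⟩ := MulAction.exists_smul_eq G P Q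
  refine ⟨⟨fun a b => Subtype.ext ?_⟩⟩
  have ha := (mem_smul_sylow_iff P g a.1).mp a.2
  have hb := (mem_smul_sylow_iff P g b.1).mp b.2
  have h := comm_of_mem_sylow P hab ha hb
  have h2 : g⁻¹ * (a.1 * b.1) * g = g⁻¹ * (b.1 * a.1) * g := by
    simpa [mul_assoc] using h
  simpa using h2

theorem isElementaryAbelian_sylow_of (P Q : Sylow p G)
    (h : Cfsg.IsElementaryAbelian p (P : Subgroup G)) :
    Cfsg.IsElementaryAbelian p (Q : Subgroup G) := by
  refine ⟨isMulCommutative_sylow_of P Q h.1, ?_⟩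
  obtain ⟨g, rfl⟩ := MulAction.exists_smul_eq G P Q
  intro a ha
  have ha' := (mem_smul_sylow_iff P g a).mp ha
  have h1 := h.2 _ ha'
  have h2 : (g⁻¹ * a * g) ^ p = g⁻¹ * a ^ p * g := by
    have h := conj_pow (a := g⁻¹) (b := a) (i := p)
    rwa [inv_inv] at h
  rw [h2] at h1
  have : a ^ p = g * (g⁻¹ * a ^ p * g) * g⁻¹ := by group
  rw [this, h1]
  group

theorem card_sylow_eq_card (P Q : Sylow p G) :
    Nat.card ↥(Q : Subgroup G) = Nat.card ↥(P : Subgroup G) := by
  rw [Sylow.card_eq_multiplicity, Sylow.card_eq_multiplicity]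

theorem comm_of_mem_nilpotent (P : Sylow p G) (hab : IsMulCommutative ↥(P : Subgroup G))
    (A : Subgroup G) [Group.IsNilpotent ↥A] {x : G} (hxA : x ∈ A) (hxP : x ∈ (P : Subgroup G)) :
    ∀ a ∈ A, a * x = x * a := by
  obtain ⟨k, hk⟩ := P.isPGroup' ⟨x, hxP⟩
  have hk' : x ^ (p ^ k) = 1 := by simpa using congrArg Subtype.val hk
  have hpg : IsPGroup p (Subgroup.zpowers (⟨x, hxA⟩ : ↥A)) :=
    isPGroup_zpowers_of_pow p _ k (Subtype.ext (by simpa using hk'))
  obtain ⟨S, hS⟩ := hpg.exists_le_sylow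
  have hxS : (⟨x, hxA⟩ : ↥A) ∈ (S : Subgroup ↥A) := hS (Subgroup.mem_zpowers _)
  have hmap : IsPGroup p ((S : Subgroup ↥A).map A.subtype) := S.isPGroup'.map A.subtype
  obtain ⟨Q, hQ⟩ := hmap.exists_le_sylow
  have habQ := isMulCommutative_sylow_of P Q hab
  have key := nilpotent_central_of_sylow_comm S ⟨x, hxA⟩ hxS (fun s hs => by
    apply Subtype.ext
    have hsQ : (s : G) ∈ (Q : Subgroup G) := hQ (Subgroup.mem_map_of_mem A.subtype hs)
    have hxQ : x ∈ (Q : Subgroup G) := hQ (Subgroup.mem_map_of_mem A.subtype hxS)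
    exact comm_of_mem_sylow Q habQ hsQ hxQ)
  intro a ha
  exact congrArg Subtype.val (key ⟨a, ha⟩)

theorem mem_sylow_of_pelement_normalizer (P : Sylow p G) {y : G} (k : ℕ)
    (hy : y ^ (p ^ k) = 1) (hn : y ∈ Subgroup.normalizer ((P : Subgroup G) : Set G)) :
    y ∈ (P : Subgroup G) := by
  have hpg := isPGroup_zpowers_of_pow p y k hy
  have hle : Subgroup.zpowers y ≤ Subgroup.normalizer ((P : Subgroup G) : Set G) := by
    rw [Subgroup.zpowers_le]
    exact hn
  have hsup := hpg.to_sup_of_normal_right' P.isPGroup' hle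
  have h1 := P.is_maximal' hsup le_sup_right
  have h2 : Subgroup.zpowers y ≤ (P : Subgroup G) := le_sup_left.trans h1.le
  exact h2 (Subgroup.mem_zpowers y)

theorem nilcover_eq_of_common {𝓐 : Finset (Subgroup G)} (h𝓐 : IsNilMinCover 𝓐)
    (hZ : Subgroup.center G = ⊥) (P : Sylow p G) (hab : IsMulCommutative ↥(P : Subgroup G))
    {x : G} (hxP : x ∈ (P : Subgroup G)) (hx1 : x ≠ 1) {A B : Subgroup G} (hA : A ∈ 𝓐)
    (hB : B ∈ 𝓐) (hxA : x ∈ A) (hxB : x ∈ B) : A = B := by
  have hC := centralizer_singleton_ne_top hZ hx1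
  have hle : ∀ C ∈ 𝓐, x ∈ C → C ≤ Subgroup.centralizer {x} := by
    intro C hC hxC
    have := h𝓐.2.2 C hC
    intro a ha
    rw [Subgroup.mem_centralizer_iff]
    intro y hy
    rw [Set.mem_singleton_iff] at hy
    subst hy
    exact (comm_of_mem_nilpotent P hab C hxC hxP a ha).symm
  exact nilcover_unique_le h𝓐 _ hC hA hB (hle A hA hxA) (hle B hB hxB)

theorem nilcover_exists_sylow_le {𝓐 : Finset (Subgroup G)} (h𝓐 : IsNilMinCover 𝓐)
    (hZ : Subgroup.center G = ⊥) (P : Sylow p G) (hab : IsMulCommutative ↥(P : Subgroup G))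
    (hne : (P : Subgroup G) ≠ ⊥)
    (hnot : ¬ (Cfsg.IsElementaryAbelian p (P : Subgroup G) ∧ p < Nat.card ↥(P : Subgroup G))) :
    ∃ A ∈ 𝓐, (P : Subgroup G) ≤ A := by
  have hp := (Fact.out : p.Prime)
  by_cases hexp : ∀ x ∈ (P : Subgroup G), x ^ p = 1
  · have hcard : Nat.card ↥(P : Subgroup G) ≤ p := by
      by_contra hlt
      exact hnot ⟨⟨hab, hexp⟩, not_le.mp hlt⟩
    obtain ⟨x, hxP, hx1⟩ : ∃ x ∈ (P : Subgroup G), x ≠ 1 := by
      by_contra hcon
      push Not at hcon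
      apply hne
      rw [Subgroup.eq_bot_iff_forall]
      exact hcon
    have hord : orderOf x = p := orderOf_eq_prime (hexp x hxP) hx1
    have hzp : Subgroup.zpowers x = (P : Subgroup G) := by
      apply Subgroup.eq_of_le_of_card_ge
      · rw [Subgroup.zpowers_le]
        exact hxP
      · rw [Nat.card_zpowers, hord]
        exact hcard
    obtain ⟨A, hA, hxA⟩ := h𝓐.1.2 x
    refine ⟨A, hA, ?_⟩
    rw [← hzp, Subgroup.zpowers_le]
    exact hxA
  · push Not at hexp
    obtain ⟨x, hxP, hxp⟩ := hexp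
    obtain ⟨A, hA, hxA⟩ := h𝓐.1.2 x
    have claim : ∀ u ∈ (P : Subgroup G), u ^ p ≠ 1 → ∀ B ∈ 𝓐, u ∈ B →
        ∀ w ∈ (P : Subgroup G), w ^ p = 1 → w ∈ B := by
      intro u huP hup B hB huB w hwP hwp
      obtain ⟨C, hC, huwC⟩ := h𝓐.1.2 (u * w)
      have hcomm : Commute u w := comm_of_mem_sylow P hab huP hwP
      have hpow : (u * w) ^ p = u ^ p := by rw [hcomm.mul_pow, hwp, mul_one]
      have h1 : u ^ p ∈ C := hpow ▸ pow_mem huwC p
      have hBC : B = C :=
        nilcover_eq_of_common h𝓐 hZ P hab (pow_mem huP p) hup hB hC (pow_mem huB p) h1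
      subst hBC
      have : w = u⁻¹ * (u * w) := by group
      rw [this]
      exact mul_mem (inv_mem huB) huwC
    obtain ⟨z, hzP, hz1, hzp⟩ : ∃ z ∈ (P : Subgroup G), z ≠ 1 ∧ z ^ p = 1 := by
      obtain ⟨k, hk⟩ := P.isPGroup' ⟨x, hxP⟩
      have hk' : x ^ (p ^ k) = 1 := by simpa using congrArg Subtype.val hk
      have hx1 : x ≠ 1 := by
        rintro rfl
        exact hxp (one_pow p)
      obtain ⟨j, hj1, hj2⟩ := exists_pow_order_p p x hx1 k hk'
      exact ⟨x ^ (p ^ j), pow_mem hxP _, hj1, hj2⟩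
    refine ⟨A, hA, fun u huP => ?_⟩
    by_cases hup : u ^ p = 1
    · exact claim x hxP hxp A hA hxA u huP hup
    · obtain ⟨B, hB, huB⟩ := h𝓐.1.2 u
      have hzB := claim u huP hup B hB huB z hzP hzp
      have hzA := claim x hxP hxp A hA hxA z hzP hzp
      have hAB : A = B := nilcover_eq_of_common h𝓐 hZ P hab hzP hz1 hA hB hzA hzB
      rw [hAB]
      exact huB

theorem nilcover_centralizer_eq {𝓐 : Finset (Subgroup G)} (h𝓐 : IsNilMinCover 𝓐)
    (hZ : Subgroup.center G = ⊥) (P : Sylow p G) (hab : IsMulCommutative ↥(P : Subgroup G))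
    (hne : (P : Subgroup G) ≠ ⊥) {A : Subgroup G} (hA : A ∈ 𝓐) (hPA : (P : Subgroup G) ≤ A) :
    Subgroup.centralizer ((P : Subgroup G) : Set G) = A := by
  have hp := (Fact.out : p.Prime)
  apply le_antisymm
  · intro c hc
    obtain ⟨z, hzP, hz1⟩ : ∃ z ∈ (P : Subgroup G), z ≠ 1 := by
      by_contra hcon
      push Not at hcon
      apply hne
      rw [Subgroup.eq_bot_iff_forall]
      exact hcon
    have hn0 : Nat.card G ≠ 0 := Nat.card_pos.ne'
    obtain ⟨a, m, hnm, hcop⟩ : ∃ a m : ℕ, p ^ a * m = Nat.card G ∧ Nat.Coprime p m :=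
      ⟨_, _, Nat.ordProj_mul_ordCompl_eq_self (Nat.card G) p, Nat.coprime_ordCompl hp hn0⟩
    have hcn : c ^ Nat.card G = 1 := pow_card_eq_one'
    have hc2 : c ^ m ∈ (P : Subgroup G) := by
      apply mem_sylow_of_pelement_normalizer P a
      · rw [← pow_mul, mul_comm, hnm]
        exact hcn
      · exact Subgroup.centralizer_le_normalizer _ (pow_mem hc m)
    have hc1 : c ^ (p ^ a) ∈ A := by
      obtain ⟨B, hB, hzcB⟩ := h𝓐.1.2 (z * c ^ (p ^ a))
      have hcomm : Commute z (c ^ (p ^ a)) := by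
        have h0 : Commute z c := (Subgroup.mem_centralizer_iff.mp hc) z hzP
        exact h0.pow_right _
      have hpow : (z * c ^ (p ^ a)) ^ m = z ^ m := by
        rw [hcomm.mul_pow, ← pow_mul, hnm, hcn, mul_one]
      have hzm1 : z ^ m ≠ 1 := by
        intro h
        obtain ⟨k, hk⟩ := P.isPGroup' ⟨z, hzP⟩
        have hk' : z ^ (p ^ k) = 1 := by simpa using congrArg Subtype.val hk
        have h1 : orderOf z ∣ m := orderOf_dvd_of_pow_eq_one h
        have h2 : orderOf z ∣ p ^ k := orderOf_dvd_of_pow_eq_one hk'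
        have h3 : orderOf z = 1 :=
          Nat.Coprime.eq_one_of_dvd (Nat.Coprime.coprime_dvd_left h2 (Nat.Coprime.pow_left k hcop)) h1
        exact hz1 (orderOf_eq_one_iff.mp h3)
      have hAB : A = B :=
        nilcover_eq_of_common h𝓐 hZ P hab (pow_mem hzP m) hzm1 hA hB (pow_mem (hPA hzP) m)
          (hpow ▸ pow_mem hzcB m)
      subst hAB
      have : c ^ (p ^ a) = z⁻¹ * (z * c ^ (p ^ a)) := by group
      rw [this]
      exact mul_mem (inv_mem (hPA hzP)) hzcB
    have hg : Nat.gcd (p ^ a) m = 1 := Nat.Coprime.pow_left a hcop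
    have hbez := Nat.gcd_eq_gcd_ab (p ^ a) m
    rw [hg] at hbez
    have hc' : c = (c ^ (p ^ a)) ^ (Nat.gcdA (p ^ a) m) * (c ^ m) ^ (Nat.gcdB (p ^ a) m) := by
      rw [← zpow_natCast, ← zpow_natCast, ← zpow_mul, ← zpow_mul, ← zpow_add, ← hbez]
      simp
    rw [hc']
    exact mul_mem (zpow_mem hc1 _) (zpow_mem (hPA hc2) _)
  · intro a ha
    have := h𝓐.2.2 A hA
    rw [Subgroup.mem_centralizer_iff]
    intro x hx
    exact (comm_of_mem_nilpotent P hab A (hPA hx) hx a ha).symm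

theorem centralizer_smul_sylow_le (P : Sylow p G) (H : Subgroup G) (g : G) (hg : g ∈ H)
    (h1 : Subgroup.centralizer ((P : Subgroup G) : Set G) ≤ H) :
    Subgroup.centralizer (((g • P : Sylow p G) : Subgroup G) : Set G) ≤ H := by
  intro c hc
  have hmem : g⁻¹ * c * g ∈ Subgroup.centralizer ((P : Subgroup G) : Set G) := by
    rw [Subgroup.mem_centralizer_iff]
    intro x hx
    have hx0 : x ∈ (P : Subgroup G) := hx
    have hx' : g * x * g⁻¹ ∈ ((g • P : Sylow p G) : Subgroup G) := by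
      rw [mem_smul_sylow_iff]
      simpa [mul_assoc] using hx0
    have h2 := (Subgroup.mem_centralizer_iff.mp hc) _ hx'
    have h3 := congrArg (fun t => g⁻¹ * t * g) h2
    simpa [mul_assoc] using h3
  have h2 := h1 hmem
  have : c = g * (g⁻¹ * c * g) * g⁻¹ := by group
  rw [this]
  exact mul_mem (mul_mem hg h2) (inv_mem hg)

theorem nilcover_mem_normalizer {𝓐 : Finset (Subgroup G)} (h𝓐 : IsNilMinCover 𝓐)
    (hZ : Subgroup.center G = ⊥) (P : Sylow p G) (hab : IsMulCommutative ↥(P : Subgroup G))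
    (hne : (P : Subgroup G) ≠ ⊥)
    (hnot : ¬ (Cfsg.IsElementaryAbelian p (P : Subgroup G) ∧ p < Nat.card ↥(P : Subgroup G)))
    (H : Subgroup G) (hH : H ≠ ⊤) (g : G)
    (h1 : Subgroup.centralizer ((P : Subgroup G) : Set G) ≤ H)
    (h2 : Subgroup.centralizer (((g • P : Sylow p G) : Subgroup G) : Set G) ≤ H) :
    g ∈ Subgroup.normalizer ((P : Subgroup G) : Set G) := by
  obtain ⟨A, hA, hPA⟩ := nilcover_exists_sylow_le h𝓐 hZ P hab hne hnot
  have hCA := nilcover_centralizer_eq h𝓐 hZ P hab hne hA hPA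
  have habQ := isMulCommutative_sylow_of P (g • P) hab
  have hneQ : ((g • P : Sylow p G) : Subgroup G) ≠ ⊥ := by
    intro h
    apply hne
    rw [← Subgroup.card_eq_one] at h ⊢
    rw [card_sylow_eq_card (g • P) P]
    exact h
  have hnotQ : ¬ (Cfsg.IsElementaryAbelian p ((g • P : Sylow p G) : Subgroup G) ∧
      p < Nat.card ↥((g • P : Sylow p G) : Subgroup G)) := by
    rintro ⟨he, hc⟩
    exact hnot ⟨isElementaryAbelian_sylow_of (g • P) P he, by
      rwa [card_sylow_eq_card (g • P) P]⟩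
  obtain ⟨A', hA', hQA'⟩ := nilcover_exists_sylow_le h𝓐 hZ (g • P) habQ hneQ hnotQ
  have hCA' := nilcover_centralizer_eq h𝓐 hZ (g • P) habQ hneQ hA' hQA'
  have hAA' : A = A' := nilcover_unique_le h𝓐 H hH hA hA' (hCA ▸ h1) (hCA' ▸ h2)
  have hQP : ((g • P : Sylow p G) : Subgroup G) ≤ (P : Subgroup G) := by
    intro y hy
    obtain ⟨k, hk⟩ := (g • P).isPGroup' ⟨y, hy⟩
    have hk' : y ^ (p ^ k) = 1 := by simpa using congrArg Subtype.val hk
    apply mem_sylow_of_pelement_normalizer P k hk'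
    apply Subgroup.centralizer_le_normalizer
    rw [hCA, hAA']
    exact hQA' hy
  have hQP' : g • P = P := Sylow.ext ((g • P).is_maximal' P.isPGroup' hQP).symm
  exact Sylow.smul_eq_iff_mem_normalizer.mp hQP'

theorem nilcover_normalizer_isCoatom {𝓐 : Finset (Subgroup G)} (h𝓐 : IsNilMinCover 𝓐)
    (hZ : Subgroup.center G = ⊥) (P : Sylow p G) (hab : IsMulCommutative ↥(P : Subgroup G))
    (hne : (P : Subgroup G) ≠ ⊥) (hnn : ¬ (P : Subgroup G).Normal)
    (hnot : ¬ (Cfsg.IsElementaryAbelian p (P : Subgroup G) ∧ p < Nat.card ↥(P : Subgroup G))) :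
    IsCoatom (Subgroup.normalizer ((P : Subgroup G) : Set G)) := by
  refine ⟨fun h => hnn (Subgroup.normalizer_eq_top_iff.mp h), fun M hlt => ?_⟩
  by_contra hM
  obtain ⟨g, hgM, hgN⟩ := SetLike.exists_of_lt hlt
  apply hgN
  have h1 : Subgroup.centralizer ((P : Subgroup G) : Set G) ≤ M :=
    (Subgroup.centralizer_le_normalizer _).trans hlt.le
  exact nilcover_mem_normalizer h𝓐 hZ P hab hne hnot M hM g h1
    (centralizer_smul_sylow_le P M g hgM h1)

theorem nilcover_not_dvd_inf {𝓐 : Finset (Subgroup G)} (h𝓐 : IsNilMinCover 𝓐)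
    (hZ : Subgroup.center G = ⊥) (P : Sylow p G) (hab : IsMulCommutative ↥(P : Subgroup G))
    (hne : (P : Subgroup G) ≠ ⊥)
    (hnot : ¬ (Cfsg.IsElementaryAbelian p (P : Subgroup G) ∧ p < Nat.card ↥(P : Subgroup G)))
    (g : G) (hg : g ∉ Subgroup.normalizer ((P : Subgroup G) : Set G)) :
    ¬ p ∣ Nat.card ↥(Subgroup.normalizer ((P : Subgroup G) : Set G) ⊓
          (Subgroup.normalizer ((P : Subgroup G) : Set G)).map (MulAut.conj g).toMonoidHom) := by
  have hp := (Fact.out : p.Prime)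
  intro hdvd
  obtain ⟨y, hy⟩ := exists_prime_orderOf_dvd_card' p hdvd
  have hyN : (y : G) ∈ Subgroup.normalizer ((P : Subgroup G) : Set G) := y.2.1
  have hyM : (y : G) ∈ (Subgroup.normalizer ((P : Subgroup G) : Set G)).map
      (MulAut.conj g).toMonoidHom := y.2.2
  have hy1 : (y : G) ≠ 1 := by
    intro h
    have : y = 1 := Subtype.ext h
    rw [this, orderOf_one] at hy
    exact hp.one_lt.ne hy
  have hyp : (y : G) ^ (p ^ 1) = 1 := by
    rw [pow_one]
    have := pow_orderOf_eq_one y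
    rw [hy] at this
    rw [← Subgroup.coe_pow, this, Subgroup.coe_one]
  have hyP : (y : G) ∈ (P : Subgroup G) := mem_sylow_of_pelement_normalizer P 1 hyp hyN
  obtain ⟨n, hn, hny⟩ := Subgroup.mem_map.mp hyM
  have hny' : g * n * g⁻¹ = (y : G) := hny
  have hnp : n ^ (p ^ 1) = 1 := by
    have h1 : n = g⁻¹ * (y : G) * g := by rw [← hny']; group
    have h2 : (g⁻¹ * (y : G) * g) ^ (p ^ 1) = g⁻¹ * (y : G) ^ (p ^ 1) * g := by
      have h := conj_pow (a := g⁻¹) (b := (y : G)) (i := p ^ 1)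
      rwa [inv_inv] at h
    rw [h1, h2, hyp]
    group
  have hnP : n ∈ (P : Subgroup G) := mem_sylow_of_pelement_normalizer P 1 hnp hn
  have hyQ : (y : G) ∈ ((g • P : Sylow p G) : Subgroup G) := by
    rw [mem_smul_sylow_iff, ← hny']
    simpa [mul_assoc] using hnP
  have hC := centralizer_singleton_ne_top hZ hy1
  apply hg
  apply nilcover_mem_normalizer h𝓐 hZ P hab hne hnot (Subgroup.centralizer {(y : G)}) hC g
  · exact Subgroup.centralizer_le (Set.singleton_subset_iff.mpr hyP)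
  · exact Subgroup.centralizer_le (Set.singleton_subset_iff.mpr hyQ)

end SylowPart

end NilCover

end Cfsg.Agent.Lib.Helper69
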