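import Cfsg.Agent.Lib.Helper69.NilCover
import Cfsg.Agent.S3891

set_option autoImplicit false

namespace Cfsg.Agent.Lib.Helper69

section NilCoverSym

open Equiv

/-- the centre of a symmetric group of degree at least 3 is trivial -/
theorem perm_center_eq_bot (n : ℕ) (hn : 3 ≤ n) : Subgroup.center (Perm (Fin n)) = ⊥ := by
  rw [eq_bot_iff]
  intro g hg
  rw [Subgroup.mem_bot]
  by_contra hg1
  obtain ⟨a, ha⟩ : ∃ a, g a ≠ a := by
    by_contra hcon
    push Not at hcon
    exact hg1 (Equiv.ext hcon)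
  obtain ⟨c, hca, hcb⟩ : ∃ c : Fin n, c ≠ a ∧ c ≠ g a := by
    by_contra hcon
    push Not at hcon
    have hsub : (Finset.univ : Finset (Fin n)) ⊆ {a, g a} := by
      intro x _
      by_cases hxa : x = a
      · simp [hxa]
      · simp [hcon x hxa]
    have h1 := Finset.card_le_card hsub
    have h2 : ({a, g a} : Finset (Fin n)).card ≤ 2 := Finset.card_le_two
    rw [Finset.card_univ, Fintype.card_fin] at h1
    omega
  have hcomm := Subgroup.mem_center_iff.mp hg (swap (g a) c)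
  have h1 := congrArg (fun f : Perm (Fin n) => f a) hcomm
  simp only [Perm.mul_apply] at h1
  rw [swap_apply_left, swap_apply_of_ne_of_ne (Ne.symm ha) (Ne.symm hca)] at h1
  exact hcb h1

/-- the basic contradiction: a cyclic Sylow subgroup `⟨σ⟩` of prime order, a proper subgroup
`H` containing the centralizer of `σ` and an element of `H` not normalizing `⟨σ⟩` -/
theorem nilcover_false_of {G : Type*} [Group G] [Finite G] (hZ : Subgroup.center G = ⊥)
    (𝓐 : Finset (Subgroup G)) (h𝓐 : IsNilMinCover 𝓐) {p : ℕ} [Fact p.Prime]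
    (hp2 : ¬ p ^ 2 ∣ Nat.card G) (σ : G) (hσ : orderOf σ = p) (H : Subgroup G) (hH : H ≠ ⊤)
    (hC : ∀ g : G, g * σ = σ * g → g ∈ H) (h : G) (hh : h ∈ H)
    (hnc : h * σ * h⁻¹ * σ ≠ σ * (h * σ * h⁻¹)) : False := by
  have hp := (Fact.out : p.Prime)
  have hpg : IsPGroup p (Subgroup.zpowers σ) := IsPGroup.of_card (n := 1) (by
    rw [Nat.card_zpowers, hσ, pow_one])
  obtain ⟨P, hP⟩ := hpg.exists_le_sylow
  have hcardP : Nat.card ↥(P : Subgroup G) = p := by
    obtain ⟨k, hk⟩ := IsPGroup.iff_card.mp P.isPGroup'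
    have h1 : p ^ k ∣ Nat.card G := hk ▸ Subgroup.card_subgroup_dvd_card _
    have hk1 : k ≤ 1 := by
      by_contra hlt
      exact hp2 ((pow_dvd_pow p (by omega : 2 ≤ k)).trans h1)
    have h2 : p ≤ Nat.card ↥(P : Subgroup G) := by
      have := Subgroup.card_le_of_le hP
      rwa [Nat.card_zpowers, hσ] at this
    rw [hk] at h2 ⊢
    have hk01 : k = 0 ∨ k = 1 := by omega
    rcases hk01 with rfl | rfl
    · rw [pow_zero] at h2
      have := hp.two_le
      omega
    · rw [pow_one]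
  have hPeq : Subgroup.zpowers σ = (P : Subgroup G) := by
    apply Subgroup.eq_of_le_of_card_ge hP
    rw [hcardP, Nat.card_zpowers, hσ]
  have hcyc : IsCyclic ↥(P : Subgroup G) := isCyclic_of_prime_card (p := p) hcardP
  have hσP : σ ∈ (P : Subgroup G) := hP (Subgroup.mem_zpowers σ)
  have hcomm_of_mem : ∀ x ∈ (P : Subgroup G), x * σ = σ * x := by
    intro x hx
    rw [← hPeq] at hx
    obtain ⟨k, rfl⟩ := Subgroup.mem_zpowers_iff.mp hx
    exact (Commute.zpow_left (Commute.refl σ) k).eq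
  have hnn : ¬ (P : Subgroup G).Normal := by
    intro hn
    exact hnc (hcomm_of_mem _ (hn.conj_mem σ hσP h))
  obtain ⟨_, hcoatom, huniq⟩ := Cfsg.Agent.S3891.result hZ 𝓐 h𝓐 P (Or.inl hcyc) hnn
  obtain ⟨M, hM, hHM⟩ := (eq_top_or_exists_le_coatom H).resolve_left hH
  have hCM : Subgroup.centralizer ((P : Subgroup G) : Set G) ≤ M := by
    intro g hg
    apply hHM
    apply hC
    exact (Subgroup.mem_centralizer_iff.mp hg σ hσP).symm
  have hMN := huniq M hM hCM
  have hhN : h ∈ Subgroup.normalizer ((P : Subgroup G) : Set G) := hMN ▸ hHM hh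
  have := (Subgroup.mem_normalizer_iff.mp hhN σ).mp hσP
  exact hnc (hcomm_of_mem _ this)

theorem perm_pow_apply_ne {α : Type*} (s : Perm α) {p : ℕ} (hp : p.Prime) (hs : orderOf s = p)
    (a : α) (ha : s a ≠ a) (j : ℕ) (hj : ¬ p ∣ j) : (s ^ j) a ≠ a := by
  intro h
  have hcop : Nat.Coprime j (orderOf s) := by
    rw [hs]
    exact Nat.Coprime.symm ((Nat.Prime.coprime_iff_not_dvd hp).mpr hj)
  obtain ⟨m, hm⟩ := exists_pow_eq_self_of_coprime hcop
  apply ha
  have : ((s ^ j) ^ m) a = a := Perm.pow_apply_eq_self_of_apply_eq_self h m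
  rwa [hm] at this

/-- the subgroup of elements preserving the fixed-point set of `s` -/
def fixStab {G : Type*} [Group G] {n : ℕ} (ι : G →* Perm (Fin n)) (s : Perm (Fin n)) :
    Subgroup G where
  carrier := {g | ∀ x, s x = x ↔ s (ι g x) = ι g x}
  mul_mem' := by
    intro g g' hg hg' x
    rw [map_mul, Perm.mul_apply]
    exact (hg' x).trans (hg (ι g' x))
  one_mem' := by
    intro x
    rw [map_one, Perm.one_apply]
  inv_mem' := by
    intro g hg x
    have := hg (ι g⁻¹ x)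
    rw [map_inv] at this ⊢
    have e : (ι g) ((ι g)⁻¹ x) = x := by
      rw [← Perm.mul_apply, mul_inv_cancel, Perm.one_apply]
    rw [e] at this
    exact this.symm

theorem mem_fixStab {G : Type*} [Group G] {n : ℕ} (ι : G →* Perm (Fin n)) (s : Perm (Fin n))
    (g : G) : g ∈ fixStab ι s ↔ ∀ x, s x = x ↔ s (ι g x) = ι g x := Iff.rfl

/-- the general case: a group containing all even permutations of `n` points, where a prime
`5 ≤ p < n < 2p` exactly divides the order, has no nilpotent minimal cover -/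
theorem no_nilcover_of_perm_rep {G : Type*} [Group G] [Finite G] (n : ℕ)
    (ι : G →* Perm (Fin n)) (hι : Function.Injective ι)
    (hA : ∀ τ : Perm (Fin n), Perm.sign τ = 1 → ∃ g : G, ι g = τ)
    (hZ : Subgroup.center G = ⊥) (p : ℕ) [Fact p.Prime] (hp5 : 5 ≤ p) (hpn : p < n)
    (h2p : n < 2 * p) (hpG : p ∣ Nat.card G) (hp2 : ¬ p ^ 2 ∣ Nat.card G)
    (𝓐 : Finset (Subgroup G)) (h𝓐 : IsNilMinCover 𝓐) : False := by
  have hp := (Fact.out : p.Prime)
  obtain ⟨σ, hσ⟩ := exists_prime_orderOf_dvd_card' p hpG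
  obtain ⟨s, hs⟩ : ∃ s : Perm (Fin n), s = ι σ := ⟨_, rfl⟩
  have hso : orderOf s = p := by rw [hs, orderOf_injective ι hι σ, hσ]
  have hs1 : s ≠ 1 := by
    intro h
    rw [h, orderOf_one] at hso
    exact hp.one_lt.ne hso
  obtain ⟨a, ha⟩ : ∃ a, s a ≠ a := by
    by_contra hcon
    push Not at hcon
    exact hs1 (Equiv.ext hcon)
  obtain ⟨z, hz⟩ : ∃ z, s z = z := by
    have hpg : IsPGroup p ↥(Subgroup.zpowers s) := IsPGroup.of_card (n := 1) (by
      rw [Nat.card_zpowers, hso, pow_one])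
    have hmod := hpg.card_modEq_card_fixedPoints (Fin n)
    have hne : Nat.card (MulAction.fixedPoints ↥(Subgroup.zpowers s) (Fin n)) ≠ 0 := by
      intro h0
      rw [h0, Nat.card_eq_fintype_card, Fintype.card_fin] at hmod
      obtain ⟨k, hk⟩ := (Nat.modEq_zero_iff_dvd).mp hmod
      have hk1 : 1 < k := by
        by_contra hle
        have hk1' : k ≤ 1 := by omega
        have : p * k ≤ p * 1 := Nat.mul_le_mul_left p hk1'
        omega
      have : p * 2 ≤ p * k := Nat.mul_le_mul_left p hk1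
      omega
    have hnonempty : Nonempty (MulAction.fixedPoints ↥(Subgroup.zpowers s) (Fin n)) := by
      by_contra hemp
      rw [not_nonempty_iff] at hemp
      exact hne Nat.card_of_isEmpty
    obtain ⟨⟨z, hz⟩⟩ := hnonempty
    exact ⟨z, hz ⟨s, Subgroup.mem_zpowers s⟩⟩
  obtain ⟨b, hb⟩ : ∃ b, b = s a := ⟨_, rfl⟩
  obtain ⟨c, hc⟩ : ∃ c, c = s b := ⟨_, rfl⟩
  obtain ⟨d, hd⟩ : ∃ d, d = s c := ⟨_, rfl⟩
  have hp2' : ¬ p ∣ 2 := fun hd2 => by
    have := Nat.le_of_dvd (by norm_num) hd2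
    omega
  have hp3' : ¬ p ∣ 3 := fun hd3 => by
    have := Nat.le_of_dvd (by norm_num) hd3
    omega
  have hab : a ≠ b := by
    rw [hb]
    exact fun h => ha h.symm
  have hac : a ≠ c := by
    rw [hc, hb]
    intro h
    exact perm_pow_apply_ne s hp hso a ha 2 hp2' (by
      rw [pow_two, Perm.mul_apply]
      exact h.symm)
  have had : a ≠ d := by
    rw [hd, hc, hb]
    intro h
    exact perm_pow_apply_ne s hp hso a ha 3 hp3' (by
      rw [pow_succ, pow_two, Perm.mul_apply, Perm.mul_apply]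
      exact h.symm)
  have hbc : b ≠ c := fun h => hab (s.injective (by rw [← hb, ← hc]; exact h))
  have hbd : b ≠ d := fun h => hac (s.injective (by rw [← hb, ← hd]; exact h))
  have hcd : c ≠ d := fun h => hbc (s.injective (by rw [← hc, ← hd]; exact h))
  have haz : a ≠ z := fun h => ha (by rw [h]; exact hz)
  have hbz : b ≠ z := fun h => hbc (by rw [hc, h, hz])
  have hsb : s b ≠ b := by rw [← hc]; exact hbc.symm
  have hsc : s c ≠ c := by rw [← hd]; exact hcd.symm
  -- the 3-cycle `(a b c)`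
  obtain ⟨t, ht⟩ : ∃ t : Perm (Fin n), t = swap a b * swap b c := ⟨_, rfl⟩
  have hta : t a = b := by
    rw [ht, Perm.mul_apply, swap_apply_of_ne_of_ne hab hac, swap_apply_left]
  have htb : t b = c := by
    rw [ht, Perm.mul_apply, swap_apply_left, swap_apply_of_ne_of_ne hac.symm hbc.symm]
  have htc : t c = a := by
    rw [ht, Perm.mul_apply, swap_apply_right, swap_apply_right]
  have htx : ∀ x, x ≠ a → x ≠ b → x ≠ c → t x = x := by
    intro x hxa hxb hxc
    rw [ht, Perm.mul_apply, swap_apply_of_ne_of_ne hxb hxc, swap_apply_of_ne_of_ne hxa hxb]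
  have htsign : Perm.sign t = 1 := by
    rw [ht, map_mul, Perm.sign_swap hab, Perm.sign_swap hbc]
    simp
  obtain ⟨h, hh⟩ := hA t htsign
  -- the 3-cycle `(a z b)`
  obtain ⟨u, hu⟩ : ∃ u : Perm (Fin n), u = swap a z * swap z b := ⟨_, rfl⟩
  have hua : u a = z := by
    rw [hu, Perm.mul_apply, swap_apply_of_ne_of_ne haz hab, swap_apply_left]
  have husign : Perm.sign u = 1 := by
    rw [hu, map_mul, Perm.sign_swap haz, Perm.sign_swap hbz.symm]
    simp
  obtain ⟨τ, hτ⟩ := hA u husign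
  have hHtop : fixStab ι s ≠ ⊤ := by
    intro htop
    have hτH : τ ∈ fixStab ι s := htop ▸ Subgroup.mem_top τ
    have h1 := ((mem_fixStab ι s τ).mp hτH a).mpr (by rw [hτ, hua]; exact hz)
    exact ha h1
  refine nilcover_false_of hZ 𝓐 h𝓐 hp2 σ hσ (fixStab ι s) hHtop ?_ h ?_ ?_
  · intro g hg
    rw [mem_fixStab]
    intro x
    have hgs : ι g * s = s * ι g := by rw [hs, ← map_mul, ← map_mul, hg]
    have hx : ι g (s x) = s (ι g x) := by
      have := congrArg (fun f : Perm (Fin n) => f x) hgs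
      simpa [Perm.mul_apply] using this
    constructor
    · intro h1
      rw [← hx, h1]
    · intro h1
      rw [← hx] at h1
      exact (ι g).injective h1
  · rw [mem_fixStab]
    intro x
    rw [hh]
    by_cases hxa : x = a
    · rw [hxa, hta]
      exact ⟨fun h1 => absurd h1 ha, fun h1 => absurd h1 hsb⟩
    by_cases hxb : x = b
    · rw [hxb, htb]
      exact ⟨fun h1 => absurd h1 hsb, fun h1 => absurd h1 hsc⟩
    by_cases hxc : x = c
    · rw [hxc, htc]
      exact ⟨fun h1 => absurd h1 hsc, fun h1 => absurd h1 ha⟩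
    rw [htx x hxa hxb hxc]
  · intro hcomm
    have h1 := congrArg (fun g => ι g a) hcomm
    simp only [map_mul, map_inv, Perm.mul_apply] at h1
    rw [hh, ← hs] at h1
    have e1 : t⁻¹ b = a := by
      rw [Perm.inv_eq_iff_eq]
      exact hta.symm
    have e2 : t⁻¹ a = c := by
      rw [Perm.inv_eq_iff_eq]
      exact htc.symm
    have htd : t d = d := htx d had.symm hbd.symm hcd.symm
    have L : t (s (t⁻¹ (s a))) = c := by
      rw [← hb, e1, ← hb, htb]
    have R : s (t (s (t⁻¹ a))) = s d := by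
      rw [e2, ← hd, htd]
    have h2 : s b = s d := by
      rw [← hc, ← L, h1, R]
    exact hbd (s.injective h2)

theorem not_sq_dvd_factorial (n p : ℕ) [Fact p.Prime] (hpn : p ≤ n) (h2p : n < 2 * p) :
    ¬ p ^ 2 ∣ n.factorial := by
  have hp := (Fact.out : p.Prime)
  intro hdvd
  have h1 := (padicValNat_dvd_iff_le (p := p) (Nat.factorial_ne_zero n)).mp hdvd
  have hlog : Nat.log p n < 2 := Nat.log_lt_of_lt_pow (by omega) (by nlinarith [hp.two_le])
  rw [padicValNat_factorial hlog] at h1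
  have h2 : ∑ i ∈ Finset.Ico 1 2, n / p ^ i = n / p := by simp
  rw [h2] at h1
  have h3 : n / p < 2 := Nat.div_lt_of_lt_mul (by omega)
  omega

theorem exists_prime_for (n : ℕ) (hn : 6 ≤ n) : ∃ p, p.Prime ∧ 5 ≤ p ∧ p < n ∧ n < 2 * p := by
  obtain ⟨p, hp, hkp, hp2k⟩ := Nat.exists_prime_lt_and_le_two_mul (n / 2) (by omega)
  refine ⟨p, hp, ?_, ?_, ?_⟩
  · have h4 : 4 ≤ p := by omega
    rcases Nat.lt_or_ge p 5 with h | h
    · have h4' : p = 4 := by omega
      subst h4'
      exact absurd hp (by decide)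
    · exact h
  · have hle : p ≤ n := by omega
    rcases Nat.lt_or_ge p n with h | h
    · exact h
    · have hpn : p = n := by omega
      have h2 : 2 ∣ p := ⟨n / 2, by omega⟩
      have := (Nat.prime_dvd_prime_iff_eq Nat.prime_two hp).mp h2
      omega
  · omega

theorem no_nilcover_perm_ge_six (n : ℕ) (hn : 6 ≤ n) (𝓐 : Finset (Subgroup (Perm (Fin n))))
    (h𝓐 : IsNilMinCover 𝓐) : False := by
  obtain ⟨p, hp, hp5, hpn, h2p⟩ := exists_prime_for n hn
  haveI := Fact.mk hp
  have hcard : Nat.card (Perm (Fin n)) = n.factorial := by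
    rw [Nat.card_perm, Nat.card_eq_fintype_card, Fintype.card_fin]
  refine no_nilcover_of_perm_rep n (MonoidHom.id _) Function.injective_id
    (fun τ _ => ⟨τ, rfl⟩) (perm_center_eq_bot n (by omega)) p hp5 hpn h2p ?_ ?_ 𝓐 h𝓐
  · rw [hcard]
    exact Nat.dvd_factorial hp.pos hpn.le
  · rw [hcard]
    exact not_sq_dvd_factorial n p hpn.le h2p

theorem no_nilcover_alt_ge_six (n : ℕ) (hn : 6 ≤ n)
    (𝓐 : Finset (Subgroup ↥(alternatingGroup (Fin n)))) (h𝓐 : IsNilMinCover 𝓐) : False := by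
  obtain ⟨p, hp, hp5, hpn, h2p⟩ := exists_prime_for n hn
  haveI := Fact.mk hp
  haveI : Nontrivial (Fin n) := Fin.nontrivial_iff_two_le.mpr (by omega)
  have hcard : 2 * Nat.card ↥(alternatingGroup (Fin n)) = n.factorial := by
    rw [two_mul_nat_card_alternatingGroup, Nat.card_perm, Nat.card_eq_fintype_card,
      Fintype.card_fin]
  refine no_nilcover_of_perm_rep n (alternatingGroup (Fin n)).subtype
    (Subgroup.subtype_injective _)
    (fun τ hτ => ⟨⟨τ, Perm.mem_alternatingGroup.mpr hτ⟩, rfl⟩)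
    (alternatingGroup.center_eq_bot (by
      rw [Nat.card_eq_fintype_card, Fintype.card_fin]
      omega)) p hp5 hpn h2p ?_ ?_ 𝓐 h𝓐
  · have h1 : p ∣ 2 * Nat.card ↥(alternatingGroup (Fin n)) := by
      rw [hcard]
      exact Nat.dvd_factorial hp.pos hpn.le
    have hcop : Nat.Coprime p 2 := (Nat.coprime_primes hp Nat.prime_two).mpr (by omega)
    exact hcop.dvd_of_dvd_mul_left h1
  · intro hdvd
    apply not_sq_dvd_factorial n p hpn.le h2p
    rw [← hcard]
    exact hdvd.trans (Dvd.intro_left 2 rfl)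

set_option maxRecDepth 100000 in
theorem dec_S4 : ∀ s : Perm (Fin 4), s ^ 3 = 1 → s ≠ 1 →
    (∀ g : Perm (Fin 4), g * s = s * g → Perm.sign g = 1) ∧
      ∃ h : Perm (Fin 4), Perm.sign h = 1 ∧ h * s * h⁻¹ * s ≠ s * (h * s * h⁻¹) := by
  decide +kernel

set_option maxRecDepth 100000 in
theorem dec_S5 : ∀ s : Perm (Fin 5), s ^ 5 = 1 → s ≠ 1 →
    (∀ g : Perm (Fin 5), g * s = s * g → Perm.sign g = 1) ∧
      ∃ h : Perm (Fin 5), Perm.sign h = 1 ∧ h * s * h⁻¹ * s ≠ s * (h * s * h⁻¹) := by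
  decide +kernel

set_option maxRecDepth 100000 in
theorem dec_A5 : ∀ s : Perm (Fin 5), s ^ 3 = 1 → s ≠ 1 →
    ∃ z : Fin 5, (∀ g : Perm (Fin 5), Perm.sign g = 1 → g * s = s * g → g z = z) ∧
      (∃ h : Perm (Fin 5), Perm.sign h = 1 ∧ h z = z ∧ h * s * h⁻¹ * s ≠ s * (h * s * h⁻¹)) ∧
      ∃ τ : Perm (Fin 5), Perm.sign τ = 1 ∧ τ z ≠ z := by
  decide +kernel

/-- the symmetric groups of degree 4 and 5, via the alternating subgroup -/
theorem no_nilcover_perm_small (n p : ℕ) [Fact p.Prime] (hn : 3 ≤ n)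
    (hpG : p ∣ Nat.card (Perm (Fin n))) (hp2 : ¬ p ^ 2 ∣ Nat.card (Perm (Fin n)))
    (hdec : ∀ s : Perm (Fin n), s ^ p = 1 → s ≠ 1 →
      (∀ g : Perm (Fin n), g * s = s * g → Perm.sign g = 1) ∧
        ∃ h : Perm (Fin n), Perm.sign h = 1 ∧ h * s * h⁻¹ * s ≠ s * (h * s * h⁻¹))
    (𝓐 : Finset (Subgroup (Perm (Fin n)))) (h𝓐 : IsNilMinCover 𝓐) : False := by
  have hp := (Fact.out : p.Prime)
  obtain ⟨σ, hσ⟩ := exists_prime_orderOf_dvd_card' p hpG
  have hσp : σ ^ p = 1 := by rw [← hσ]; exact pow_orderOf_eq_one σ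
  have hσ1 : σ ≠ 1 := by
    intro h
    rw [h, orderOf_one] at hσ
    exact hp.one_lt.ne hσ
  obtain ⟨hC, h, hsign, hnc⟩ := hdec σ hσp hσ1
  have hHtop : alternatingGroup (Fin n) ≠ ⊤ := by
    intro htop
    have h01 : (⟨0, by omega⟩ : Fin n) ≠ ⟨1, by omega⟩ := by
      intro h
      have := congrArg Fin.val h
      simp at this
    have hmem : swap (⟨0, by omega⟩ : Fin n) ⟨1, by omega⟩ ∈ alternatingGroup (Fin n) :=
      htop ▸ Subgroup.mem_top _
    rw [Perm.mem_alternatingGroup, Perm.sign_swap h01] at hmem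
    exact absurd hmem (by decide)
  exact nilcover_false_of (perm_center_eq_bot n hn) 𝓐 h𝓐 hp2 σ hσ (alternatingGroup (Fin n))
    hHtop (fun g hg => Perm.mem_alternatingGroup.mpr (hC g hg)) h
    (Perm.mem_alternatingGroup.mpr hsign) hnc

theorem no_nilcover_perm_four (𝓐 : Finset (Subgroup (Perm (Fin 4)))) (h𝓐 : IsNilMinCover 𝓐) :
    False := by
  haveI : Fact (Nat.Prime 3) := ⟨Nat.prime_three⟩
  have hcard : Nat.card (Perm (Fin 4)) = 24 := by
    rw [Nat.card_perm, Nat.card_eq_fintype_card, Fintype.card_fin]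
    rfl
  exact no_nilcover_perm_small 4 3 (by norm_num) (by rw [hcard]; decide) (by rw [hcard]; decide)
    dec_S4 𝓐 h𝓐

theorem no_nilcover_perm_five (𝓐 : Finset (Subgroup (Perm (Fin 5)))) (h𝓐 : IsNilMinCover 𝓐) :
    False := by
  haveI : Fact (Nat.Prime 5) := ⟨Nat.prime_five⟩
  have hcard : Nat.card (Perm (Fin 5)) = 120 := by
    rw [Nat.card_perm, Nat.card_eq_fintype_card, Fintype.card_fin]
    rfl
  exact no_nilcover_perm_small 5 5 (by norm_num) (by rw [hcard]; decide) (by rw [hcard]; decide)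
    dec_S5 𝓐 h𝓐

theorem no_nilcover_alt_five (𝓐 : Finset (Subgroup ↥(alternatingGroup (Fin 5))))
    (h𝓐 : IsNilMinCover 𝓐) : False := by
  haveI : Fact (Nat.Prime 3) := ⟨Nat.prime_three⟩
  have hcard : Nat.card ↥(alternatingGroup (Fin 5)) = 60 := by
    rw [nat_card_alternatingGroup, Nat.card_eq_fintype_card, Fintype.card_fin]
    rfl
  have hpG : 3 ∣ Nat.card ↥(alternatingGroup (Fin 5)) := by rw [hcard]; decide
  have hp2 : ¬ 3 ^ 2 ∣ Nat.card ↥(alternatingGroup (Fin 5)) := by rw [hcard]; decide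
  obtain ⟨σ, hσ⟩ := exists_prime_orderOf_dvd_card' 3 hpG
  have hσp : σ.1 ^ 3 = 1 := by
    have h1 : σ ^ 3 = 1 := by rw [← hσ]; exact pow_orderOf_eq_one σ
    have h2 := congrArg Subtype.val h1
    simpa using h2
  have hσ1 : σ.1 ≠ 1 := by
    intro h
    have h1 : σ = 1 := Subtype.ext h
    rw [h1, orderOf_one] at hσ
    omega
  obtain ⟨z, hC, ⟨h, hsign, hhz, hnc⟩, τ, hτsign, hτz⟩ := dec_A5 σ.1 hσp hσ1
  set H : Subgroup ↥(alternatingGroup (Fin 5)) :=
    (MulAction.stabilizer (Perm (Fin 5)) z).subgroupOf (alternatingGroup (Fin 5)) with hH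
  have hmemH : ∀ g : ↥(alternatingGroup (Fin 5)), g ∈ H ↔ g.1 z = z := by
    intro g
    rw [hH, Subgroup.mem_subgroupOf, MulAction.mem_stabilizer_iff, Perm.smul_def]
  have hHtop : H ≠ ⊤ := by
    intro htop
    have hmem : (⟨τ, Perm.mem_alternatingGroup.mpr hτsign⟩ : ↥(alternatingGroup (Fin 5))) ∈ H :=
      htop ▸ Subgroup.mem_top _
    exact hτz ((hmemH _).mp hmem)
  refine nilcover_false_of (alternatingGroup.center_eq_bot (by
      rw [Nat.card_eq_fintype_card, Fintype.card_fin]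
      omega)) 𝓐 h𝓐 hp2 σ hσ H hHtop ?_
    (⟨h, Perm.mem_alternatingGroup.mpr hsign⟩ : ↥(alternatingGroup (Fin 5))) ?_ ?_
  · intro g hg
    rw [hmemH]
    apply hC g.1 (Perm.mem_alternatingGroup.mp g.2)
    have := congrArg Subtype.val hg
    simpa using this
  · rw [hmemH]
    exact hhz
  · intro hcomm
    apply hnc
    have := congrArg Subtype.val hcomm
    simpa using this

theorem no_nilcover_alt (n : ℕ) (hn : 5 ≤ n) (𝓐 : Finset (Subgroup ↥(alternatingGroup (Fin n))))
    (h𝓐 : IsNilMinCover 𝓐) : False := by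
  rcases Nat.lt_or_ge n 6 with h | h
  · have h5 : n = 5 := by omega
    subst h5
    exact no_nilcover_alt_five 𝓐 h𝓐
  · exact no_nilcover_alt_ge_six n h 𝓐 h𝓐

theorem no_nilcover_perm (n : ℕ) (hn : 4 ≤ n) (𝓐 : Finset (Subgroup (Perm (Fin n))))
    (h𝓐 : IsNilMinCover 𝓐) : False := by
  rcases Nat.lt_or_ge n 6 with h | h
  · have h45 : n = 4 ∨ n = 5 := by omega
    rcases h45 with rfl | rfl
    · exact no_nilcover_perm_four 𝓐 h𝓐
    · exact no_nilcover_perm_five 𝓐 h𝓐
  · exact no_nilcover_perm_ge_six n h 𝓐 h𝓐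

end NilCoverSym

end Cfsg.Agent.Lib.Helper69
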