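import Mathlib
import Cfsg.Prelude.Def_Transfer

set_option autoImplicit false

namespace Cfsg.Agent.Lib.Helper69

section PClassCount

/-- Burnside counting: if all elements outside a proper subgroup `K` fix at most `|X|/p` points,
then the number of orbits is at most `(p+1)|X|/(2p)`. -/
theorem orbit_bound {H X : Type*} [Group H] [MulAction H X] [Finite H] [Finite X]
    (K : Subgroup H) (hK : K ≠ ⊤) (p : ℕ) (hp : 1 ≤ p)
    (hfix : ∀ h : H, h ∉ K → p * Nat.card (MulAction.fixedBy X h) ≤ Nat.card X) :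
    2 * p * Nat.card (Quotient (MulAction.orbitRel H X)) ≤ (p + 1) * Nat.card X := by
  classical
  letI := Fintype.ofFinite H
  letI := Fintype.ofFinite X
  letI : Fintype (Quotient (MulAction.orbitRel H X)) := Fintype.ofFinite _
  have hB := MulAction.sum_card_fixedBy_eq_card_orbits_mul_card_group H X
  have hsplit := Finset.sum_filter_add_sum_filter_not (Finset.univ : Finset H) (fun h => h ∈ K)
    (fun h => Fintype.card (MulAction.fixedBy X h))
  have h1 : ∑ h ∈ Finset.univ.filter (fun h => h ∈ K), Fintype.card (MulAction.fixedBy X h)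
      ≤ (Finset.univ.filter (fun h : H => h ∈ K)).card * Fintype.card X := by
    have := Finset.sum_le_card_nsmul (Finset.univ.filter (fun h : H => h ∈ K))
      (fun h => Fintype.card (MulAction.fixedBy X h)) (Fintype.card X)
      (fun h _ => Fintype.card_subtype_le _)
    simpa using this
  have h2 : p * ∑ h ∈ Finset.univ.filter (fun h => ¬ h ∈ K), Fintype.card (MulAction.fixedBy X h)
      ≤ (Finset.univ.filter (fun h : H => ¬ h ∈ K)).card * Fintype.card X := by
    rw [Finset.mul_sum]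
    have := Finset.sum_le_card_nsmul (Finset.univ.filter (fun h : H => ¬ h ∈ K))
      (fun h => p * Fintype.card (MulAction.fixedBy X h)) (Fintype.card X)
      (fun h hh => by
        have h3 := hfix h (Finset.mem_filter.mp hh).2
        rwa [Nat.card_eq_fintype_card, Nat.card_eq_fintype_card] at h3)
    simpa using this
  have hcard := Finset.card_filter_add_card_filter_not (s := (Finset.univ : Finset H))
    (fun h => h ∈ K)
  have hKcard : (Finset.univ.filter (fun h : H => h ∈ K)).card = Nat.card ↥K := by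
    rw [← Fintype.card_subtype]
    exact Nat.card_eq_fintype_card.symm
  have hidx := Subgroup.card_mul_index K
  have hidx1 : K.index ≠ 1 := fun h => hK (Subgroup.index_eq_one.mp h)
  have hidx0 : K.index ≠ 0 := Subgroup.index_ne_zero_of_finite
  have hHcard : (Finset.univ : Finset H).card = Nat.card H := by
    rw [Finset.card_univ, Nat.card_eq_fintype_card]
  rw [Nat.card_eq_fintype_card, Nat.card_eq_fintype_card]
  set a := (Finset.univ.filter (fun h : H => h ∈ K)).card with ha
  set b := (Finset.univ.filter (fun h : H => ¬ h ∈ K)).card with hb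
  set s1 := ∑ h ∈ Finset.univ.filter (fun h => h ∈ K), Fintype.card (MulAction.fixedBy X h)
  set s2 := ∑ h ∈ Finset.univ.filter (fun h => ¬ h ∈ K), Fintype.card (MulAction.fixedBy X h)
  set x := Fintype.card X
  set o := Fintype.card (Quotient (MulAction.orbitRel H X))
  set n := Fintype.card H
  have hn : a + b = n := by
    rw [hcard, Finset.card_univ]
  have hab : a ≤ b := by
    have h5 : 2 ≤ K.index := by omega
    have h6 : a * 2 ≤ a * K.index := Nat.mul_le_mul_left a h5
    rw [hKcard, hidx, ← hHcard, Finset.card_univ, ← hKcard] at h6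
    omega
  have hn0 : 0 < n := Fintype.card_pos
  -- p * (s1 + s2) = p * o * n
  have h7 : s1 + s2 = o * n := by
    rw [hsplit]
    exact hB
  obtain ⟨d, hd⟩ := Nat.exists_eq_add_of_le hab
  have h8 : p * s1 ≤ p * (a * x) := Nat.mul_le_mul_left p h1
  have h9 : 2 * p * o * n ≤ (p + 1) * x * n := by
    have e1 : 2 * p * o * n = 2 * (p * s1) + 2 * (p * s2) := by
      have : 2 * p * o * n = 2 * p * (o * n) := by ring
      rw [this, ← h7]
      ring
    rw [e1, ← hn, hd]
    have h10 : d * x ≤ p * (d * x) := Nat.le_mul_of_pos_left _ hp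
    rw [hd] at h2
    nlinarith [h8, h2, h10]
  exact Nat.le_of_mul_le_mul_right h9 hn0

variable {G : Type*} [Group G]

/-- conjugation action of a subgroup `N` on a subgroup `P` it normalizes -/
@[reducible] def conjActionOn (N P : Subgroup G)
    (hN : ∀ g ∈ N, ∀ x ∈ P, g * x * g⁻¹ ∈ P) : MulAction ↥N ↥P where
  smul g x := ⟨g.1 * x.1 * g.1⁻¹, hN g.1 g.2 x.1 x.2⟩
  one_smul x := Subtype.ext (by
    show (1 : ↥N).1 * x.1 * (1 : ↥N).1⁻¹ = x.1
    simp)
  mul_smul g h x := Subtype.ext (by
    show (g * h).1 * x.1 * (g * h).1⁻¹ = g.1 * (h.1 * x.1 * h.1⁻¹) * g.1⁻¹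
    simp [mul_assoc])

theorem mem_smul_sylow_iff' {p : ℕ} (P : Sylow p G) (g u : G) :
    u ∈ ((g • P : Sylow p G) : Subgroup G) ↔ g⁻¹ * u * g ∈ (P : Subgroup G) := by
  rw [Sylow.coe_subgroup_smul, Subgroup.mem_pointwise_smul_iff_inv_smul_mem, MulAut.smul_def,
    MulAut.conj_inv_apply]

theorem orderOf_conj_eq (g x : G) : orderOf (g * x * g⁻¹) = orderOf x :=
  MulEquiv.orderOf_eq (MulAut.conj g) x

/-- the class of an element of a Sylow `p`-subgroup consists of `p`-elements -/
theorem pclass_of_mem_sylow [Finite G] {p : ℕ} [Fact p.Prime] (P : Sylow p G) (x : G)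
    (hx : x ∈ (P : Subgroup G)) :
    ∀ y ∈ (ConjClasses.mk x).carrier, ∃ k : ℕ, orderOf y = p ^ k := by
  intro y hy
  rw [ConjClasses.mem_carrier_iff_mk_eq, ConjClasses.mk_eq_mk_iff_isConj, isConj_iff] at hy
  obtain ⟨c, hc⟩ := hy
  obtain ⟨k, hk⟩ := IsPGroup.iff_orderOf.mp P.isPGroup' ⟨x, hx⟩
  rw [← Subgroup.orderOf_coe] at hk
  refine ⟨k, ?_⟩
  have h1 : orderOf x = orderOf y := by
    rw [← hc, orderOf_conj_eq]
  rw [← h1]
  exact hk

/-- the number of classes of `p`-elements is at most the number of orbits of `N_G(P)` on `P` -/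
theorem card_pclasses_le_orbits [Finite G] {p : ℕ} [Fact p.Prime] (P : Sylow p G)
    (hN : ∀ g ∈ Subgroup.normalizer ((P : Subgroup G) : Set G), ∀ x ∈ (P : Subgroup G),
      g * x * g⁻¹ ∈ (P : Subgroup G)) :
    Nat.card {c : ConjClasses G // ∀ x ∈ c.carrier, ∃ k : ℕ, orderOf x = p ^ k} ≤
      Nat.card (Quotient (@MulAction.orbitRel ↥(Subgroup.normalizer ((P : Subgroup G) : Set G))
        ↥(P : Subgroup G) _ (conjActionOn _ _ hN))) := by
  letI := conjActionOn _ _ hN
  let f : Quotient (MulAction.orbitRel ↥(Subgroup.normalizer ((P : Subgroup G) : Set G))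
        ↥(P : Subgroup G)) → {c : ConjClasses G // ∀ x ∈ c.carrier, ∃ k : ℕ, orderOf x = p ^ k} :=
    Quotient.lift (fun x : ↥(P : Subgroup G) =>
      (⟨ConjClasses.mk x.1, pclass_of_mem_sylow P x.1 x.2⟩ :
        {c : ConjClasses G // ∀ x ∈ c.carrier, ∃ k : ℕ, orderOf x = p ^ k}))
      (by
        intro a b hab
        have hab' : a ∈ MulAction.orbit ↥(Subgroup.normalizer ((P : Subgroup G) : Set G)) b := hab
        rw [MulAction.mem_orbit_iff] at hab'
        obtain ⟨g, hg⟩ := hab'
        apply Subtype.ext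
        show ConjClasses.mk a.1 = ConjClasses.mk b.1
        rw [ConjClasses.mk_eq_mk_iff_isConj, isConj_comm, isConj_iff]
        exact ⟨g.1, congrArg Subtype.val hg⟩)
  apply Nat.card_le_card_of_surjective f
  rintro ⟨c, hc⟩
  obtain ⟨y, rfl⟩ := ConjClasses.exists_rep c
  obtain ⟨k, hk⟩ := hc y ConjClasses.mem_carrier_mk
  have hpg : IsPGroup p (Subgroup.zpowers y) := IsPGroup.of_card (n := k) (by
    rw [Nat.card_zpowers, hk])
  obtain ⟨Q, hQ⟩ := hpg.exists_le_sylow
  obtain ⟨g, hg⟩ := MulAction.exists_smul_eq G Q P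
  have hyP : g * y * g⁻¹ ∈ (P : Subgroup G) := by
    rw [← hg, mem_smul_sylow_iff']
    have : g⁻¹ * (g * y * g⁻¹) * g = y := by group
    rw [this]
    exact hQ (Subgroup.mem_zpowers y)
  refine ⟨Quotient.mk _ ⟨g * y * g⁻¹, hyP⟩, ?_⟩
  apply Subtype.ext
  show ConjClasses.mk (g * y * g⁻¹) = ConjClasses.mk y
  rw [ConjClasses.mk_eq_mk_iff_isConj, isConj_comm, isConj_iff]
  exact ⟨g, rfl⟩

/-- a non-centralizing element of the normalizer fixes at most `|P|/p` points -/
theorem fixedBy_bound [Finite G] {p : ℕ} [Fact p.Prime] (P : Sylow p G)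
    (hN : ∀ g ∈ Subgroup.normalizer ((P : Subgroup G) : Set G), ∀ x ∈ (P : Subgroup G),
      g * x * g⁻¹ ∈ (P : Subgroup G))
    (h : ↥(Subgroup.normalizer ((P : Subgroup G) : Set G)))
    (hh : h.1 ∉ Subgroup.centralizer ((P : Subgroup G) : Set G)) :
    p * Nat.card (@MulAction.fixedBy ↥(Subgroup.normalizer ((P : Subgroup G) : Set G))
        ↥(P : Subgroup G) _ (conjActionOn _ _ hN) h) ≤ Nat.card ↥(P : Subgroup G) := by
  letI := conjActionOn _ _ hN
  have hp := (Fact.out : p.Prime)
  set L : Subgroup ↥(P : Subgroup G) :=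
    (Subgroup.centralizer {h.1}).subgroupOf (P : Subgroup G) with hL
  have hcard : Nat.card (MulAction.fixedBy ↥(P : Subgroup G) h) = Nat.card ↥L := by
    apply Nat.card_congr
    apply Equiv.subtypeEquivRight
    intro x
    rw [MulAction.mem_fixedBy, hL, Subgroup.mem_subgroupOf, Subgroup.mem_centralizer_iff]
    constructor
    · intro hx y hy
      rw [Set.mem_singleton_iff] at hy
      subst hy
      have h1 : h.1 * x.1 * h.1⁻¹ = x.1 := congrArg Subtype.val hx
      rw [mul_inv_eq_iff_eq_mul] at h1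
      exact h1
    · intro hx
      apply Subtype.ext
      show h.1 * x.1 * h.1⁻¹ = x.1
      rw [mul_inv_eq_iff_eq_mul]
      exact hx h.1 rfl
  have hLtop : L ≠ ⊤ := by
    intro htop
    apply hh
    rw [Subgroup.mem_centralizer_iff]
    intro x hx
    have hxL : (⟨x, hx⟩ : ↥(P : Subgroup G)) ∈ L := htop ▸ Subgroup.mem_top _
    rw [hL, Subgroup.mem_subgroupOf, Subgroup.mem_centralizer_iff] at hxL
    exact (hxL h.1 rfl).symm
  obtain ⟨j, hj⟩ := P.isPGroup'.index L
  have hj0 : j ≠ 0 := by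
    rintro rfl
    rw [pow_zero] at hj
    exact hLtop (Subgroup.index_eq_one.mp hj)
  have hdvd : p ∣ L.index := by
    rw [hj]
    exact dvd_pow_self p hj0
  have hmul := Subgroup.card_mul_index L
  rw [hcard, ← hmul, mul_comm]
  exact Nat.mul_le_mul_left _ (Nat.le_of_dvd (Nat.pos_of_ne_zero Subgroup.index_ne_zero_of_finite) hdvd)

/-- if `N_G(P)` does not centralize `P`, there are at most `(p+1)|P|/(2p)` classes of
`p`-elements -/
theorem card_pclasses_bound [Finite G] {p : ℕ} [Fact p.Prime] (P : Sylow p G)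
    (hNC : ¬ Subgroup.normalizer ((P : Subgroup G) : Set G) ≤
      Subgroup.centralizer ((P : Subgroup G) : Set G)) :
    2 * p * Nat.card {c : ConjClasses G // ∀ x ∈ c.carrier, ∃ k : ℕ, orderOf x = p ^ k} ≤
      (p + 1) * Nat.card ↥(P : Subgroup G) := by
  have hp := (Fact.out : p.Prime)
  have hN : ∀ g ∈ Subgroup.normalizer ((P : Subgroup G) : Set G), ∀ x ∈ (P : Subgroup G),
      g * x * g⁻¹ ∈ (P : Subgroup G) := by
    intro g hg x hx
    exact (Subgroup.mem_normalizer_iff.mp hg x).mp hx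
  have h1 := card_pclasses_le_orbits P hN
  letI := conjActionOn _ _ hN
  have h2 := orbit_bound (H := ↥(Subgroup.normalizer ((P : Subgroup G) : Set G)))
    (X := ↥(P : Subgroup G))
    ((Subgroup.centralizer ((P : Subgroup G) : Set G)).subgroupOf
      (Subgroup.normalizer ((P : Subgroup G) : Set G)))
    (by
      intro htop
      exact hNC (Subgroup.subgroupOf_eq_top.mp htop))
    p hp.one_lt.le
    (by
      intro h hh
      exact fixedBy_bound P hN h (by
        intro hmem
        exact hh (Subgroup.mem_subgroupOf.mpr hmem)))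
  exact (Nat.mul_le_mul_left (2 * p) h1).trans h2

/-- if `P` is an abelian Sylow subgroup and `G` has a normal `p`-complement, distinct elements
of `P` are not conjugate, hence there are at least `|P|` classes of `p`-elements -/
theorem card_le_pclasses [Finite G] {p : ℕ} [Fact p.Prime] (P : Sylow p G)
    (hab : IsMulCommutative ↥(P : Subgroup G)) (K : Subgroup G) [K.Normal]
    (hK : ¬ p ∣ Nat.card ↥K) (hKP : Nat.card ↥K * Nat.card ↥(P : Subgroup G) = Nat.card G) :
    Nat.card ↥(P : Subgroup G) ≤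
      Nat.card {c : ConjClasses G // ∀ x ∈ c.carrier, ∃ k : ℕ, orderOf x = p ^ k} := by
  have hp := (Fact.out : p.Prime)
  have hcop : Nat.Coprime (Nat.card ↥K) (Nat.card ↥(P : Subgroup G)) := by
    rw [Sylow.card_eq_multiplicity]
    exact Nat.Coprime.pow_right _ ((Nat.Prime.coprime_iff_not_dvd hp).mpr hK).symm
  have hcompl : Subgroup.IsComplement' K (P : Subgroup G) :=
    Subgroup.isComplement'_of_coprime hKP hcop
  have hdisj : Disjoint K (P : Subgroup G) := hcompl.disjoint
  let f : ↥(P : Subgroup G) → {c : ConjClasses G // ∀ x ∈ c.carrier, ∃ k : ℕ, orderOf x = p ^ k} :=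
    fun x => ⟨ConjClasses.mk x.1, pclass_of_mem_sylow P x.1 x.2⟩
  apply Nat.card_le_card_of_injective f
  intro x y hxy
  have h1 : ConjClasses.mk x.1 = ConjClasses.mk y.1 := congrArg Subtype.val hxy
  rw [ConjClasses.mk_eq_mk_iff_isConj, isConj_iff] at h1
  obtain ⟨g, hg⟩ := h1
  obtain ⟨⟨k, u⟩, hku⟩ := hcompl.2 g
  have hku' : k.1 * u.1 = g := hku
  have hcomm : u.1 * x.1 = x.1 * u.1 := congrArg Subtype.val (mul_comm' u x)
  have h2 : y.1 = k.1 * x.1 * k.1⁻¹ := by
    rw [← hg, ← hku']
    have : k.1 * u.1 * x.1 * (k.1 * u.1)⁻¹ = k.1 * (u.1 * x.1) * u.1⁻¹ * k.1⁻¹ := by group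
    rw [this, hcomm]
    group
  have h3 : x.1⁻¹ * y.1 ∈ K := by
    have : x.1⁻¹ * y.1 = (x.1⁻¹ * k.1 * x.1⁻¹⁻¹) * k.1⁻¹ := by
      rw [h2]
      group
    rw [this]
    exact mul_mem ((inferInstance : K.Normal).conj_mem k.1 k.2 x.1⁻¹) (inv_mem k.2)
  have h4 : x.1⁻¹ * y.1 ∈ (P : Subgroup G) := mul_mem (inv_mem x.2) y.2
  have h5 : x.1⁻¹ * y.1 = 1 := Subgroup.disjoint_def.mp hdisj h3 h4
  apply Subtype.ext
  exact inv_mul_eq_one.mp h5

end PClassCount

end Cfsg.Agent.Lib.Helper69
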