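import Mathlib
import Cfsg.Agent.Lib.Helper69.NilCover
import Cfsg.Agent.Lib.Helper69.MaxCentB

set_option autoImplicit false
open Cfsg
open scoped commutatorElement

/-! Nilpotent minimal covers of groups between `PSL_n(q)` and `PGL_n(q)`: general lemmas on
nilpotent linear groups over finite fields (helper69). -/

namespace Cfsg.Agent.Lib.Helper69.PGLC

open Matrix

/-- elements of coprime orders whose commutator is central commute -/
theorem comm_of_central_comm {Q : Type*} [Group Q] {x y : Q} {a b : ℕ} (hab : a.Coprime b)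
    (hx : x ^ a = 1) (hy : y ^ b = 1) (hc : ∀ g : Q, g * ⁅x, y⁆ = ⁅x, y⁆ * g) :
    x * y = y * x := by
  have h1 : x * y * x⁻¹ = ⁅x, y⁆ * y := by rw [commutatorElement_def]; group
  have h2 : x * y ^ b * x⁻¹ = ⁅x, y⁆ ^ b * y ^ b := by
    rw [← conj_pow, h1, Commute.mul_pow (show Commute ⁅x, y⁆ y from (hc y).symm)]
  rw [hy, mul_one, mul_inv_cancel, mul_one] at h2
  have h3 : y * x * y⁻¹ = ⁅x, y⁆⁻¹ * x := by rw [commutatorElement_def]; group
  have h4 : y * x ^ a * y⁻¹ = (⁅x, y⁆⁻¹) ^ a * x ^ a := by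
    rw [← conj_pow, h3]
    have hcx : Commute ⁅x, y⁆⁻¹ x := (show Commute ⁅x, y⁆ x from (hc x).symm).inv_left
    rw [hcx.mul_pow]
  rw [hx, mul_one, mul_inv_cancel, mul_one, inv_pow] at h4
  have h5 : ⁅x, y⁆ ^ a = 1 := by
    rw [← _root_.inv_inj, inv_one]
    exact h4.symm
  have h6 : orderOf ⁅x, y⁆ ∣ Nat.gcd a b :=
    Nat.dvd_gcd (orderOf_dvd_of_pow_eq_one h5) (orderOf_dvd_of_pow_eq_one h2.symm)
  rw [hab, Nat.dvd_one, orderOf_eq_one_iff] at h6
  exact (commutatorElement_eq_one_iff_commute.mp h6).eq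

/-- in a nilpotent group, elements of coprime orders commute -/
theorem comm_of_coprime {Γ : Type*} [Group Γ] [Group.IsNilpotent Γ] {x y : Γ} {a b : ℕ}
    (hab : a.Coprime b) (hx : x ^ a = 1) (hy : y ^ b = 1) : x * y = y * x := by
  obtain ⟨n, hn⟩ := Group.IsNilpotent.nilpotent' (G := Γ)
  have key : ∀ i : ℕ, ⁅x, y⁆ ∈ Subgroup.upperCentralSeries Γ i → ⁅x, y⁆ ∈ Subgroup.upperCentralSeries Γ 0 := by
    intro i
    induction i with
    | zero => exact fun h => h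
    | succ i ih =>
      intro hmem
      apply ih
      have hxq : (x : Γ ⧸ Subgroup.upperCentralSeries Γ i) ^ a = 1 := by
        rw [← QuotientGroup.mk_pow, hx]; rfl
      have hyq : (y : Γ ⧸ Subgroup.upperCentralSeries Γ i) ^ b = 1 := by
        rw [← QuotientGroup.mk_pow, hy]; rfl
      have hcq : ∀ g : Γ ⧸ Subgroup.upperCentralSeries Γ i,
          g * ⁅(x : Γ ⧸ Subgroup.upperCentralSeries Γ i), (y : Γ ⧸ Subgroup.upperCentralSeries Γ i)⁆ =
            ⁅(x : Γ ⧸ Subgroup.upperCentralSeries Γ i), (y : Γ ⧸ Subgroup.upperCentralSeries Γ i)⁆ * g := by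
        intro g
        induction g using QuotientGroup.induction_on with
        | H g =>
          have e : ⁅(x : Γ ⧸ Subgroup.upperCentralSeries Γ i), (y : Γ ⧸ Subgroup.upperCentralSeries Γ i)⁆ =
              ((⁅x, y⁆ : Γ) : Γ ⧸ Subgroup.upperCentralSeries Γ i) := rfl
          rw [e, ← QuotientGroup.mk_mul, ← QuotientGroup.mk_mul, QuotientGroup.eq]
          have h1 := Subgroup.mem_upperCentralSeries_succ_iff.mp
            ((Subgroup.upperCentralSeries Γ (i + 1)).inv_mem hmem) g⁻¹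
          have e2 : (g * ⁅x, y⁆)⁻¹ * (⁅x, y⁆ * g) = ⁅⁅x, y⁆⁻¹, g⁻¹⁆ := by
            rw [commutatorElement_def ⁅x, y⁆⁻¹ g⁻¹]; group
          rw [e2]
          exact h1
      have h2 := comm_of_central_comm hab hxq hyq hcq
      have h3 : ⁅(x : Γ ⧸ Subgroup.upperCentralSeries Γ i), (y : Γ ⧸ Subgroup.upperCentralSeries Γ i)⁆ = 1 :=
        commutatorElement_eq_one_iff_commute.mpr h2
      exact (QuotientGroup.eq_one_iff _).mp h3
  have h0 := key n (hn ▸ Subgroup.mem_top _)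
  rw [Subgroup.upperCentralSeries_zero, Subgroup.mem_bot] at h0
  exact (commutatorElement_eq_one_iff_commute.mp h0).eq

/-- the preimage of a nilpotent subgroup under a homomorphism with central kernel -/
theorem nilpotent_comap {Γ₀ H : Type*} [Group Γ₀] [Group H] (ψ : Γ₀ →* H)
    (hker : ψ.ker ≤ Subgroup.center Γ₀) (A : Subgroup H) [Group.IsNilpotent ↥A] :
    Group.IsNilpotent ↥(A.comap ψ) := by
  apply isNilpotent_of_ker_le_center (ψ.subgroupComap A)
  intro x hx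
  rw [Subgroup.mem_center_iff]
  intro y
  have h1 : ψ x.1 = 1 := by
    have := (MonoidHom.mem_ker).mp hx
    exact congrArg Subtype.val this
  have h2 := Subgroup.mem_center_iff.mp (hker ((MonoidHom.mem_ker).mpr h1)) y.1
  exact Subtype.ext h2

section Lin

variable {F : Type*} [Field F] [Fintype F] {p : ℕ} [Fact p.Prime] [CharP F p] {n : ℕ}

theorem p_dvd_card_vec (hn : n ≠ 0) : p ∣ Nat.card (Fin n → F) := by
  obtain ⟨k, -, hk⟩ := FiniteField.card F p
  rw [Nat.card_eq_fintype_card, Fintype.card_pi_const, hk, ← pow_mul]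
  exact dvd_pow_self p (Nat.mul_ne_zero k.pos.ne' hn)

/-- a `p`-group of matrices over a finite field of characteristic `p` fixes a non-zero vector -/
theorem exists_fixed_vec (hn : n ≠ 0) {Γ : Type*} [Group Γ] (f : Γ →* GL (Fin n) F)
    (S : Subgroup Γ) (hS : IsPGroup p S) :
    ∃ w : Fin n → F, w ≠ 0 ∧ ∀ s ∈ S, (f s).1 *ᵥ w = w := by
  letI : MulAction ↥S (Fin n → F) :=
    { smul := fun s w => (f s.1).1 *ᵥ w
      one_smul := fun w => by
        show (f ((1 : ↥S) : Γ)).1 *ᵥ w = w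
        rw [Subgroup.coe_one, map_one, Units.val_one, Matrix.one_mulVec]
      mul_smul := fun s s' w => by
        show (f ((s * s' : ↥S) : Γ)).1 *ᵥ w = (f s.1).1 *ᵥ ((f s'.1).1 *ᵥ w)
        rw [Subgroup.coe_mul, map_mul, Units.val_mul, Matrix.mulVec_mulVec] }
  have h0 : (0 : Fin n → F) ∈ MulAction.fixedPoints ↥S (Fin n → F) :=
    fun s => Matrix.mulVec_zero _
  obtain ⟨b, hb, hne⟩ := hS.exists_fixed_point_of_prime_dvd_card_of_fixed_point (Fin n → F)
    (p_dvd_card_vec hn) h0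
  exact ⟨b, Ne.symm hne, fun s hs => hb ⟨s, hs⟩⟩

/-- a `p`-group of matrices over a finite field of characteristic `p` fixes a non-zero row
vector -/
theorem exists_fixed_row (hn : n ≠ 0) {Γ : Type*} [Group Γ] (f : Γ →* GL (Fin n) F)
    (S : Subgroup Γ) (hS : IsPGroup p S) :
    ∃ w : Fin n → F, w ≠ 0 ∧ ∀ s ∈ S, w ᵥ* (f s).1 = w := by
  letI : MulAction ↥S (Fin n → F) :=
    { smul := fun s w => w ᵥ* (f s.1⁻¹).1
      one_smul := fun w => by
        show w ᵥ* (f (((1 : ↥S) : Γ))⁻¹).1 = w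
        rw [Subgroup.coe_one, inv_one, map_one, Units.val_one, Matrix.vecMul_one]
      mul_smul := fun s s' w => by
        show w ᵥ* (f (((s * s' : ↥S) : Γ))⁻¹).1 = (w ᵥ* (f s'.1⁻¹).1) ᵥ* (f s.1⁻¹).1
        rw [Subgroup.coe_mul, _root_.mul_inv_rev, map_mul, Units.val_mul, Matrix.vecMul_vecMul] }
  have h0 : (0 : Fin n → F) ∈ MulAction.fixedPoints ↥S (Fin n → F) :=
    fun s => Matrix.zero_vecMul _
  obtain ⟨b, hb, hne⟩ := hS.exists_fixed_point_of_prime_dvd_card_of_fixed_point (Fin n → F)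
    (p_dvd_card_vec hn) h0
  refine ⟨b, Ne.symm hne, fun s hs => ?_⟩
  have := hb ⟨s⁻¹, S.inv_mem hs⟩
  have e : b ᵥ* (f ((s⁻¹)⁻¹)).1 = b := this
  rwa [inv_inv] at e

/-- in a finite nilpotent group, the `p`-elements lie in a normal `p`-subgroup -/
theorem exists_normal_pgroup {Γ : Type*} [Group Γ] [Finite Γ] [Group.IsNilpotent Γ] :
    ∃ S : Subgroup Γ, S.Normal ∧ IsPGroup p S ∧ ∀ (g : Γ) (k : ℕ), g ^ p ^ k = 1 → g ∈ S := by
  obtain ⟨S⟩ : Nonempty (Sylow p Γ) := inferInstance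
  have hnorm : ∀ (q : ℕ) (hq : Fact q.Prime) (T : Sylow q Γ), (T : Subgroup Γ).Normal :=
    (Group.isNilpotent_of_finite_tfae.out 0 3 rfl rfl).mp ‹_›
  have hSn : (S : Subgroup Γ).Normal := hnorm p inferInstance S
  refine ⟨S, hSn, S.isPGroup', ?_⟩
  intro g k hg
  have hz : IsPGroup p (Subgroup.zpowers g) := Cfsg.Agent.Lib.Helper69.isPGroup_zpowers_of_pow p g k hg
  obtain ⟨Q, hQ⟩ := hz.exists_le_sylow
  haveI := Sylow.unique_of_normal S hSn
  have hQS : Q = S := Subsingleton.elim _ _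
  exact hQS ▸ hQ (Subgroup.mem_zpowers g)

/-- **fixed line lemma**: a nilpotent linear group containing a `p`-element whose fixed vectors
form the line `F v₀` stabilizes that line -/
theorem fixed_line {Γ : Type*} [Group Γ] [Finite Γ] [Group.IsNilpotent Γ]
    (f : Γ →* GL (Fin n) F) {g : Γ} {k : ℕ} (hg : g ^ p ^ k = 1) {v₀ : Fin n → F} (hv₀ : v₀ ≠ 0)
    (hfix : ∀ w : Fin n → F, (f g).1 *ᵥ w = w → ∃ c : F, w = c • v₀) (h : Γ) :
    ∃ μ : F, (f h).1 *ᵥ v₀ = μ • v₀ := by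
  have hn : n ≠ 0 := by
    rintro rfl
    apply hv₀
    ext i
    exact i.elim0
  obtain ⟨S, hSn, hSp, hSall⟩ := exists_normal_pgroup (p := p) (Γ := Γ)
  have hgS : g ∈ S := hSall g k hg
  obtain ⟨w, hw0, hw⟩ := exists_fixed_vec hn f S hSp
  obtain ⟨c, hc⟩ := hfix w (hw g hgS)
  have hc0 : c ≠ 0 := by
    rintro rfl
    rw [zero_smul] at hc
    exact hw0 hc
  have hv₀fix : ∀ s ∈ S, (f s).1 *ᵥ v₀ = v₀ := by
    intro s hs
    have h1 := hw s hs
    rw [hc, Matrix.mulVec_smul] at h1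
    exact smul_right_injective _ hc0 h1
  have hconj : h⁻¹ * g * h ∈ S := by
    have := hSn.conj_mem g hgS h⁻¹
    simpa using this
  have e : g * h = h * (h⁻¹ * g * h) := by group
  have h2 : (f g).1 *ᵥ ((f h).1 *ᵥ v₀) = (f h).1 *ᵥ v₀ := by
    calc (f g).1 *ᵥ ((f h).1 *ᵥ v₀) = ((f g).1 * (f h).1) *ᵥ v₀ := by
          rw [Matrix.mulVec_mulVec]
      _ = (f (g * h)).1 *ᵥ v₀ := by rw [map_mul, Units.val_mul]
      _ = (f (h * (h⁻¹ * g * h))).1 *ᵥ v₀ := by rw [← e]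
      _ = ((f h).1 * (f (h⁻¹ * g * h)).1) *ᵥ v₀ := by rw [map_mul, Units.val_mul]
      _ = (f h).1 *ᵥ ((f (h⁻¹ * g * h)).1 *ᵥ v₀) := by rw [Matrix.mulVec_mulVec]
      _ = (f h).1 *ᵥ v₀ := by rw [hv₀fix _ hconj]
  exact hfix _ h2

/-- two `p`-elements of a nilpotent linear group have a common non-zero fixed row vector -/
theorem common_fixed_row (hn : n ≠ 0) {Γ : Type*} [Group Γ] [Finite Γ] [Group.IsNilpotent Γ]
    (f : Γ →* GL (Fin n) F) {g₁ g₂ : Γ} {k : ℕ} (h1 : g₁ ^ p ^ k = 1) (h2 : g₂ ^ p ^ k = 1) :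
    ∃ w : Fin n → F, w ≠ 0 ∧ w ᵥ* (f g₁).1 = w ∧ w ᵥ* (f g₂).1 = w := by
  obtain ⟨S, -, hSp, hSall⟩ := exists_normal_pgroup (p := p) (Γ := Γ)
  obtain ⟨w, hw0, hw⟩ := exists_fixed_row hn f S hSp
  exact ⟨w, hw0, hw g₁ (hSall g₁ k h1), hw g₂ (hSall g₂ k h2)⟩

end Lin

section Proj

variable {F : Type*} [Field F] {n : ℕ}

/-- central elements of `GL_n` act as scalars -/
theorem center_scalar {z : GL (Fin n) F} (hz : z ∈ Subgroup.center (GL (Fin n) F)) :
    ∃ μ : F, ∀ v : Fin n → F, z.1 *ᵥ v = μ • v := by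
  rw [Matrix.GeneralLinearGroup.center_eq_range_scalar] at hz
  obtain ⟨u, rfl⟩ := hz
  refine ⟨(u : F), fun v => ?_⟩
  rw [Matrix.GeneralLinearGroup.coe_scalar]
  ext i
  simp [Matrix.mulVec_diagonal]

/-- the stabilizer in `GL_n` of the line spanned by a non-zero vector -/
def lineStab (v : Fin n → F) (hv : v ≠ 0) : Subgroup (GL (Fin n) F) where
  carrier := {g | ∃ μ : F, g.1 *ᵥ v = μ • v}
  one_mem' := ⟨1, by simp⟩
  mul_mem' := by
    rintro a b ⟨μ, hμ⟩ ⟨ν, hν⟩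
    refine ⟨ν * μ, ?_⟩
    rw [Units.val_mul, ← Matrix.mulVec_mulVec, hν, Matrix.mulVec_smul, hμ, smul_smul]
  inv_mem' := by
    rintro a ⟨μ, hμ⟩
    have e1 : (a⁻¹).1 *ᵥ (a.1 *ᵥ v) = v := by
      rw [Matrix.mulVec_mulVec, ← Units.val_mul, inv_mul_cancel, Units.val_one, Matrix.one_mulVec]
    have hμ0 : μ ≠ 0 := by
      rintro rfl
      rw [zero_smul] at hμ
      apply hv
      rw [hμ, Matrix.mulVec_zero] at e1
      exact e1.symm
    refine ⟨μ⁻¹, ?_⟩
    rw [hμ, Matrix.mulVec_smul] at e1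
    have e2 := congrArg (fun u => μ⁻¹ • u) e1
    simp only [smul_smul, inv_mul_cancel₀ hμ0, one_smul] at e2
    exact e2

theorem mem_lineStab {v : Fin n → F} {hv : v ≠ 0} {g : GL (Fin n) F} :
    g ∈ lineStab v hv ↔ ∃ μ : F, g.1 *ᵥ v = μ • v := Iff.rfl

theorem center_le_lineStab (v : Fin n → F) (hv : v ≠ 0) :
    Subgroup.center (GL (Fin n) F) ≤ lineStab v hv := by
  intro z hz
  obtain ⟨μ, hμ⟩ := center_scalar hz
  exact ⟨μ, hμ v⟩

/-- the full preimage in `GL_n` of a subgroup of a subgroup `G` of `PGL_n` -/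
def lift (G : Subgroup (GL (Fin n) F ⧸ Subgroup.center (GL (Fin n) F))) (A : Subgroup ↥G) :
    Subgroup (GL (Fin n) F) :=
  (A.map G.subtype).comap (QuotientGroup.mk' (Subgroup.center (GL (Fin n) F)))

theorem mem_lift {G : Subgroup (GL (Fin n) F ⧸ Subgroup.center (GL (Fin n) F))}
    {A : Subgroup ↥G} {g : GL (Fin n) F}
    (hg : (g : GL (Fin n) F ⧸ Subgroup.center (GL (Fin n) F)) ∈ G) :
    g ∈ lift G A ↔ (⟨(g : GL (Fin n) F ⧸ Subgroup.center (GL (Fin n) F)), hg⟩ : ↥G) ∈ A := by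
  constructor
  · rintro ⟨a, ha, e⟩
    have : a = ⟨(g : GL (Fin n) F ⧸ Subgroup.center (GL (Fin n) F)), hg⟩ := Subtype.ext e
    exact this ▸ ha
  · intro h
    exact ⟨_, h, rfl⟩

theorem lift_nilpotent (G : Subgroup (GL (Fin n) F ⧸ Subgroup.center (GL (Fin n) F)))
    (A : Subgroup ↥G) [Group.IsNilpotent ↥A] : Group.IsNilpotent ↥(lift G A) := by
  haveI : Group.IsNilpotent ↥(A.map G.subtype) :=
    nilpotent_of_surjective (G.subtype.subgroupMap A) (MonoidHom.subgroupMap_surjective _ _)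
  apply nilpotent_comap
  rw [QuotientGroup.ker_mk']

/-- the subgroup of `G` stabilizing a line -/
def lineStabG (G : Subgroup (GL (Fin n) F ⧸ Subgroup.center (GL (Fin n) F)))
    (v : Fin n → F) (hv : v ≠ 0) : Subgroup ↥G :=
  ((lineStab v hv).map (QuotientGroup.mk' (Subgroup.center (GL (Fin n) F)))).subgroupOf G

theorem mem_lineStabG {G : Subgroup (GL (Fin n) F ⧸ Subgroup.center (GL (Fin n) F))}
    {v : Fin n → F} {hv : v ≠ 0} {g : GL (Fin n) F}
    (hg : (g : GL (Fin n) F ⧸ Subgroup.center (GL (Fin n) F)) ∈ G) :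
    (⟨(g : GL (Fin n) F ⧸ Subgroup.center (GL (Fin n) F)), hg⟩ : ↥G) ∈ lineStabG G v hv ↔
      ∃ μ : F, g.1 *ᵥ v = μ • v := by
  unfold lineStabG
  rw [Subgroup.mem_subgroupOf]
  exact Cfsg.Agent.Lib.Helper69.MaxCent.mk_mem_map (center_le_lineStab v hv)

end Proj

end Cfsg.Agent.Lib.Helper69.PGLC
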