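import Mathlib
import Cfsg.Agent.Lib.Helper69.PGLCoverA

set_option autoImplicit false
open Cfsg
open scoped commutatorElement

/-! Nilpotent minimal covers of groups between `PSL_n(q)` and `PGL_n(q)`: the regular unipotent
element and the case `n ≥ 3` (helper69). -/

namespace Cfsg.Agent.Lib.Helper69.PGLC

open Matrix

section Shift

variable {F : Type*} [Field F] {n : ℕ}

/-- the nilpotent shift matrix `e_j ↦ e_{j-1}` -/
def shift (F : Type*) [Field F] (n : ℕ) : Matrix (Fin n) (Fin n) F :=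
  Matrix.of fun i j => if (j : ℕ) = i + 1 then 1 else 0

theorem shift_apply (i j : Fin n) : shift F n i j = if (j : ℕ) = i + 1 then 1 else 0 := rfl

theorem shift_mulVec (w : Fin n → F) (i : Fin n) (h : (i : ℕ) + 1 < n) :
    (shift F n *ᵥ w) i = w ⟨i + 1, h⟩ := by
  show (fun j => shift F n i j) ⬝ᵥ w = _
  rw [dotProduct, Finset.sum_eq_single ⟨i + 1, h⟩]
  · simp [shift_apply]
  · intro b _ hb
    rw [shift_apply, if_neg, zero_mul]
    intro hb'
    exact hb (Fin.ext hb')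
  · intro h'
    exact absurd (Finset.mem_univ _) h'

theorem shift_vecMul (w : Fin n → F) (i : Fin n) (h : (i : ℕ) + 1 < n) :
    (w ᵥ* shift F n) ⟨i + 1, h⟩ = w i := by
  show w ⬝ᵥ (fun l => shift F n l ⟨i + 1, h⟩) = _
  rw [dotProduct, Finset.sum_eq_single i]
  · simp [shift_apply]
  · intro b _ hb
    rw [shift_apply, if_neg, mul_zero]
    intro hb'
    apply hb
    apply Fin.ext
    simp only at hb'
    omega
  · intro h'
    exact absurd (Finset.mem_univ _) h'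

theorem shift_upper : (shift F n).BlockTriangular id := by
  intro i j hij
  simp only [id] at hij
  rw [shift_apply, if_neg]
  intro h
  have := Fin.lt_def.mp hij
  omega

theorem shift_pow_eq_zero : shift F n ^ n = 0 := by
  have h1 : (shift F n).charpoly = Polynomial.X ^ n := by
    rw [Matrix.charpoly_of_isUpperTriangular _ shift_upper]
    have : ∀ i : Fin n,
        (Polynomial.X - Polynomial.C (shift F n i i) : Polynomial F) = Polynomial.X := by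
      intro i
      rw [shift_apply, if_neg (by omega), map_zero, sub_zero]
    simp [this]
  have h2 := Matrix.aeval_self_charpoly (shift F n)
  rw [h1] at h2
  simpa using h2

theorem regM_det : (1 + shift F n).det = 1 := by
  have hT : (1 + shift F n).BlockTriangular id := by
    intro i j hij
    simp only [id] at hij
    rw [Matrix.add_apply, Matrix.one_apply_ne (ne_of_gt hij), shift_apply, if_neg, add_zero]
    intro h
    have := Fin.lt_def.mp hij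
    omega
  rw [Matrix.det_of_isUpperTriangular hT]
  apply Finset.prod_eq_one
  intro i _
  rw [Matrix.add_apply, Matrix.one_apply_eq, shift_apply, if_neg, add_zero]
  omega

theorem regM_pow (p : ℕ) [Fact p.Prime] [CharP F p] (hn : n ≠ 0) :
    (1 + shift F n) ^ p ^ n = 1 := by
  haveI : Nonempty (Fin n) := ⟨⟨0, Nat.pos_of_ne_zero hn⟩⟩
  haveI : CharP (Matrix (Fin n) (Fin n) F) p := Matrix.charP p
  rw [add_pow_char_pow_of_commute p n (Commute.one_left _), one_pow]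
  have : shift F n ^ p ^ n = 0 := by
    have hle : n ≤ p ^ n := (Nat.lt_pow_self (Fact.out : p.Prime).one_lt).le
    rw [← Nat.sub_add_cancel hle, pow_add, shift_pow_eq_zero, mul_zero]
  rw [this, add_zero]

theorem regM_fix (hn : 0 < n) (w : Fin n → F) (h : (1 + shift F n) *ᵥ w = w) :
    ∃ c : F, w = c • Pi.single (⟨0, hn⟩ : Fin n) (1 : F) := by
  have h0 : shift F n *ᵥ w = 0 := by
    rw [Matrix.add_mulVec, Matrix.one_mulVec] at h
    exact add_eq_left.mp h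
  refine ⟨w ⟨0, hn⟩, ?_⟩
  ext j
  by_cases hj : (j : ℕ) = 0
  · have : j = ⟨0, hn⟩ := Fin.ext hj
    subst this
    simp
  · have hlt : (j : ℕ) - 1 + 1 < n := by omega
    have h1 := shift_mulVec w ⟨(j : ℕ) - 1, by omega⟩ hlt
    rw [h0] at h1
    have e : (⟨(j : ℕ) - 1 + 1, hlt⟩ : Fin n) = j := Fin.ext (by simp only; omega)
    rw [e] at h1
    rw [← h1]
    have hne : j ≠ ⟨0, hn⟩ := fun hh => hj (by rw [hh])
    simp [Pi.single_apply, hne]

theorem regM_fix_row (hn : 0 < n) (w : Fin n → F) (h : w ᵥ* (1 + shift F n) = w) :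
    ∃ c : F, w = c • Pi.single (⟨n - 1, Nat.sub_lt hn Nat.one_pos⟩ : Fin n) (1 : F) := by
  have h0 : w ᵥ* shift F n = 0 := by
    rw [Matrix.vecMul_add, Matrix.vecMul_one] at h
    exact add_eq_left.mp h
  have hlast : n - 1 < n := Nat.sub_lt hn Nat.one_pos
  refine ⟨w ⟨n - 1, hlast⟩, ?_⟩
  ext j
  by_cases hj : (j : ℕ) = n - 1
  · have : j = ⟨n - 1, hlast⟩ := Fin.ext hj
    rw [this]
    simp
  · have hlt : (j : ℕ) + 1 < n := by omega
    have h1 := shift_vecMul w j hlt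
    rw [h0] at h1
    rw [← h1]
    have hne : j ≠ ⟨n - 1, hlast⟩ := fun hh => hj (by rw [hh])
    simp [Pi.single_apply, hne]

/-- the regular unipotent element of `SL_n` -/
def regU (F : Type*) [Field F] (n : ℕ) : Matrix.SpecialLinearGroup (Fin n) F :=
  ⟨1 + shift F n, regM_det⟩

theorem regU_pow (p : ℕ) [Fact p.Prime] [CharP F p] (hn : n ≠ 0) :
    (regU F n) ^ p ^ n = 1 := by
  apply Subtype.ext
  rw [Matrix.SpecialLinearGroup.coe_pow]
  exact regM_pow p hn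

end Shift

section Conj

variable {F : Type*} [Field F] {n : ℕ}

theorem GL_mulVec_inj (P : GL (Fin n) F) {x y : Fin n → F} (h : P.1 *ᵥ x = P.1 *ᵥ y) : x = y := by
  have e : ∀ z : Fin n → F, (P⁻¹).1 *ᵥ (P.1 *ᵥ z) = z := by
    intro z
    rw [Matrix.mulVec_mulVec, ← Units.val_mul, inv_mul_cancel, Units.val_one, Matrix.one_mulVec]
  rw [← e x, ← e y, h]

theorem GL_vecMul_inj (P : GL (Fin n) F) {x y : Fin n → F} (h : x ᵥ* P.1 = y ᵥ* P.1) : x = y := by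
  have e : ∀ z : Fin n → F, (z ᵥ* P.1) ᵥ* (P⁻¹).1 = z := by
    intro z
    rw [Matrix.vecMul_vecMul, ← Units.val_mul, mul_inv_cancel, Units.val_one, Matrix.vecMul_one]
  rw [← e x, ← e y, h]

/-- fixed vectors of a conjugate -/
theorem conj_fix {g P : GL (Fin n) F} {v₀ v₀' : Fin n → F}
    (hfix : ∀ w : Fin n → F, g.1 *ᵥ w = w → ∃ c : F, w = c • v₀) (hP : P.1 *ᵥ v₀' = v₀)
    (w : Fin n → F) (hw : (P⁻¹ * g * P).1 *ᵥ w = w) : ∃ c : F, w = c • v₀' := by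
  have h1 : g.1 *ᵥ (P.1 *ᵥ w) = P.1 *ᵥ w := by
    have h2 : P.1 *ᵥ ((P⁻¹ * g * P).1 *ᵥ w) = P.1 *ᵥ w := congrArg (fun x => P.1 *ᵥ x) hw
    rw [Matrix.mulVec_mulVec, ← Units.val_mul] at h2
    have e : P * (P⁻¹ * g * P) = g * P := by group
    rw [e, Units.val_mul, ← Matrix.mulVec_mulVec] at h2
    exact h2
  obtain ⟨c, hc⟩ := hfix _ h1
  refine ⟨c, GL_mulVec_inj P ?_⟩
  rw [hc, Matrix.mulVec_smul, hP]

/-- fixed row vectors of a conjugate -/
theorem conj_fix_row {g P : GL (Fin n) F} {φ₀ : Fin n → F}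
    (hfix : ∀ w : Fin n → F, w ᵥ* g.1 = w → ∃ c : F, w = c • φ₀)
    (w : Fin n → F) (hw : w ᵥ* (P⁻¹ * g * P).1 = w) : ∃ c : F, w = c • (φ₀ ᵥ* P.1) := by
  have h1 : (w ᵥ* (P⁻¹).1) ᵥ* g.1 = w ᵥ* (P⁻¹).1 := by
    have h2 : (w ᵥ* (P⁻¹ * g * P).1) ᵥ* (P⁻¹).1 = w ᵥ* (P⁻¹).1 :=
      congrArg (fun x => x ᵥ* (P⁻¹).1) hw
    rw [Matrix.vecMul_vecMul, ← Units.val_mul] at h2
    have e : P⁻¹ * g * P * P⁻¹ = P⁻¹ * g := by group
    rw [e, Units.val_mul, ← Matrix.vecMul_vecMul] at h2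
    exact h2
  obtain ⟨c, hc⟩ := hfix _ h1
  refine ⟨c, GL_vecMul_inj P⁻¹ ?_⟩
  rw [hc, Matrix.smul_vecMul, Matrix.vecMul_vecMul, ← Units.val_mul, mul_inv_cancel,
    Units.val_one, Matrix.vecMul_one]

end Conj

section PartI

variable {F : Type*} [Field F] [Fintype F] {p : ℕ} [Fact p.Prime] [CharP F p] {n : ℕ}

/-- two `p`-elements with the same fixed line in a group with a nilpotent minimal cover, the
stabilizer of the line being proper, have a common fixed row vector -/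
theorem common_row_of_cover {G : Subgroup (GL (Fin n) F ⧸ Subgroup.center (GL (Fin n) F))}
    {𝓐 : Finset (Subgroup ↥G)} (h𝓐 : IsNilMinCover 𝓐) {g₁ g₂ : GL (Fin n) F}
    (hg₁ : (g₁ : GL (Fin n) F ⧸ Subgroup.center (GL (Fin n) F)) ∈ G)
    (hg₂ : (g₂ : GL (Fin n) F ⧸ Subgroup.center (GL (Fin n) F)) ∈ G) {k : ℕ}
    (h1 : g₁ ^ p ^ k = 1) (h2 : g₂ ^ p ^ k = 1) {v₀ : Fin n → F} (hv₀ : v₀ ≠ 0)
    (hf1 : ∀ w : Fin n → F, g₁.1 *ᵥ w = w → ∃ c : F, w = c • v₀)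
    (hf2 : ∀ w : Fin n → F, g₂.1 *ᵥ w = w → ∃ c : F, w = c • v₀)
    (hM : lineStabG G v₀ hv₀ ≠ ⊤) :
    ∃ w : Fin n → F, w ≠ 0 ∧ w ᵥ* g₁.1 = w ∧ w ᵥ* g₂.1 = w := by
  have hn : n ≠ 0 := by
    rintro rfl
    apply hv₀
    ext i
    exact i.elim0
  have key : ∀ (g₀ : GL (Fin n) F)
      (hg₀ : (g₀ : GL (Fin n) F ⧸ Subgroup.center (GL (Fin n) F)) ∈ G),
      g₀ ^ p ^ k = 1 → (∀ w : Fin n → F, g₀.1 *ᵥ w = w → ∃ c : F, w = c • v₀) →
      ∀ A ∈ 𝓐, (⟨(g₀ : GL (Fin n) F ⧸ Subgroup.center (GL (Fin n) F)), hg₀⟩ : ↥G) ∈ A →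
        A ≤ lineStabG G v₀ hv₀ := by
    intro g₀ hg₀ hpow hfix A hA hmem y hy
    obtain ⟨g, hg⟩ := QuotientGroup.mk_surjective y.1
    have hgG : (g : GL (Fin n) F ⧸ Subgroup.center (GL (Fin n) F)) ∈ G := hg ▸ y.2
    have hy' : y = ⟨(g : GL (Fin n) F ⧸ Subgroup.center (GL (Fin n) F)), hgG⟩ :=
      Subtype.ext hg.symm
    rw [hy']
    rw [mem_lineStabG]
    haveI : Group.IsNilpotent ↥A := h𝓐.2.2 A hA
    haveI : Group.IsNilpotent ↥(lift G A) := lift_nilpotent G A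
    have hgl : g ∈ lift G A := (mem_lift hgG).mpr (hy' ▸ hy)
    have hg₀l : g₀ ∈ lift G A := (mem_lift hg₀).mpr hmem
    have hpow' : (⟨g₀, hg₀l⟩ : ↥(lift G A)) ^ p ^ k = 1 := Subtype.ext (by simpa using hpow)
    exact fixed_line (p := p) (lift G A).subtype hpow' hv₀ hfix ⟨g, hgl⟩
  obtain ⟨A₁, hA₁, hm₁⟩ := h𝓐.1.2 ⟨_, hg₁⟩
  obtain ⟨A₂, hA₂, hm₂⟩ := h𝓐.1.2 ⟨_, hg₂⟩
  have hle₁ := key g₁ hg₁ h1 hf1 A₁ hA₁ hm₁
  have hle₂ := key g₂ hg₂ h2 hf2 A₂ hA₂ hm₂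
  have hEq : A₁ = A₂ := nilcover_unique_le h𝓐 _ hM hA₁ hA₂ hle₁ hle₂
  subst hEq
  haveI : Group.IsNilpotent ↥A₁ := h𝓐.2.2 A₁ hA₁
  haveI : Group.IsNilpotent ↥(lift G A₁) := lift_nilpotent G A₁
  have hl₁ : g₁ ∈ lift G A₁ := (mem_lift hg₁).mpr hm₁
  have hl₂ : g₂ ∈ lift G A₁ := (mem_lift hg₂).mpr hm₂
  have hp₁ : (⟨g₁, hl₁⟩ : ↥(lift G A₁)) ^ p ^ k = 1 := Subtype.ext (by simpa using h1)
  have hp₂ : (⟨g₂, hl₂⟩ : ↥(lift G A₁)) ^ p ^ k = 1 := Subtype.ext (by simpa using h2)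
  exact common_fixed_row (p := p) hn (lift G A₁).subtype hp₁ hp₂

end PartI

end Cfsg.Agent.Lib.Helper69.PGLC
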