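import Mathlib
import Cfsg.Agent.Lib.Helper69.PGLCoverB

set_option autoImplicit false
open Cfsg
open scoped commutatorElement

/-! Nilpotent minimal covers of groups between `PSL_n(q)` and `PGL_n(q)`: the case `n ≥ 3`
(helper69). -/

namespace Cfsg.Agent.Lib.Helper69.PGLC

open Matrix

theorem transvection_mulVec_single {F : Type*} [Field F] {n : ℕ} (b a z : Fin n) (i : Fin n) :
    ((Matrix.transvection b a (1 : F)) *ᵥ Pi.single z (1 : F)) i =
      (if i = z then 1 else 0) + (if b = i ∧ a = z then 1 else 0) := by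
  rw [Matrix.mulVec_single_one, Matrix.col_apply, Matrix.transvection, Matrix.add_apply,
    Matrix.one_apply, Matrix.single_apply]

theorem single_vecMul_transvection {F : Type*} [Field F] {n : ℕ} (b a z : Fin n) (j : Fin n) :
    (Pi.single z (1 : F) ᵥ* (Matrix.transvection b a (1 : F))) j =
      (if z = j then 1 else 0) + (if b = z ∧ a = j then 1 else 0) := by
  rw [Matrix.single_one_vecMul, Matrix.row_apply, Matrix.transvection, Matrix.add_apply,
    Matrix.one_apply, Matrix.single_apply]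

/-- **Part I**: no nilpotent minimal cover when `n ≥ 3` -/
theorem partI {F : Type*} [Field F] [Fintype F] (n : ℕ) (hn : 3 ≤ n)
    (G : Subgroup (GL (Fin n) F ⧸ Subgroup.center (GL (Fin n) F)))
    (hG : ((Matrix.SpecialLinearGroup.toGL :
      Matrix.SpecialLinearGroup (Fin n) F →* GL (Fin n) F).range).map
      (QuotientGroup.mk' (Subgroup.center (GL (Fin n) F))) ≤ G)
    (𝓐 : Finset (Subgroup ↥G)) (h𝓐 : IsNilMinCover 𝓐) : False := by
  obtain ⟨p, hp⟩ := CharP.exists F
  haveI : Fact p.Prime := ⟨CharP.char_is_prime F p⟩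
  have hSL : ∀ s : Matrix.SpecialLinearGroup (Fin n) F,
      ((Matrix.SpecialLinearGroup.toGL s : GL (Fin n) F) :
        GL (Fin n) F ⧸ Subgroup.center (GL (Fin n) F)) ∈ G :=
    fun s => hG (Subgroup.mem_map_of_mem _ ⟨s, rfl⟩)
  have hn0 : 0 < n := by omega
  have hn1 : n ≠ 0 := by omega
  have ha' : n - 2 < n := by omega
  have hb' : n - 1 < n := Nat.sub_lt hn0 Nat.one_pos
  have ho' : 1 < n := by omega
  obtain ⟨a, ha⟩ : ∃ a : Fin n, a = ⟨n - 2, ha'⟩ := ⟨_, rfl⟩
  obtain ⟨b, hb⟩ : ∃ b : Fin n, b = ⟨n - 1, hb'⟩ := ⟨_, rfl⟩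
  obtain ⟨z, hz⟩ : ∃ z : Fin n, z = ⟨0, hn0⟩ := ⟨_, rfl⟩
  obtain ⟨o, ho⟩ : ∃ o : Fin n, o = ⟨1, ho'⟩ := ⟨_, rfl⟩
  have hba : b ≠ a := by
    intro h
    have := congrArg Fin.val h
    rw [ha, hb] at this
    simp only at this
    omega
  have haz : a ≠ z := by
    intro h
    have := congrArg Fin.val h
    rw [ha, hz] at this
    simp only at this
    omega
  have hoz : o ≠ z := by
    intro h
    have := congrArg Fin.val h
    rw [ho, hz] at this
    simp only at this
    omega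
  obtain ⟨P, hP⟩ : ∃ P : Matrix.SpecialLinearGroup (Fin n) F, P.1 = Matrix.transvection b a 1 :=
    ⟨⟨Matrix.transvection b a 1, Matrix.det_transvection_of_ne b a hba 1⟩, rfl⟩
  obtain ⟨T, hT⟩ : ∃ T : Matrix.SpecialLinearGroup (Fin n) F, T.1 = Matrix.transvection o z 1 :=
    ⟨⟨Matrix.transvection o z 1, Matrix.det_transvection_of_ne o z hoz 1⟩, rfl⟩
  have hU : (regU F n) ^ p ^ n = 1 := regU_pow p hn1
  have hU2 : (P⁻¹ * regU F n * P) ^ p ^ n = 1 := by
    have e : P⁻¹ * regU F n * P = P⁻¹ * regU F n * (P⁻¹)⁻¹ := by rw [inv_inv]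
    rw [e, conj_pow, hU, mul_one, mul_inv_cancel]
  have h1 : (Matrix.SpecialLinearGroup.toGL (regU F n) : GL (Fin n) F) ^ p ^ n = 1 := by
    rw [← map_pow, hU, map_one]
  have h2 : (Matrix.SpecialLinearGroup.toGL (P⁻¹ * regU F n * P) : GL (Fin n) F) ^ p ^ n = 1 := by
    rw [← map_pow, hU2, map_one]
  have e2 : (Matrix.SpecialLinearGroup.toGL (P⁻¹ * regU F n * P) : GL (Fin n) F) =
      (Matrix.SpecialLinearGroup.toGL P)⁻¹ * Matrix.SpecialLinearGroup.toGL (regU F n) *
        Matrix.SpecialLinearGroup.toGL P := by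
    rw [map_mul, map_mul, map_inv]
  have hv₀ : (Pi.single z (1 : F) : Fin n → F) ≠ 0 := by
    intro h
    have := congrFun h z
    simp at this
  have hf1 : ∀ w : Fin n → F,
      (Matrix.SpecialLinearGroup.toGL (regU F n) : GL (Fin n) F).1 *ᵥ w = w →
        ∃ c : F, w = c • (Pi.single z (1 : F) : Fin n → F) := by
    intro w hw
    rw [hz]
    exact regM_fix hn0 w hw
  have hPz : (Matrix.SpecialLinearGroup.toGL P : GL (Fin n) F).1 *ᵥ (Pi.single z (1 : F)) =
      Pi.single z (1 : F) := by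
    ext i
    have e : (Matrix.SpecialLinearGroup.toGL P : GL (Fin n) F).1 = Matrix.transvection b a 1 := hP
    rw [e, transvection_mulVec_single, if_neg (fun h : b = i ∧ a = z => haz h.2), add_zero,
      Pi.single_apply]
  have hf2 : ∀ w : Fin n → F,
      (Matrix.SpecialLinearGroup.toGL (P⁻¹ * regU F n * P) : GL (Fin n) F).1 *ᵥ w = w →
        ∃ c : F, w = c • (Pi.single z (1 : F) : Fin n → F) := by
    intro w hw
    rw [e2] at hw
    exact conj_fix hf1 hPz w hw
  have hM : lineStabG G (Pi.single z (1 : F)) hv₀ ≠ ⊤ := by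
    intro htop
    have hmem : (⟨_, hSL T⟩ : ↥G) ∈ lineStabG G (Pi.single z (1 : F)) hv₀ :=
      htop ▸ Subgroup.mem_top _
    obtain ⟨μ, hμ⟩ := (mem_lineStabG (hSL T)).mp hmem
    have e : (Matrix.SpecialLinearGroup.toGL T : GL (Fin n) F).1 = Matrix.transvection o z 1 := hT
    have h3 := congrFun hμ o
    rw [e, transvection_mulVec_single, if_neg hoz, if_pos ⟨rfl, rfl⟩, Pi.smul_apply,
      Pi.single_apply, if_neg hoz, smul_zero, zero_add] at h3
    exact one_ne_zero h3
  obtain ⟨w, hw0, hw1, hw2⟩ := common_row_of_cover (p := p) h𝓐 (hSL (regU F n))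
    (hSL (P⁻¹ * regU F n * P)) h1 h2 hv₀ hf1 hf2 hM
  have hrow : ∀ w : Fin n → F,
      w ᵥ* (Matrix.SpecialLinearGroup.toGL (regU F n) : GL (Fin n) F).1 = w →
        ∃ c : F, w = c • (Pi.single b (1 : F) : Fin n → F) := by
    intro w hw
    rw [hb]
    exact regM_fix_row hn0 w hw
  obtain ⟨c, hc⟩ := hrow w hw1
  rw [e2] at hw2
  obtain ⟨c', hc'⟩ := conj_fix_row hrow w hw2
  have h4 := congrFun hc a
  have h5 := congrFun hc' a
  have e : (Matrix.SpecialLinearGroup.toGL P : GL (Fin n) F).1 = Matrix.transvection b a 1 := hP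
  rw [Pi.smul_apply, Pi.single_apply, if_neg (Ne.symm hba), smul_zero] at h4
  rw [Pi.smul_apply, e, single_vecMul_transvection, if_neg hba, if_pos ⟨rfl, rfl⟩, zero_add,
    smul_eq_mul, mul_one, h4] at h5
  apply hw0
  rw [hc', ← h5, zero_smul]

end Cfsg.Agent.Lib.Helper69.PGLC
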