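import Mathlib
import Cfsg.Agent.Lib.Helper69.PGLCoverB

set_option autoImplicit false
open Cfsg
open scoped commutatorElement

/-! Nilpotent minimal covers of groups between `PSL_2(q)` and `PGL_2(q)`: toolkit for `2 × 2`
matrices and the case `G ≠ PSL_2(q)` (helper69). -/

namespace Cfsg.Agent.Lib.Helper69.PGLC

open Matrix

section Two

variable {F : Type*} [Field F]

theorem vec2_ext {x y : Fin 2 → F} (h0 : x 0 = y 0) (h1 : x 1 = y 1) : x = y := by
  ext i
  fin_cases i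
  · exact h0
  · exact h1

theorem mat2_ext {A B : Matrix (Fin 2) (Fin 2) F} (h00 : A 0 0 = B 0 0) (h01 : A 0 1 = B 0 1)
    (h10 : A 1 0 = B 1 0) (h11 : A 1 1 = B 1 1) : A = B := by
  ext i j
  fin_cases i <;> fin_cases j
  · exact h00
  · exact h01
  · exact h10
  · exact h11

theorem mulVec2_zero (M : Matrix (Fin 2) (Fin 2) F) (w : Fin 2 → F) :
    (M *ᵥ w) 0 = M 0 0 * w 0 + M 0 1 * w 1 := by
  simp [Matrix.mulVec, dotProduct, Fin.sum_univ_two]

theorem mulVec2_one (M : Matrix (Fin 2) (Fin 2) F) (w : Fin 2 → F) :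
    (M *ᵥ w) 1 = M 1 0 * w 0 + M 1 1 * w 1 := by
  simp [Matrix.mulVec, dotProduct, Fin.sum_univ_two]

theorem mul2_apply (A B : Matrix (Fin 2) (Fin 2) F) (i j : Fin 2) :
    (A * B) i j = A i 0 * B 0 j + A i 1 * B 1 j := by
  rw [Matrix.mul_apply, Fin.sum_univ_two]

/-- the transvection along the vector `v` -/
def uv (v : Fin 2 → F) : Matrix.SpecialLinearGroup (Fin 2) F :=
  ⟨!![1 - v 0 * v 1, v 0 ^ 2; -(v 1 ^ 2), 1 + v 0 * v 1], by
    rw [Matrix.det_fin_two_of]; ring⟩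

theorem uv_coe (v : Fin 2 → F) :
    (uv v).1 = !![1 - v 0 * v 1, v 0 ^ 2; -(v 1 ^ 2), 1 + v 0 * v 1] := rfl

theorem uv_00 (v : Fin 2 → F) : (uv v).1 0 0 = 1 - v 0 * v 1 := rfl
theorem uv_01 (v : Fin 2 → F) : (uv v).1 0 1 = v 0 ^ 2 := rfl
theorem uv_10 (v : Fin 2 → F) : (uv v).1 1 0 = -(v 1 ^ 2) := rfl
theorem uv_11 (v : Fin 2 → F) : (uv v).1 1 1 = 1 + v 0 * v 1 := rfl

theorem uv_mulVec (v w : Fin 2 → F) :
    (uv v).1 *ᵥ w = w + (v 0 * w 1 - v 1 * w 0) • v := by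
  apply vec2_ext
  · rw [mulVec2_zero, uv_00, uv_01, Pi.add_apply, Pi.smul_apply, smul_eq_mul]
    ring
  · rw [mulVec2_one, uv_10, uv_11, Pi.add_apply, Pi.smul_apply, smul_eq_mul]
    ring

theorem uv_fix {v : Fin 2 → F} (hv : v ≠ 0) (w : Fin 2 → F) (h : (uv v).1 *ᵥ w = w) :
    ∃ c : F, w = c • v := by
  rw [uv_mulVec] at h
  have h1 : (v 0 * w 1 - v 1 * w 0) • v = 0 := add_eq_left.mp h
  have h2 : v 0 * w 1 - v 1 * w 0 = 0 := by
    rcases smul_eq_zero.mp h1 with h | h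
    · exact h
    · exact absurd h hv
  by_cases hv0 : v 0 = 0
  · have hv1 : v 1 ≠ 0 := by
      intro hv1
      apply hv
      exact vec2_ext hv0 hv1
    have hw0 : w 0 = 0 := by
      rw [hv0, zero_mul, zero_sub, neg_eq_zero] at h2
      exact (mul_eq_zero.mp h2).resolve_left hv1
    refine ⟨w 1 / v 1, vec2_ext ?_ ?_⟩
    · rw [Pi.smul_apply, smul_eq_mul, hv0, mul_zero, hw0]
    · rw [Pi.smul_apply, smul_eq_mul, div_mul_cancel₀ _ hv1]
  · refine ⟨w 0 / v 0, vec2_ext ?_ ?_⟩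
    · rw [Pi.smul_apply, smul_eq_mul, div_mul_cancel₀ _ hv0]
    · rw [Pi.smul_apply, smul_eq_mul]
      field_simp
      linear_combination h2

/-- if the transvection along `w` stabilizes the line of `v`, then `v` and `w` are parallel -/
theorem uv_stab {v w : Fin 2 → F} {μ : F} (h : (uv w).1 *ᵥ v = μ • v) :
    w 0 * v 1 - w 1 * v 0 = 0 := by
  rw [uv_mulVec] at h
  have h0 := congrFun h 0
  have h1 := congrFun h 1
  simp only [Pi.add_apply, Pi.smul_apply, smul_eq_mul] at h0 h1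
  have h2 : (w 0 * v 1 - w 1 * v 0) * (w 0 * v 1 - w 1 * v 0) = 0 := by
    linear_combination (v 1) * h0 - (v 0) * h1
  exact mul_self_eq_zero.mp h2

theorem uv_pow_coe (v : Fin 2 → F) (k : ℕ) :
    ((uv v) ^ k).1 = !![1 - k * (v 0 * v 1), k * v 0 ^ 2; -(k * v 1 ^ 2), 1 + k * (v 0 * v 1)] := by
  induction k with
  | zero =>
    rw [pow_zero, Matrix.SpecialLinearGroup.coe_one, Matrix.one_fin_two]
    simp
  | succ k ih =>
    rw [pow_succ, Matrix.SpecialLinearGroup.coe_mul, ih, uv_coe, Matrix.mul_fin_two]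
    push_cast
    apply mat2_ext
    · show _ = (1 : F) - (k + 1) * (v 0 * v 1)
      simp only [Matrix.of_apply, Matrix.cons_val', Matrix.cons_val_zero, Matrix.cons_val_fin_one]
      ring
    · show _ = ((k : F) + 1) * v 0 ^ 2
      simp only [Matrix.of_apply, Matrix.cons_val', Matrix.cons_val_zero, Matrix.cons_val_one,
        Matrix.cons_val_fin_one]
      ring
    · show _ = -(((k : F) + 1) * v 1 ^ 2)
      simp only [Matrix.of_apply, Matrix.cons_val', Matrix.cons_val_zero, Matrix.cons_val_one,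
        Matrix.cons_val_fin_one]
      ring
    · show _ = (1 : F) + (k + 1) * (v 0 * v 1)
      simp only [Matrix.of_apply, Matrix.cons_val', Matrix.cons_val_one,
        Matrix.cons_val_fin_one]
      ring

theorem uv_pow_char (p : ℕ) [CharP F p] (v : Fin 2 → F) : (uv v) ^ p = 1 := by
  apply Subtype.ext
  rw [uv_pow_coe, Matrix.SpecialLinearGroup.coe_one, Matrix.one_fin_two, CharP.cast_eq_zero F p]
  simp

theorem uv_pow_char' (p : ℕ) [CharP F p] (v : Fin 2 → F) : (uv v) ^ p ^ 1 = 1 := by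
  rw [pow_one]
  exact uv_pow_char p v

end Two

end Cfsg.Agent.Lib.Helper69.PGLC
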