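import Mathlib
import Cfsg.Agent.Lib.Helper69.PGLCoverD

set_option autoImplicit false
open Cfsg
open scoped commutatorElement

/-! Nilpotent minimal covers of groups between `PSL_2(q)` and `PGL_2(q)`: the case
`G ≠ PSL_2(q)` (helper69). -/

namespace Cfsg.Agent.Lib.Helper69.PGLC

open Matrix

section PartII

variable {F : Type*} [Field F]

theorem mat2_of_ext {a b c d a' b' c' d' : F} (h00 : a = a') (h01 : b = b') (h10 : c = c')
    (h11 : d = d') : (!![a, b; c, d] : Matrix (Fin 2) (Fin 2) F) = !![a', b'; c', d'] := by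
  rw [h00, h01, h10, h11]

/-- powers of an upper triangular `2 × 2` matrix with equal diagonal entries -/
theorem ut_pow (α β : F) (m : ℕ) :
    (!![α, β; 0, α] : Matrix (Fin 2) (Fin 2) F) ^ (m + 1) =
      !![α ^ (m + 1), ((m : F) + 1) * α ^ m * β; 0, α ^ (m + 1)] := by
  induction m with
  | zero => simp
  | succ m ih =>
    rw [pow_succ, ih, Matrix.mul_fin_two]
    push_cast
    apply mat2_of_ext <;> ring

theorem cent_u {Y U : Matrix (Fin 2) (Fin 2) F} (h00 : U 0 0 = 1) (h01 : U 0 1 = 1)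
    (h10 : U 1 0 = 0) (h11 : U 1 1 = 1) (h : Y * U = U * Y) : Y 1 0 = 0 ∧ Y 0 0 = Y 1 1 := by
  have e00 := congrFun (congrFun h 0) 0
  have e01 := congrFun (congrFun h 0) 1
  simp only [mul2_apply, h00, h01, h10, h11] at e00 e01
  constructor
  · linear_combination -e00
  · linear_combination e01

variable [Fintype F] {p : ℕ} [Fact p.Prime] [CharP F p]

theorem exists_ppow_root (e : ℕ) (α : F) : ∃ α' : F, α' ^ p ^ e = α := by
  have hinj : Function.Injective (iterateFrobenius F p e) := (iterateFrobenius F p e).injective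
  obtain ⟨α', h⟩ := Finite.surjective_of_injective hinj α
  exact ⟨α', by rw [← iterateFrobenius_def]; exact h⟩

theorem ppow_inj (e : ℕ) {x y : F} (h : x ^ p ^ e = y ^ p ^ e) : x = y := by
  have hinj : Function.Injective (iterateFrobenius F p e) := (iterateFrobenius F p e).injective
  apply hinj
  rw [iterateFrobenius_def, iterateFrobenius_def]
  exact h

end PartII

/-- a nilpotent subgroup of `GL_2` containing a conjugate of a transvection maps into
`PSL_2` -/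
theorem core_II {F : Type*} [Field F] [Fintype F] (p : ℕ) [Fact p.Prime] [CharP F p]
    {Â : Subgroup (GL (Fin 2) F)} [Group.IsNilpotent ↥Â] {g W : GL (Fin 2) F}
    (hg : g ∈ Â)
    (hW : W * g = Matrix.SpecialLinearGroup.toGL (uv (![1, 0] : Fin 2 → F)) * W)
    {h : GL (Fin 2) F} (hh : h ∈ Â) :
    (h : GL (Fin 2) F ⧸ Subgroup.center (GL (Fin 2) F)) ∈
      ((Matrix.SpecialLinearGroup.toGL :
        Matrix.SpecialLinearGroup (Fin 2) F →* GL (Fin 2) F).range).map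
      (QuotientGroup.mk' (Subgroup.center (GL (Fin 2) F))) := by
  have hp := (Fact.out : p.Prime)
  obtain ⟨u', hu'⟩ : ∃ u' : GL (Fin 2) F,
      u' = Matrix.SpecialLinearGroup.toGL (uv (![1, 0] : Fin 2 → F)) := ⟨_, rfl⟩
  rw [← hu'] at hW
  have hu'p : u' ^ p = 1 := by rw [hu', ← map_pow, uv_pow_char p, map_one]
  have hgconj : g = W⁻¹ * u' * (W⁻¹)⁻¹ := by
    have : W⁻¹ * u' * (W⁻¹)⁻¹ = W⁻¹ * (u' * W) := by group
    rw [this, ← hW]
    group
  have hgp : g ^ p = 1 := by rw [hgconj, conj_pow, hu'p, mul_one, mul_inv_cancel]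
  obtain ⟨e, m, hm, hord⟩ := Nat.exists_eq_pow_mul_and_not_dvd (orderOf_pos h).ne' p hp.ne_one
  have hXm : (h ^ p ^ e) ^ m = 1 := by rw [← pow_mul, ← hord, pow_orderOf_eq_one]
  have hcop : m.Coprime p := ((Nat.Prime.coprime_iff_not_dvd hp).mpr hm).symm
  obtain ⟨X, hX⟩ : ∃ X : GL (Fin 2) F, X = h ^ p ^ e := ⟨_, rfl⟩
  rw [← hX] at hXm
  have hXÂ : X ∈ Â := hX ▸ Â.pow_mem hh _
  have hXg : X * g = g * X := by
    have hx : (⟨X, hXÂ⟩ : ↥Â) ^ m = 1 := Subtype.ext (by simpa using hXm)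
    have hy : (⟨g, hg⟩ : ↥Â) ^ p = 1 := Subtype.ext (by simpa using hgp)
    have := comm_of_coprime hcop hx hy
    exact congrArg Subtype.val this
  obtain ⟨Y, hY⟩ : ∃ Y : GL (Fin 2) F, Y = W * X * W⁻¹ := ⟨_, rfl⟩
  have hYu : Y * u' = u' * Y := by
    have h1 : u' = W * g * W⁻¹ := by rw [hW]; group
    rw [h1, hY]
    have h2 : W * X * W⁻¹ * (W * g * W⁻¹) = W * (X * g) * W⁻¹ := by group
    have h3 : W * g * W⁻¹ * (W * X * W⁻¹) = W * (g * X) * W⁻¹ := by group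
    rw [h2, h3, hXg]
  have hYm : Y ^ m = 1 := by rw [hY, conj_pow, hXm, mul_one, mul_inv_cancel]
  have hYu' : Y.1 * (uv (![1, 0] : Fin 2 → F)).1 = (uv (![1, 0] : Fin 2 → F)).1 * Y.1 := by
    have := congrArg Units.val hYu
    rw [Units.val_mul, Units.val_mul, hu'] at this
    exact this
  obtain ⟨h10, h00⟩ := cent_u (by simp [uv_00]) (by simp [uv_01]) (by simp [uv_10])
    (by simp [uv_11]) hYu'
  obtain ⟨α, hα⟩ : ∃ α : F, α = Y.1 0 0 := ⟨_, rfl⟩
  obtain ⟨β, hβ⟩ : ∃ β : F, β = Y.1 0 1 := ⟨_, rfl⟩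
  have hYform : Y.1 = !![α, β; 0, α] := by
    rw [hα, hβ]
    apply mat2_ext
    · rfl
    · rfl
    · exact h10
    · exact h00.symm
  have hm0 : m ≠ 0 := by
    rintro rfl
    exact hm (dvd_zero p)
  obtain ⟨m', rfl⟩ := Nat.exists_eq_succ_of_ne_zero hm0
  have hYm' : Y.1 ^ (m' + 1) = 1 := by rw [← Units.val_pow_eq_pow_val, hYm, Units.val_one]
  rw [hYform, ut_pow] at hYm'
  have e00 : α ^ (m' + 1) = 1 := by
    have := congrFun (congrFun hYm' 0) 0
    simpa using this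
  have e01 : ((m' : F) + 1) * α ^ m' * β = 0 := by
    have := congrFun (congrFun hYm' 0) 1
    rw [Matrix.one_apply_ne (by decide)] at this
    exact this
  have hα0 : α ≠ 0 := by
    rintro rfl
    simp at e00
  have hmF : ((m' : F) + 1) ≠ 0 := by
    have h1 : ((m' + 1 : ℕ) : F) ≠ 0 := fun h0 => hm ((CharP.cast_eq_zero_iff F p (m' + 1)).mp h0)
    push_cast at h1
    exact h1
  have hβ0 : β = 0 := by
    rcases mul_eq_zero.mp e01 with h1 | h1
    · rcases mul_eq_zero.mp h1 with h2 | h2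
      · exact absurd h2 hmF
      · exact absurd h2 (pow_ne_zero _ hα0)
    · exact h1
  rw [hβ0] at hYform
  have hYc : Y ∈ Subgroup.center (GL (Fin 2) F) := by
    rw [Matrix.GeneralLinearGroup.center_eq_range_scalar]
    refine ⟨Units.mk0 α hα0, Units.ext ?_⟩
    rw [Matrix.GeneralLinearGroup.coe_scalar, hYform]
    apply mat2_ext <;> simp
  have hXY : X = Y := by
    have h1 : X = W⁻¹ * Y * W := by rw [hY]; group
    have h2 := Subgroup.mem_center_iff.mp hYc W⁻¹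
    rw [h1, h2]
    group
  have hdet : (h.1.det) ^ p ^ e = α * α := by
    rw [← Matrix.det_pow, ← Units.val_pow_eq_pow_val, ← hX, hXY, hYform, Matrix.det_fin_two_of]
    ring
  obtain ⟨α', hα'⟩ := exists_ppow_root (p := p) e α
  have hdet' : h.1.det = α' * α' := by
    apply ppow_inj (p := p) e
    rw [hdet, mul_pow, hα']
  have hα'0 : α' ≠ 0 := by
    rintro rfl
    apply hα0
    rw [← hα', zero_pow (pow_ne_zero _ hp.ne_zero)]
  obtain ⟨z, hz⟩ : ∃ z : GL (Fin 2) F,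
      z = Matrix.GeneralLinearGroup.scalar (Fin 2) (Units.mk0 α'⁻¹ (inv_ne_zero hα'0)) :=
    ⟨_, rfl⟩
  have hzc : z ∈ Subgroup.center (GL (Fin 2) F) := by
    rw [Matrix.GeneralLinearGroup.center_eq_range_scalar, hz]
    exact ⟨_, rfl⟩
  have hzdet : z.1.det = α'⁻¹ * α'⁻¹ := by
    rw [hz, Matrix.GeneralLinearGroup.coe_scalar, Matrix.det_fin_two]
    simp
  have hsdet : (h * z).1.det = 1 := by
    rw [Units.val_mul, Matrix.det_mul, hdet', hzdet]
    field_simp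
  refine ⟨h * z, ⟨⟨(h * z).1, hsdet⟩, Units.ext rfl⟩, ?_⟩
  show ((h * z : GL (Fin 2) F) : GL (Fin 2) F ⧸ Subgroup.center (GL (Fin 2) F)) = h
  rw [QuotientGroup.eq]
  have : (h * z)⁻¹ * h = z⁻¹ := by group
  rw [this]
  exact inv_mem hzc

/-- **Part II**: no nilpotent minimal cover when `n = 2` and `G ≠ PSL_2` -/
theorem partII {F : Type*} [Field F] [Fintype F]
    (G : Subgroup (GL (Fin 2) F ⧸ Subgroup.center (GL (Fin 2) F)))
    (hG : ((Matrix.SpecialLinearGroup.toGL :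
      Matrix.SpecialLinearGroup (Fin 2) F →* GL (Fin 2) F).range).map
      (QuotientGroup.mk' (Subgroup.center (GL (Fin 2) F))) ≤ G)
    (hne : ¬ G ≤ ((Matrix.SpecialLinearGroup.toGL :
      Matrix.SpecialLinearGroup (Fin 2) F →* GL (Fin 2) F).range).map
      (QuotientGroup.mk' (Subgroup.center (GL (Fin 2) F))))
    (𝓐 : Finset (Subgroup ↥G)) (h𝓐 : IsNilMinCover 𝓐) : False := by
  obtain ⟨p, hp⟩ := CharP.exists F
  haveI : Fact p.Prime := ⟨CharP.char_is_prime F p⟩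
  have hSL : ∀ s : Matrix.SpecialLinearGroup (Fin 2) F,
      ((Matrix.SpecialLinearGroup.toGL s : GL (Fin 2) F) :
        GL (Fin 2) F ⧸ Subgroup.center (GL (Fin 2) F)) ∈ G :=
    fun s => hG (Subgroup.mem_map_of_mem _ ⟨s, rfl⟩)
  obtain ⟨M, hMdef⟩ : ∃ M : Subgroup ↥G, M = (((Matrix.SpecialLinearGroup.toGL :
      Matrix.SpecialLinearGroup (Fin 2) F →* GL (Fin 2) F).range).map
      (QuotientGroup.mk' (Subgroup.center (GL (Fin 2) F)))).subgroupOf G := ⟨_, rfl⟩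
  have hM : M ≠ ⊤ := by
    rw [hMdef]
    exact fun h => hne (Subgroup.subgroupOf_eq_top.mp h)
  have key : ∀ (g₀ : GL (Fin 2) F)
      (hg₀ : (g₀ : GL (Fin 2) F ⧸ Subgroup.center (GL (Fin 2) F)) ∈ G) (W : GL (Fin 2) F),
      W * g₀ = Matrix.SpecialLinearGroup.toGL (uv (![1, 0] : Fin 2 → F)) * W →
      ∀ A ∈ 𝓐, (⟨(g₀ : GL (Fin 2) F ⧸ Subgroup.center (GL (Fin 2) F)), hg₀⟩ : ↥G) ∈ A →
        A ≤ M := by
    intro g₀ hg₀ W hW A hA hmem y hy
    obtain ⟨g, hg⟩ := QuotientGroup.mk_surjective y.1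
    have hgG : (g : GL (Fin 2) F ⧸ Subgroup.center (GL (Fin 2) F)) ∈ G := hg ▸ y.2
    have hy' : y = ⟨(g : GL (Fin 2) F ⧸ Subgroup.center (GL (Fin 2) F)), hgG⟩ :=
      Subtype.ext hg.symm
    haveI : Group.IsNilpotent ↥A := h𝓐.2.2 A hA
    haveI : Group.IsNilpotent ↥(lift G A) := lift_nilpotent G A
    have hgl : g ∈ lift G A := (mem_lift hgG).mpr (hy' ▸ hy)
    have hg₀l : g₀ ∈ lift G A := (mem_lift hg₀).mpr hmem
    rw [hMdef, Subgroup.mem_subgroupOf, hy']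
    exact core_II p hg₀l hW hgl
  obtain ⟨J, hJ⟩ : ∃ J : Matrix.SpecialLinearGroup (Fin 2) F, J.1 = !![0, 1; -1, 0] :=
    ⟨⟨!![0, 1; -1, 0], by rw [Matrix.det_fin_two_of]; ring⟩, rfl⟩
  have hJW : (Matrix.SpecialLinearGroup.toGL J : GL (Fin 2) F) *
      Matrix.SpecialLinearGroup.toGL (uv (![0, 1] : Fin 2 → F)) =
      Matrix.SpecialLinearGroup.toGL (uv (![1, 0] : Fin 2 → F)) *
        Matrix.SpecialLinearGroup.toGL J := by
    rw [← map_mul, ← map_mul]
    congr 1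
    apply Subtype.ext
    rw [Matrix.SpecialLinearGroup.coe_mul, Matrix.SpecialLinearGroup.coe_mul, hJ, uv_coe, uv_coe,
      Matrix.mul_fin_two, Matrix.mul_fin_two]
    apply mat2_of_ext <;> simp
  obtain ⟨A₁, hA₁, hm₁⟩ := h𝓐.1.2 ⟨_, hSL (uv (![1, 0] : Fin 2 → F))⟩
  obtain ⟨A₂, hA₂, hm₂⟩ := h𝓐.1.2 ⟨_, hSL (uv (![0, 1] : Fin 2 → F))⟩
  have hle₁ := key _ (hSL _) 1 (by rw [one_mul, mul_one]) A₁ hA₁ hm₁
  have hle₂ := key _ (hSL _) _ hJW A₂ hA₂ hm₂
  have hEq : A₁ = A₂ := nilcover_unique_le h𝓐 M hM hA₁ hA₂ hle₁ hle₂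
  subst hEq
  haveI : Group.IsNilpotent ↥A₁ := h𝓐.2.2 A₁ hA₁
  haveI : Group.IsNilpotent ↥(lift G A₁) := lift_nilpotent G A₁
  have hl₁ : (Matrix.SpecialLinearGroup.toGL (uv (![1, 0] : Fin 2 → F)) : GL (Fin 2) F) ∈
      lift G A₁ := (mem_lift (hSL _)).mpr hm₁
  have hl₂ : (Matrix.SpecialLinearGroup.toGL (uv (![0, 1] : Fin 2 → F)) : GL (Fin 2) F) ∈
      lift G A₁ := (mem_lift (hSL _)).mpr hm₂
  have hp₁ : (⟨_, hl₁⟩ : ↥(lift G A₁)) ^ p ^ 1 = 1 := by
    apply Subtype.ext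
    rw [Subgroup.coe_pow, Subgroup.coe_one, ← map_pow, uv_pow_char' p, map_one]
  have hv₀ : (![1, 0] : Fin 2 → F) ≠ 0 := by
    intro h
    have := congrFun h 0
    simp at this
  obtain ⟨μ, hμ⟩ := fixed_line (p := p) (lift G A₁).subtype hp₁ hv₀
    (fun w hw => uv_fix hv₀ w hw) ⟨_, hl₂⟩
  have h3 := uv_stab (v := (![1, 0] : Fin 2 → F)) (w := (![0, 1] : Fin 2 → F)) hμ
  simp at h3

end Cfsg.Agent.Lib.Helper69.PGLC
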