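import Mathlib
import Cfsg.Agent.Lib.Helper69.PGLCoverD

set_option autoImplicit false
open Cfsg
open scoped commutatorElement

/-! Nilpotent subgroups of `SL_2(F)` containing a regular diagonal element: every element has
an eigenvector (helper69). -/

namespace Cfsg.Agent.Lib.Helper69.PGLC

open Matrix

/-- existence of an element of the second centre outside the centre -/
theorem exists_second_center {Γ : Type*} [Group Γ] [Group.IsNilpotent Γ]
    (h : Subgroup.center Γ ≠ ⊤) :
    ∃ c : Γ, c ∉ Subgroup.center Γ ∧ ∀ y : Γ, ⁅c, y⁆ ∈ Subgroup.center Γ := by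
  by_contra hcon
  push_neg at hcon
  have key : ∀ i, Subgroup.upperCentralSeries Γ (i + 1) ≤ Subgroup.center Γ := by
    intro i
    induction i with
    | zero => rw [zero_add, Subgroup.upperCentralSeries_one]
    | succ i ih =>
      intro x hx
      by_contra hxc
      obtain ⟨y, hy⟩ := hcon x hxc
      exact hy (ih (Subgroup.mem_upperCentralSeries_succ_iff.mp hx y))
  obtain ⟨n, hn⟩ := Group.IsNilpotent.nilpotent' (G := Γ)
  apply h
  rw [eq_top_iff]
  calc ⊤ = Subgroup.upperCentralSeries Γ n := hn.symm
    _ ≤ Subgroup.upperCentralSeries Γ (n + 1) :=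
        Subgroup.upperCentralSeries_mono Γ (Nat.le_succ n)
    _ ≤ Subgroup.center Γ := key n

section ClaimC

variable {F : Type*} [Field F]

theorem comm_entries {A B : Matrix (Fin 2) (Fin 2) F} (h : A * B = B * A) (i j : Fin 2) :
    A i 0 * B 0 j + A i 1 * B 1 j = B i 0 * A 0 j + B i 1 * A 1 j := by
  have := congrFun (congrFun h i) j
  rwa [mul2_apply, mul2_apply] at this

theorem anti_entries {A B : Matrix (Fin 2) (Fin 2) F} (h : A * B = -(B * A)) (i j : Fin 2) :
    A i 0 * B 0 j + A i 1 * B 1 j = -(B i 0 * A 0 j + B i 1 * A 1 j) := by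
  have := congrFun (congrFun h i) j
  rwa [Matrix.neg_apply, mul2_apply, mul2_apply] at this

theorem eig_of_10 {s : Matrix.SpecialLinearGroup (Fin 2) F} (h : s.1 1 0 = 0) :
    ∃ v : Fin 2 → F, v ≠ 0 ∧ ∃ μ : F, s.1 *ᵥ v = μ • v := by
  refine ⟨![1, 0], ?_, s.1 0 0, ?_⟩
  · intro hv
    have := congrFun hv 0
    simp at this
  · apply vec2_ext
    · rw [mulVec2_zero, Pi.smul_apply, smul_eq_mul]
      show s.1 0 0 * 1 + s.1 0 1 * 0 = s.1 0 0 * 1
      ring
    · rw [mulVec2_one, Pi.smul_apply, smul_eq_mul]
      show s.1 1 0 * 1 + s.1 1 1 * 0 = s.1 0 0 * 0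
      rw [h]
      ring

theorem eig_of_trace_zero {s : Matrix.SpecialLinearGroup (Fin 2) F} {a : F}
    (htr : s.1 0 0 + s.1 1 1 = 0) (ha : a * a = -1) :
    ∃ v : Fin 2 → F, v ≠ 0 ∧ ∃ μ : F, s.1 *ᵥ v = μ • v := by
  have hd : s.1 0 0 * s.1 1 1 - s.1 0 1 * s.1 1 0 = 1 := by
    have := s.2
    rwa [Matrix.det_fin_two] at this
  by_cases h10 : s.1 1 0 = 0
  · exact eig_of_10 h10
  · refine ⟨![s.1 0 0 + a, s.1 1 0], ?_, a, ?_⟩
    · intro hv
      have := congrFun hv 1
      exact h10 this
    · apply vec2_ext
      · rw [mulVec2_zero, Pi.smul_apply, smul_eq_mul]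
        show s.1 0 0 * (s.1 0 0 + a) + s.1 0 1 * s.1 1 0 = a * (s.1 0 0 + a)
        linear_combination (-1) * hd + s.1 0 0 * htr - ha
      · rw [mulVec2_one, Pi.smul_apply, smul_eq_mul]
        show s.1 1 0 * (s.1 0 0 + a) + s.1 1 1 * s.1 1 0 = a * s.1 1 0
        linear_combination s.1 1 0 * htr

/-- **Claim C′**: in a nilpotent subgroup of `SL_2(F)` containing a diagonal element with
distinct eigenvalues, every element has an eigenvector -/
theorem claimC {H : Subgroup (Matrix.SpecialLinearGroup (Fin 2) F)} [Group.IsNilpotent ↥H]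
    {t : Matrix.SpecialLinearGroup (Fin 2) F} (htH : t ∈ H) {a b : F}
    (h00 : t.1 0 0 = a) (h01 : t.1 0 1 = 0) (h10 : t.1 1 0 = 0) (h11 : t.1 1 1 = b)
    (hab : a ≠ b) {h : Matrix.SpecialLinearGroup (Fin 2) F} (hh : h ∈ H) :
    ∃ v : Fin 2 → F, v ≠ 0 ∧ ∃ μ : F, h.1 *ᵥ v = μ • v := by
  have hdt : a * b = 1 := by
    have := t.2
    rw [Matrix.det_fin_two, h00, h01, h10, h11] at this
    linear_combination this
  have ha0 : a ≠ 0 := by
    rintro rfl
    simp at hdt
  have hb0 : b ≠ 0 := by
    rintro rfl
    simp at hdt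
  have hdh : h.1 0 0 * h.1 1 1 - h.1 0 1 * h.1 1 0 = 1 := by
    have := h.2
    rwa [Matrix.det_fin_two] at this
  have mcomm : ∀ x y : Matrix.SpecialLinearGroup (Fin 2) F, x * y = y * x →
      x.1 * y.1 = y.1 * x.1 := by
    intro x y hxy
    have := congrArg Subtype.val hxy
    rwa [Matrix.SpecialLinearGroup.coe_mul, Matrix.SpecialLinearGroup.coe_mul] at this
  by_cases hA : ∃ c ∈ H, (∀ x ∈ H, c * x = x * c) ∧
      ¬ (c.1 0 1 = 0 ∧ c.1 1 0 = 0 ∧ c.1 0 0 = c.1 1 1)
  · obtain ⟨c, hcH, hcc, hcs⟩ := hA
    have hct := mcomm c t (hcc t htH)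
    have hch := mcomm c h (hcc h hh)
    have e1 := comm_entries hct 0 1
    have e2 := comm_entries hct 1 0
    simp only [h00, h01, h10, h11, mul_zero, zero_mul, add_zero, zero_add] at e1 e2
    have hc01 : c.1 0 1 = 0 := by
      have : c.1 0 1 * (b - a) = 0 := by linear_combination e1
      rcases mul_eq_zero.mp this with h | h
      · exact h
      · exact absurd (sub_eq_zero.mp h).symm hab
    have hc10 : c.1 1 0 = 0 := by
      have : c.1 1 0 * (a - b) = 0 := by linear_combination e2
      rcases mul_eq_zero.mp this with h | h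
      · exact h
      · exact absurd (sub_eq_zero.mp h) hab
    have hcd : c.1 0 0 ≠ c.1 1 1 := fun h => hcs ⟨hc01, hc10, h⟩
    have e3 := comm_entries hch 1 0
    rw [hc10] at e3
    have h10' : h.1 1 0 = 0 := by
      have : h.1 1 0 * (c.1 1 1 - c.1 0 0) = 0 := by linear_combination e3
      rcases mul_eq_zero.mp this with h | h
      · exact h
      · exact absurd (sub_eq_zero.mp h).symm hcd
    exact eig_of_10 h10'
  · push_neg at hA
    have hne : Subgroup.center ↥H ≠ ⊤ := by
      intro htop
      have htc : (⟨t, htH⟩ : ↥H) ∈ Subgroup.center ↥H := htop ▸ Subgroup.mem_top _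
      have := hA t htH (fun x hx => by
        have := Subgroup.mem_center_iff.mp htc ⟨x, hx⟩
        exact (congrArg Subtype.val this).symm)
      apply hab
      rw [← h00, ← h11]
      exact this.2.2
    obtain ⟨c, hc1, hc2⟩ := exists_second_center hne
    have dich : ∀ x ∈ H, (c.1.1 * x.1 = x.1 * c.1.1) ∨
        ((2 : F) ≠ 0 ∧ c.1.1 * x.1 = -(x.1 * c.1.1)) := by
      intro x hx
      have hz := hc2 ⟨x, hx⟩
      obtain ⟨z, hzdef⟩ : ∃ z : ↥H, z = ⁅c, ⟨x, hx⟩⁆ := ⟨_, rfl⟩
      rw [← hzdef] at hz
      have hzs := hA z.1 z.2 (fun y hy => by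
        have := Subgroup.mem_center_iff.mp hz ⟨y, hy⟩
        exact (congrArg Subtype.val this).symm)
      obtain ⟨hz01, hz10, hz00⟩ := hzs
      have hzd : z.1.1 0 0 * z.1.1 0 0 = 1 := by
        have := z.1.2
        rw [Matrix.det_fin_two, hz01, hz10, ← hz00] at this
        linear_combination this
      have hmul : c * ⟨x, hx⟩ = z * (⟨x, hx⟩ * c) := by
        rw [hzdef, commutatorElement_def]
        group
      have hmat : c.1.1 * x.1 = z.1.1 * (x.1 * c.1.1) := by
        have := congrArg (fun y : ↥H => y.1.1) hmul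
        simp only [Subgroup.coe_mul, Matrix.SpecialLinearGroup.coe_mul] at this
        exact this
      have hent : ∀ i j, (c.1.1 * x.1) i j = z.1.1 0 0 * (x.1 * c.1.1) i j := by
        rw [hmat]
        refine Fin.forall_fin_two.mpr ⟨fun j => ?_, fun j => ?_⟩
        · rw [mul2_apply z.1.1, hz01]
          ring
        · rw [mul2_apply z.1.1, hz10, ← hz00]
          ring
      rcases mul_self_eq_one_iff.mp hzd with h1 | h1
      · left
        ext i j
        rw [hent, h1, one_mul]
      · by_cases h2 : (2 : F) = 0
        · left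
          ext i j
          rw [hent, h1]
          linear_combination (-(x.1 * c.1.1) i j) * h2
        · right
          refine ⟨h2, ?_⟩
          ext i j
          rw [hent, h1, Matrix.neg_apply]
          ring
    obtain ⟨C, hC⟩ : ∃ C : Matrix.SpecialLinearGroup (Fin 2) F, C = c.1 := ⟨_, rfl⟩
    rw [← hC] at dich
    have hCns : ¬ (C.1 0 1 = 0 ∧ C.1 1 0 = 0 ∧ C.1 0 0 = C.1 1 1) := by
      rintro ⟨k01, k10, k00⟩
      apply hc1
      rw [Subgroup.mem_center_iff]
      intro y
      apply Subtype.ext
      apply Subtype.ext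
      rw [Subgroup.coe_mul, Subgroup.coe_mul, Matrix.SpecialLinearGroup.coe_mul,
        Matrix.SpecialLinearGroup.coe_mul, ← hC]
      apply mat2_ext <;> rw [mul2_apply, mul2_apply] <;> simp only [k01, k10, k00] <;> ring
    have hdC : C.1 0 0 * C.1 1 1 - C.1 0 1 * C.1 1 0 = 1 := by
      have := C.2
      rwa [Matrix.det_fin_two] at this
    rcases dich t htH with hct | ⟨h2, hct⟩
    · -- `C` commutes with `t`
      have e1 := comm_entries hct 0 1
      have e2 := comm_entries hct 1 0
      simp only [h00, h01, h10, h11, mul_zero, zero_mul, add_zero, zero_add] at e1 e2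
      have hc01 : C.1 0 1 = 0 := by
        have : C.1 0 1 * (b - a) = 0 := by linear_combination e1
        rcases mul_eq_zero.mp this with h | h
        · exact h
        · exact absurd (sub_eq_zero.mp h).symm hab
      have hc10 : C.1 1 0 = 0 := by
        have : C.1 1 0 * (a - b) = 0 := by linear_combination e2
        rcases mul_eq_zero.mp this with h | h
        · exact h
        · exact absurd (sub_eq_zero.mp h) hab
      have hcd : C.1 0 0 ≠ C.1 1 1 := fun h => hCns ⟨hc01, hc10, h⟩
      have hdC' : C.1 0 0 * C.1 1 1 = 1 := by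
        rw [hc01, hc10] at hdC
        linear_combination hdC
      have hc00n : C.1 0 0 ≠ 0 := by
        intro h0
        rw [h0, zero_mul] at hdC'
        exact zero_ne_one hdC'
      have hc11n : C.1 1 1 ≠ 0 := by
        intro h0
        rw [h0, mul_zero] at hdC'
        exact zero_ne_one hdC'
      rcases dich h hh with hch | ⟨h2, hch⟩
      · have e3 := comm_entries hch 1 0
        rw [hc10] at e3
        have h10' : h.1 1 0 = 0 := by
          have : h.1 1 0 * (C.1 1 1 - C.1 0 0) = 0 := by linear_combination e3
          rcases mul_eq_zero.mp this with h | h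
          · exact h
          · exact absurd (sub_eq_zero.mp h).symm hcd
        exact eig_of_10 h10'
      · have e00 := anti_entries hch 0 0
        have e11 := anti_entries hch 1 1
        have e01 := anti_entries hch 0 1
        rw [hc01, hc10] at e00 e11
        rw [hc01] at e01
        have hh00 : h.1 0 0 = 0 := by
          have : (2 : F) * (C.1 0 0 * h.1 0 0) = 0 := by linear_combination e00
          rcases mul_eq_zero.mp this with h | h
          · exact absurd h h2
          · exact (mul_eq_zero.mp h).resolve_left hc00n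
        have hh11 : h.1 1 1 = 0 := by
          have : (2 : F) * (C.1 1 1 * h.1 1 1) = 0 := by linear_combination e11
          rcases mul_eq_zero.mp this with h | h
          · exact absurd h h2
          · exact (mul_eq_zero.mp h).resolve_left hc11n
        have hh01 : h.1 0 1 ≠ 0 := by
          intro h0
          rw [hh00, h0] at hdh
          simp at hdh
        have hsum : C.1 0 0 + C.1 1 1 = 0 := by
          have : h.1 0 1 * (C.1 0 0 + C.1 1 1) = 0 := by
            rw [hh11, hh00] at e01
            linear_combination e01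
          exact (mul_eq_zero.mp this).resolve_left hh01
        have haa : C.1 0 0 * C.1 0 0 = -1 := by
          linear_combination (-1) * hdC' + C.1 0 0 * hsum
        have htr : h.1 0 0 + h.1 1 1 = 0 := by rw [hh00, hh11, add_zero]
        exact eig_of_trace_zero htr haa
    · -- `C` anticommutes with `t`, and `2 ≠ 0`
      have e00 := anti_entries hct 0 0
      have e11 := anti_entries hct 1 1
      have e01 := anti_entries hct 0 1
      simp only [h00, h01, h10, h11, mul_zero, zero_mul, add_zero, zero_add] at e00 e11 e01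
      have hc00 : C.1 0 0 = 0 := by
        have : (2 : F) * (a * C.1 0 0) = 0 := by linear_combination e00
        rcases mul_eq_zero.mp this with h | h
        · exact absurd h h2
        · exact (mul_eq_zero.mp h).resolve_left ha0
      have hc11 : C.1 1 1 = 0 := by
        have : (2 : F) * (b * C.1 1 1) = 0 := by linear_combination e11
        rcases mul_eq_zero.mp this with h | h
        · exact absurd h h2
        · exact (mul_eq_zero.mp h).resolve_left hb0
      have hdC' : C.1 0 1 * C.1 1 0 = -1 := by
        rw [hc00, hc11] at hdC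
        linear_combination (-1) * hdC
      have hc01n : C.1 0 1 ≠ 0 := by
        intro h0
        rw [h0, zero_mul] at hdC'
        have : (1 : F) = 0 := by linear_combination hdC'
        exact one_ne_zero this
      have hsum : a + b = 0 := by
        have : C.1 0 1 * (a + b) = 0 := by linear_combination e01
        exact (mul_eq_zero.mp this).resolve_left hc01n
      have haa : a * a = -1 := by linear_combination (-1) * hdt + a * hsum
      rcases dich h hh with hch | ⟨_, hch⟩
      · have f01 := comm_entries hch 0 1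
        have f00 := comm_entries hch 0 0
        rw [hc00, hc11] at f01
        rw [hc00] at f00
        have h11' : h.1 1 1 = h.1 0 0 := by
          have : C.1 0 1 * (h.1 1 1 - h.1 0 0) = 0 := by linear_combination f01
          exact sub_eq_zero.mp ((mul_eq_zero.mp this).resolve_left hc01n)
        refine ⟨![C.1 0 1, a], ?_, h.1 0 0 - a * h.1 0 1 * C.1 1 0, ?_⟩
        · intro hv
          have := congrFun hv 0
          exact hc01n this
        · apply vec2_ext
          · rw [mulVec2_zero, Pi.smul_apply, smul_eq_mul]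
            show h.1 0 0 * C.1 0 1 + h.1 0 1 * a =
              (h.1 0 0 - a * h.1 0 1 * C.1 1 0) * C.1 0 1
            linear_combination (a * h.1 0 1) * hdC'
          · rw [mulVec2_one, Pi.smul_apply, smul_eq_mul]
            show h.1 1 0 * C.1 0 1 + h.1 1 1 * a = (h.1 0 0 - a * h.1 0 1 * C.1 1 0) * a
            linear_combination f00 + a * h11' + (h.1 0 1 * C.1 1 0) * haa
      · have f01 := anti_entries hch 0 1
        rw [hc00, hc11] at f01
        have htr : h.1 0 0 + h.1 1 1 = 0 := by
          have : C.1 0 1 * (h.1 0 0 + h.1 1 1) = 0 := by linear_combination f01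
          exact (mul_eq_zero.mp this).resolve_left hc01n
        exact eig_of_trace_zero htr haa

end ClaimC

end Cfsg.Agent.Lib.Helper69.PGLC
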