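import Mathlib
import Cfsg.Agent.Lib.Helper69.PGLCoverE
import Cfsg.Agent.Lib.Helper69.PGLCoverF

set_option autoImplicit false
open Cfsg
open scoped commutatorElement

/-! Nilpotent minimal covers of `PSL_2(q)`, `q ≥ 4` (helper69). -/

namespace Cfsg.Agent.Lib.Helper69.PGLC

open Matrix

section Borel

variable {F : Type*} [Field F]

/-- the stabilizer in `SL_2` of the line spanned by `v` -/
def borel (v : Fin 2 → F) (hv : v ≠ 0) : Subgroup (Matrix.SpecialLinearGroup (Fin 2) F) :=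
  (lineStab v hv).comap Matrix.SpecialLinearGroup.toGL

theorem mem_borel {v : Fin 2 → F} {hv : v ≠ 0} {s : Matrix.SpecialLinearGroup (Fin 2) F} :
    s ∈ borel v hv ↔ ∃ μ : F, s.1 *ᵥ v = μ • v := Iff.rfl

theorem borel_le_of_smul {v w : Fin 2 → F} (hv : v ≠ 0) (hw : w ≠ 0) {c : F} (h : w = c • v) :
    borel v hv ≤ borel w hw := by
  intro s hs
  obtain ⟨μ, hμ⟩ := mem_borel.mp hs
  refine mem_borel.mpr ⟨μ, ?_⟩
  rw [h, Matrix.mulVec_smul, hμ, smul_comm]

theorem borel_eq_of_parallel {v w : Fin 2 → F} (hv : v ≠ 0) (hw : w ≠ 0)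
    (h : w 0 * v 1 - w 1 * v 0 = 0) : borel v hv = borel w hw := by
  have h1 : (uv v).1 *ᵥ w = w := by
    rw [uv_mulVec, show v 0 * w 1 - v 1 * w 0 = 0 by linear_combination (-1) * h, zero_smul,
      add_zero]
  have h2 : (uv w).1 *ᵥ v = v := by
    rw [uv_mulVec, h, zero_smul, add_zero]
  obtain ⟨c, hc⟩ := uv_fix hv w h1
  obtain ⟨c', hc'⟩ := uv_fix hw v h2
  exact le_antisymm (borel_le_of_smul hv hw hc) (borel_le_of_smul hw hv hc')

/-- the diagonal element `diag(a, a⁻¹)` -/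
def dg (a : F) (ha : a ≠ 0) : Matrix.SpecialLinearGroup (Fin 2) F :=
  ⟨!![a, 0; 0, a⁻¹], by rw [Matrix.det_fin_two_of, mul_inv_cancel₀ ha]; ring⟩

theorem dg_coe (a : F) (ha : a ≠ 0) : (dg a ha).1 = !![a, 0; 0, a⁻¹] := rfl

theorem dg_pow_coe (a : F) (ha : a ≠ 0) (k : ℕ) :
    ((dg a ha) ^ k).1 = !![a ^ k, 0; 0, (a⁻¹) ^ k] := by
  induction k with
  | zero =>
    rw [pow_zero, Matrix.SpecialLinearGroup.coe_one, Matrix.one_fin_two]
    simp
  | succ k ih =>
    rw [pow_succ, Matrix.SpecialLinearGroup.coe_mul, ih, dg_coe, Matrix.mul_fin_two]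
    apply mat2_of_ext <;> ring

theorem dg_pow_card [Fintype F] (a : F) (ha : a ≠ 0) : (dg a ha) ^ (Fintype.card F - 1) = 1 := by
  apply Subtype.ext
  rw [dg_pow_coe, Matrix.SpecialLinearGroup.coe_one, Matrix.one_fin_two,
    FiniteField.pow_card_sub_one_eq_one a ha,
    FiniteField.pow_card_sub_one_eq_one a⁻¹ (inv_ne_zero ha)]

theorem dg_not_comm_uv (a : F) (ha : a ≠ 0) (haa : a * a ≠ 1) {v : Fin 2 → F} (hv : v ≠ 0) :
    dg a ha * uv v ≠ uv v * dg a ha := by
  intro hcomm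
  have hm : (dg a ha).1 * (uv v).1 = (uv v).1 * (dg a ha).1 := by
    have := congrArg Subtype.val hcomm
    rwa [Matrix.SpecialLinearGroup.coe_mul, Matrix.SpecialLinearGroup.coe_mul] at this
  have hne : a - a⁻¹ ≠ 0 := by
    intro h0
    apply haa
    have : a = a⁻¹ := sub_eq_zero.mp h0
    calc a * a = a * a⁻¹ := by rw [← this]
      _ = 1 := mul_inv_cancel₀ ha
  have e01 := comm_entries hm 0 1
  have e10 := comm_entries hm 1 0
  have d00 : (dg a ha).1 0 0 = a := rfl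
  have d01 : (dg a ha).1 0 1 = 0 := rfl
  have d10 : (dg a ha).1 1 0 = 0 := rfl
  have d11 : (dg a ha).1 1 1 = a⁻¹ := rfl
  rw [d00, d01, d11, uv_00, uv_01, uv_11] at e01
  rw [d00, d10, d11, uv_00, uv_10, uv_11] at e10
  have h0 : v 0 = 0 := by
    have : v 0 ^ 2 * (a - a⁻¹) = 0 := by linear_combination e01
    exact pow_eq_zero_iff (two_ne_zero) |>.mp ((mul_eq_zero.mp this).resolve_right hne)
  have h1 : v 1 = 0 := by
    have : v 1 ^ 2 * (a - a⁻¹) = 0 := by linear_combination e10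
    exact pow_eq_zero_iff (two_ne_zero) |>.mp ((mul_eq_zero.mp this).resolve_right hne)
  exact hv (vec2_ext h0 h1)

theorem exists_good_scalar [Fintype F] (hF : 4 ≤ Fintype.card F) :
    ∃ a : F, a ≠ 0 ∧ a * a ≠ 1 := by
  classical
  have : ∃ a : F, a ∉ ({0, 1, -1} : Finset F) := by
    by_contra hcon
    push_neg at hcon
    have h1 : (Finset.univ : Finset F) ⊆ {0, 1, -1} := fun x _ => hcon x
    have h2 := Finset.card_le_card h1
    have h3 : ({0, 1, -1} : Finset F).card ≤ 3 := Finset.card_le_three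
    rw [Finset.card_univ] at h2
    omega
  obtain ⟨a, ha⟩ := this
  simp only [Finset.mem_insert, Finset.mem_singleton, not_or] at ha
  refine ⟨a, ha.1, fun h => ?_⟩
  rcases mul_self_eq_one_iff.mp h with h | h
  · exact ha.2.1 h
  · exact ha.2.2 h

end Borel

end Cfsg.Agent.Lib.Helper69.PGLC
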