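import Mathlib
import Cfsg.Agent.Lib.Helper69.PGLCoverG

set_option autoImplicit false
open Cfsg
open scoped commutatorElement

/-! Nilpotent minimal covers of `PSL_2(q)`, `q ≥ 4`: the counting argument (helper69). -/

namespace Cfsg.Agent.Lib.Helper69.PGLC

open Matrix

/-- **Part III**: a central quotient of `SL_2(q)`, `q ≥ 4`, has no nilpotent minimal cover -/
theorem partIII {F : Type*} [Field F] [Fintype F] (hF : 4 ≤ Fintype.card F)
    {G₀ : Type*} [Group G₀] (ρ : Matrix.SpecialLinearGroup (Fin 2) F →* G₀)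
    (hsurj : Function.Surjective ρ)
    (hker : ∀ s : Matrix.SpecialLinearGroup (Fin 2) F, ρ s = 1 →
      ∃ μ : F, ∀ v : Fin 2 → F, s.1 *ᵥ v = μ • v)
    (𝓐 : Finset (Subgroup G₀)) (h𝓐 : IsNilMinCover 𝓐) : False := by
  classical
  obtain ⟨p, hp⟩ := CharP.exists F
  haveI : Fact p.Prime := ⟨CharP.char_is_prime F p⟩
  have hpp := (Fact.out : p.Prime)
  -- the kernel is central
  have hkerc : ρ.ker ≤ Subgroup.center (Matrix.SpecialLinearGroup (Fin 2) F) := by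
    intro s hs
    obtain ⟨μ, hμ⟩ := hker s (MonoidHom.mem_ker.mp hs)
    rw [Subgroup.mem_center_iff]
    intro x
    apply Subtype.ext
    rw [Matrix.SpecialLinearGroup.coe_mul, Matrix.SpecialLinearGroup.coe_mul]
    apply Matrix.mulVec_injective
    funext w
    rw [← Matrix.mulVec_mulVec, ← Matrix.mulVec_mulVec, hμ, hμ, Matrix.mulVec_smul]
  have hnil : ∀ A ∈ 𝓐, Group.IsNilpotent ↥(A.comap ρ) := by
    intro A hA
    haveI : Group.IsNilpotent ↥A := h𝓐.2.2 A hA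
    exact nilpotent_comap ρ hkerc A
  -- membership in the images of the Borel subgroups
  have hBv : ∀ (v : Fin 2 → F) (hv : v ≠ 0) (s : Matrix.SpecialLinearGroup (Fin 2) F),
      ρ s ∈ (borel v hv).map ρ → ∃ μ : F, s.1 *ᵥ v = μ • v := by
    rintro v hv s ⟨s', hs'm, hs'⟩
    obtain ⟨μ', hμ'⟩ := mem_borel.mp hs'm
    have h1 : ρ (s'⁻¹ * s) = 1 := by rw [map_mul, map_inv, hs', inv_mul_cancel]
    obtain ⟨ν, hν⟩ := hker _ h1
    refine ⟨ν * μ', ?_⟩
    have e : s.1 = s'.1 * (s'⁻¹ * s).1 := by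
      rw [← Matrix.SpecialLinearGroup.coe_mul, mul_inv_cancel_left]
    rw [e, ← Matrix.mulVec_mulVec, hν, Matrix.mulVec_smul, hμ', smul_smul]
  have hBtop : ∀ (v : Fin 2 → F) (hv : v ≠ 0), (borel v hv).map ρ ≠ ⊤ := by
    intro v hv htop
    by_cases hv1 : v 1 = 0
    · have hv0 : v 0 ≠ 0 := fun h0 => hv (vec2_ext h0 hv1)
      obtain ⟨μ, hμ⟩ := hBv v hv (uv ![0, 1]) (htop ▸ Subgroup.mem_top _)
      have h3 := uv_stab hμ
      simp at h3
      exact hv0 h3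
    · obtain ⟨μ, hμ⟩ := hBv v hv (uv ![1, 0]) (htop ▸ Subgroup.mem_top _)
      have h3 := uv_stab hμ
      simp at h3
      exact hv1 h3
  -- a member containing the transvection along `v` stabilizes the line of `v`
  have F1 : ∀ A ∈ 𝓐, ∀ (v : Fin 2 → F) (hv : v ≠ 0), ρ (uv v) ∈ A →
      ∀ s : Matrix.SpecialLinearGroup (Fin 2) F, ρ s ∈ A → ∃ μ : F, s.1 *ᵥ v = μ • v := by
    intro A hA v hv hmem s hs
    haveI := hnil A hA
    have hm1 : uv v ∈ A.comap ρ := Subgroup.mem_comap.mpr hmem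
    have hm2 : s ∈ A.comap ρ := Subgroup.mem_comap.mpr hs
    have hg : (⟨uv v, hm1⟩ : ↥(A.comap ρ)) ^ p ^ 1 = 1 := by
      apply Subtype.ext
      rw [Subgroup.coe_pow, Subgroup.coe_one]
      exact uv_pow_char' p v
    have hfix : ∀ w : Fin 2 → F,
        ((Matrix.SpecialLinearGroup.toGL.comp (A.comap ρ).subtype) ⟨uv v, hm1⟩).1 *ᵥ w = w →
          ∃ c : F, w = c • v := fun w hw => uv_fix hv w hw
    exact fixed_line (p := p) (Matrix.SpecialLinearGroup.toGL.comp (A.comap ρ).subtype) hg hv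
      hfix ⟨s, hm2⟩
  obtain ⟨S, hS⟩ : ∃ S : Subgroup G₀ → Prop, S = fun A =>
      ∀ x ∈ A, ∃ (v : Fin 2 → F) (hv : v ≠ 0), x ∈ (borel v hv).map ρ := ⟨_, rfl⟩
  have hSdef : ∀ A, S A ↔ ∀ x ∈ A, ∃ (v : Fin 2 → F) (hv : v ≠ 0), x ∈ (borel v hv).map ρ := by
    intro A
    rw [hS]
  have F2 : ∀ A ∈ 𝓐, ∀ (v : Fin 2 → F) (hv : v ≠ 0), ρ (uv v) ∈ A → S A := by
    intro A hA v hv hmem
    rw [hSdef]
    intro x hx
    obtain ⟨s, rfl⟩ := hsurj x
    obtain ⟨μ, hμ⟩ := F1 A hA v hv hmem s hx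
    exact ⟨v, hv, Subgroup.mem_map_of_mem ρ (mem_borel.mpr ⟨μ, hμ⟩)⟩
  have F3 : ∀ A ∈ 𝓐, ∀ (v : Fin 2 → F) (hv : v ≠ 0) (w : Fin 2 → F) (hw : w ≠ 0),
      ρ (uv v) ∈ A → ρ (uv w) ∈ A → (borel v hv).map ρ = (borel w hw).map ρ := by
    intro A hA v hv w hw hmv hmw
    obtain ⟨μ, hμ⟩ := F1 A hA v hv hmv (uv w) hmw
    rw [borel_eq_of_parallel hv hw (uv_stab hμ)]
  -- the diagonal element
  obtain ⟨a, ha0, haa⟩ := exists_good_scalar hF
  have hab : a ≠ a⁻¹ := by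
    intro h
    apply haa
    calc a * a = a * a⁻¹ := by rw [← h]
      _ = 1 := mul_inv_cancel₀ ha0
  have hcop : (Fintype.card F - 1).Coprime p := by
    obtain ⟨k, -, hk⟩ := FiniteField.card F p
    have hpq : p ∣ Fintype.card F := by
      rw [hk]
      exact dvd_pow_self p k.pos.ne'
    have hnd : ¬ p ∣ Fintype.card F - 1 := by
      intro hd
      have h := Nat.dvd_sub hpq hd
      rw [show Fintype.card F - (Fintype.card F - 1) = 1 by omega] at h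
      exact hpp.one_lt.ne' (Nat.dvd_one.mp h)
    exact ((Nat.Prime.coprime_iff_not_dvd hpp).mpr hnd).symm
  have F4 : ∀ A ∈ 𝓐, ∀ (v : Fin 2 → F) (_ : v ≠ 0), ρ (uv v) ∈ A → ρ (dg a ha0) ∈ A →
      False := by
    intro A hA v hv hmv hmt
    haveI := hnil A hA
    have hm1 : uv v ∈ A.comap ρ := Subgroup.mem_comap.mpr hmv
    have hm2 : dg a ha0 ∈ A.comap ρ := Subgroup.mem_comap.mpr hmt
    have hx : (⟨dg a ha0, hm2⟩ : ↥(A.comap ρ)) ^ (Fintype.card F - 1) = 1 := by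
      apply Subtype.ext
      rw [Subgroup.coe_pow, Subgroup.coe_one]
      exact dg_pow_card a ha0
    have hy : (⟨uv v, hm1⟩ : ↥(A.comap ρ)) ^ p = 1 := by
      apply Subtype.ext
      rw [Subgroup.coe_pow, Subgroup.coe_one]
      exact uv_pow_char p v
    have := comm_of_coprime hcop hx hy
    exact dg_not_comm_uv a ha0 haa hv (congrArg Subtype.val this)
  -- the member containing the diagonal element
  obtain ⟨At, hAt, hmt⟩ := h𝓐.1.2 (ρ (dg a ha0))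
  have hAtS : S At := by
    rw [hSdef]
    intro x hx
    obtain ⟨s, rfl⟩ := hsurj x
    haveI := hnil At hAt
    have hm2 : dg a ha0 ∈ At.comap ρ := Subgroup.mem_comap.mpr hmt
    have hm3 : s ∈ At.comap ρ := Subgroup.mem_comap.mpr hx
    obtain ⟨v, hv, μ, hμ⟩ := claimC hm2 (a := a) (b := a⁻¹) rfl rfl rfl rfl hab hm3
    exact ⟨v, hv, Subgroup.mem_map_of_mem ρ (mem_borel.mpr ⟨μ, hμ⟩)⟩
  -- the members containing the transvections
  have hex : ∀ v : {v : Fin 2 → F // v ≠ 0}, ∃ A ∈ 𝓐, ρ (uv v.1) ∈ A := fun v => h𝓐.1.2 _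
  choose Amem hAmem hAmem' using hex
  -- the family of Borel subgroups
  obtain ⟨𝓑₀, h𝓑₀⟩ : ∃ 𝓑₀ : Finset (Subgroup G₀),
      𝓑₀ = (Finset.univ : Finset {v : Fin 2 → F // v ≠ 0}).image
        (fun v => (borel v.1 v.2).map ρ) := ⟨_, rfl⟩
  have hmem𝓑₀ : ∀ B, B ∈ 𝓑₀ ↔
      ∃ v : {v : Fin 2 → F // v ≠ 0}, (borel v.1 v.2).map ρ = B := by
    intro B
    rw [h𝓑₀, Finset.mem_image]
    constructor
    · rintro ⟨v, -, hv⟩
      exact ⟨v, hv⟩
    · rintro ⟨v, hv⟩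
      exact ⟨v, Finset.mem_univ _, hv⟩
  -- the injection
  obtain ⟨f, hf⟩ : ∃ f : Subgroup G₀ → Subgroup G₀,
      ∀ B (h : ∃ v : {v : Fin 2 → F // v ≠ 0}, (borel v.1 v.2).map ρ = B),
        f B = Amem h.choose :=
    ⟨fun B => if h : ∃ v : {v : Fin 2 → F // v ≠ 0}, (borel v.1 v.2).map ρ = B then
      Amem h.choose else ⊥, fun B h => dif_pos h⟩
  have hcard : 𝓑₀.card ≤ ((𝓐.filter S).erase At).card := by
    apply Finset.card_le_card_of_injOn f
    · intro B hB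
      have hB' := (hmem𝓑₀ B).mp (Finset.mem_coe.mp hB)
      rw [Finset.mem_coe, hf B hB', Finset.mem_erase, Finset.mem_filter]
      refine ⟨?_, hAmem _, F2 _ (hAmem _) _ hB'.choose.2 (hAmem' _)⟩
      intro hEq
      have h1 : ρ (dg a ha0) ∈ Amem hB'.choose := by
        rw [hEq]
        exact hmt
      exact F4 _ (hAmem _) _ hB'.choose.2 (hAmem' _) h1
    · intro B hB B' hB' hEq
      have h1 := (hmem𝓑₀ B).mp (Finset.mem_coe.mp hB)
      have h2 := (hmem𝓑₀ B').mp (Finset.mem_coe.mp hB')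
      rw [hf B h1, hf B' h2] at hEq
      have h3 : ρ (uv h2.choose.1) ∈ Amem h1.choose := by
        rw [hEq]
        exact hAmem' _
      have h4 := F3 _ (hAmem h1.choose) _ h1.choose.2 _ h2.choose.2 (hAmem' _) h3
      rw [← h1.choose_spec, ← h2.choose_spec]
      exact h4
  -- the count
  have hAtmem : At ∈ 𝓐.filter S := Finset.mem_filter.mpr ⟨hAt, hAtS⟩
  have hc1 : ((𝓐.filter S).erase At).card = (𝓐.filter S).card - 1 :=
    Finset.card_erase_of_mem hAtmem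
  have hc2 : 1 ≤ (𝓐.filter S).card := Finset.card_pos.mpr ⟨At, hAtmem⟩
  have hc3 : (𝓐.filter S).card + (𝓐.filter (fun A => ¬ S A)).card = 𝓐.card :=
    Finset.card_filter_add_card_filter_not S
  have hcover := h𝓐.2.1 (𝓑₀ ∪ 𝓐.filter (fun A => ¬ S A)) ⟨?_, ?_⟩
  · have hc4 := Finset.card_union_le 𝓑₀ (𝓐.filter (fun A => ¬ S A))
    omega
  · intro B hB
    rcases Finset.mem_union.mp hB with hB | hB
    · obtain ⟨v, rfl⟩ := (hmem𝓑₀ B).mp hB
      exact hBtop v.1 v.2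
    · exact h𝓐.1.1 B (Finset.mem_filter.mp hB).1
  · intro g
    obtain ⟨A, hA, hgA⟩ := h𝓐.1.2 g
    by_cases hSA : S A
    · rw [hSdef] at hSA
      obtain ⟨v, hv, hx⟩ := hSA g hgA
      exact ⟨_, Finset.mem_union_left _ ((hmem𝓑₀ _).mpr ⟨⟨v, hv⟩, rfl⟩), hx⟩
    · exact ⟨A, Finset.mem_union_right _ (Finset.mem_filter.mpr ⟨hA, hSA⟩), hgA⟩

end Cfsg.Agent.Lib.Helper69.PGLC
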