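import Mathlib
import Cfsg.Agent.S4040
import Cfsg.Agent.Lib.Helper69.MaxCentB

set_option autoImplicit false
open Cfsg

/-! Elements of prime power order with maximal centralizers outside a normal subgroup
(helper69). -/

namespace Cfsg.Agent.Lib.Helper69.PPO

open Cfsg.Agent.Lib.Helper69

variable {G : Type*} [Group G]

theorem solvable_of_normal' {H : Type*} [Group H] (K : Subgroup H) [K.Normal]
    (h1 : Group.IsSolvable K) (h2 : Group.IsSolvable (H ⧸ K)) : Group.IsSolvable H := by
  refine solvable_of_ker_le_range K.subtype (QuotientGroup.mk' K) ?_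
  rw [QuotientGroup.ker_mk', Subgroup.range_subtype]

theorem solvable_of_isPGroup {H : Type*} [Group H] [Finite H] {p : ℕ} [Fact p.Prime]
    (hH : IsPGroup p H) : Group.IsSolvable H := by
  haveI := hH.isNilpotent
  infer_instance

/-- if every element outside the normal subgroup `N` has prime power order, then the
centralizer of an element `x ∉ N` of `p`-power order is a `p`-group -/
theorem isPGroup_centralizer [Finite G] (N : Subgroup G)
    (h : ∀ x : G, x ∉ N → IsPrimePow (orderOf x)) {x : G} (hx : x ∉ N) {p k : ℕ} (hp : p.Prime)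
    (hk : 0 < k) (hxo : orderOf x = p ^ k) :
    IsPGroup p (Subgroup.centralizer ({x} : Set G)) := by
  rintro ⟨y, hy⟩
  have hxy : Commute x y := by
    rw [Subgroup.mem_centralizer_singleton_iff] at hy
    exact hy.symm
  have hn0 : orderOf y ≠ 0 := (orderOf_pos y).ne'
  obtain ⟨e, m, hpm, hn⟩ := Nat.exists_eq_pow_mul_and_not_dvd hn0 p hp.ne_one
  refine ⟨e, ?_⟩
  apply Subtype.ext
  show y ^ p ^ e = 1
  have hy' : orderOf (y ^ p ^ e) = m := by
    rw [orderOf_pow_of_dvd (pow_ne_zero e hp.ne_zero) (hn ▸ Dvd.intro _ rfl), hn,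
      Nat.mul_div_cancel_left _ (pow_pos hp.pos e)]
  have hcop : (orderOf x).Coprime (orderOf (y ^ p ^ e)) := by
    rw [hxo, hy']
    exact Nat.Coprime.pow_left k ((Nat.Prime.coprime_iff_not_dvd hp).mpr hpm)
  have hcomm : Commute x (y ^ p ^ e) := hxy.pow_right _
  have hord : orderOf (x * y ^ p ^ e) = p ^ k * m := by
    rw [hcomm.orderOf_mul_eq_mul_orderOf_of_coprime hcop, hxo, hy']
  have hnotN : x * y ^ p ^ e ∉ N := by
    intro hmem
    have h1 : (x * y ^ p ^ e) ^ m ∈ N := N.pow_mem hmem m
    have h2 : (y ^ p ^ e) ^ m = 1 := by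
      rw [← hy']
      exact pow_orderOf_eq_one _
    rw [hcomm.mul_pow, h2, mul_one] at h1
    have hcop' : m.Coprime (orderOf x) := by
      rw [hxo]
      exact (Nat.Coprime.pow_left k ((Nat.Prime.coprime_iff_not_dvd hp).mpr hpm)).symm
    obtain ⟨j, hj⟩ := exists_pow_eq_self_of_coprime hcop'
    apply hx
    rw [← hj]
    exact N.pow_mem h1 j
  have hpp := h _ hnotN
  rw [hord] at hpp
  obtain ⟨q, j, hq, hj, hqj⟩ := (isPrimePow_nat_iff _).mp hpp
  have hpq : p = q := by
    have h1 : p ∣ q ^ j := by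
      rw [hqj]
      exact dvd_mul_of_dvd_left (dvd_pow_self p hk.ne') m
    exact (Nat.prime_dvd_prime_iff_eq hp hq).mp (hp.dvd_of_dvd_pow h1)
  subst hpq
  have hm : m ∣ p ^ j := by
    rw [hqj]
    exact Dvd.intro_left _ rfl
  obtain ⟨i, -, hi⟩ := (Nat.dvd_prime_pow hp).mp hm
  have hi0 : i = 0 := by
    by_contra hi0
    exact hpm (hi ▸ dvd_pow_self p hi0)
  rw [hi0, pow_zero] at hi
  rw [hi] at hy'
  exact orderOf_eq_one_iff.mp hy'

/-- a group with an abelian Sylow `2`-subgroup which is a maximal subgroup is solvable -/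
theorem solvable_of_coatom_two_abelian [Finite G] (P : Sylow 2 G)
    (hP : IsCoatom (P : Subgroup G))
    (hab : ∀ a ∈ (P : Subgroup G), ∀ b ∈ (P : Subgroup G), a * b = b * a) :
    Group.IsSolvable G := by
  have hP2 : IsPGroup 2 (P : Subgroup G) := P.isPGroup'
  by_cases hn : (P : Subgroup G).Normal
  · haveI := hn
    have hq := MaxCent.card_quotient_prime_of_coatom (P : Subgroup G) hP
    refine solvable_of_normal' (P : Subgroup G) (solvable_of_isPGroup hP2) ?_
    exact Group.isSolvable_of_comm (MaxCent.comm_of_prime_card hq)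
  · have hNC : Subgroup.normalizer (P : Set G) ≤ Subgroup.centralizer (P : Set G) := by
      intro g hg
      have hgP : g ∈ (P : Subgroup G) := MaxCent.mem_of_normalizes hP hn hg
      rw [Subgroup.mem_centralizer_iff]
      intro b hb
      exact hab b hb g hgP
    set K := (MonoidHom.transferSylow P hNC).ker with hKdef
    have hK : Subgroup.IsComplement' K (P : Subgroup G) :=
      MonoidHom.ker_transferSylow_isComplement' P hNC
    have hcard := hK.card_mul_card
    have hPidx : (P : Subgroup G).index = Nat.card K := hK.index_eq_card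
    have hKidx : K.index = Nat.card (P : Subgroup G) := hK.symm.index_eq_card
    have h2K : ¬ 2 ∣ Nat.card K := hPidx ▸ P.not_dvd_index
    have hKne : Nat.card K ≠ 1 := by
      intro h1
      rw [h1, one_mul] at hcard
      exact hP.1 ((Subgroup.card_eq_iff_eq_top _).mp hcard)
    set q := (Nat.card K).minFac with hqdef
    have hq : q.Prime := Nat.minFac_prime hKne
    have hqK : q ∣ Nat.card K := Nat.minFac_dvd _
    have hq2 : q ≠ 2 := fun h2 => h2K (h2 ▸ hqK)
    haveI : Fact q.Prime := ⟨hq⟩
    have hqG : q ∣ Nat.card G := hcard ▸ Dvd.dvd.mul_right hqK _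
    -- every Sylow `q`-subgroup lies in `K`
    have hQK : ∀ Q : Sylow q G, (Q : Subgroup G) ≤ K := by
      intro Q g hg
      rw [hKdef, MonoidHom.mem_ker]
      obtain ⟨i, hi⟩ := Q.isPGroup' ⟨g, hg⟩
      have hi' : g ^ q ^ i = 1 := congrArg Subtype.val hi
      obtain ⟨j, hj⟩ := hP2 (MonoidHom.transferSylow P hNC g)
      have h1 : orderOf (MonoidHom.transferSylow P hNC g) ∣ q ^ i :=
        (orderOf_map_dvd _ g).trans (orderOf_dvd_of_pow_eq_one hi')
      have h2 : orderOf (MonoidHom.transferSylow P hNC g) ∣ 2 ^ j := orderOf_dvd_of_pow_eq_one hj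
      have h3 := Nat.dvd_gcd h1 h2
      have hcop : Nat.gcd (q ^ i) (2 ^ j) = 1 :=
        Nat.Coprime.pow i j ((Nat.coprime_primes hq Nat.prime_two).mpr hq2)
      rw [hcop, Nat.dvd_one] at h3
      exact orderOf_eq_one_iff.mp h3
    -- the number of Sylow `q`-subgroups is odd
    have hodd : ¬ 2 ∣ Nat.card (Sylow q G) := by
      have Q : Sylow q G := default
      rw [Sylow.card_eq_index_normalizer Q]
      set L := Subgroup.normalizer (Q : Set G) with hL
      have hFr : L ⊔ K = ⊤ := Sylow.normalizer_sup_eq_top' Q (hQK Q)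
      have h1 : K.relIndex L = Nat.card (P : Subgroup G) := by
        rw [← Subgroup.relIndex_sup_right L K, hFr, Subgroup.relIndex_top_right, hKidx]
      have h2 : Nat.card (P : Subgroup G) ∣ Nat.card L := h1 ▸ Subgroup.relIndex_dvd_card K L
      obtain ⟨c, hc⟩ := h2
      have h3 := Subgroup.card_mul_index L
      rw [hc, ← hcard] at h3
      have h4 : c * L.index = Nat.card K := by
        have hPpos : 0 < Nat.card (P : Subgroup G) := Nat.card_pos
        have : Nat.card (P : Subgroup G) * (c * L.index) = Nat.card (P : Subgroup G) * Nat.card K := by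
          rw [← mul_assoc, h3, mul_comm]
        exact Nat.eq_of_mul_eq_mul_left hPpos this
      intro h5
      exact h2K (h4 ▸ Dvd.dvd.mul_left h5 c)
    obtain ⟨Q₀, hQ₀⟩ := hP2.nonempty_fixed_point_of_prime_not_dvd_card (Sylow q G) hodd
    have hPN : (P : Subgroup G) ≤ Subgroup.normalizer (Q₀ : Set G) := by
      intro a ha
      have := hQ₀ ⟨a, ha⟩
      exact Sylow.smul_eq_iff_mem_normalizer.mp this
    have hQne : (Q₀ : Subgroup G) ≠ ⊥ := Q₀.ne_bot_of_dvd_card hqG
    have hQP : ¬ (Q₀ : Subgroup G) ≤ (P : Subgroup G) := by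
      intro hle
      apply hQne
      rw [eq_bot_iff]
      intro g hg
      obtain ⟨i, hi⟩ := Q₀.isPGroup' ⟨g, hg⟩
      have hi' : g ^ q ^ i = 1 := congrArg Subtype.val hi
      obtain ⟨j, hj⟩ := hP2 ⟨g, hle hg⟩
      have hj' : g ^ 2 ^ j = 1 := congrArg Subtype.val hj
      have h3 := Nat.dvd_gcd (orderOf_dvd_of_pow_eq_one hi') (orderOf_dvd_of_pow_eq_one hj')
      have hcop : Nat.gcd (q ^ i) (2 ^ j) = 1 :=
        Nat.Coprime.pow i j ((Nat.coprime_primes hq Nat.prime_two).mpr hq2)
      rw [hcop, Nat.dvd_one] at h3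
      exact orderOf_eq_one_iff.mp h3
    have htop : (P : Subgroup G) ⊔ (Q₀ : Subgroup G) = ⊤ := by
      rcases hP.le_iff.mp (le_sup_left : (P : Subgroup G) ≤ (P : Subgroup G) ⊔ (Q₀ : Subgroup G))
        with h1 | h1
      · exact h1
      · exact absurd (h1 ▸ le_sup_right) hQP
    have hQn : (Q₀ : Subgroup G).Normal := by
      rw [← Subgroup.normalizer_eq_top_iff, eq_top_iff, ← htop]
      exact sup_le hPN Subgroup.le_normalizer
    haveI := hQn
    have hquot : IsPGroup 2 (G ⧸ (Q₀ : Subgroup G)) := by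
      intro x
      obtain ⟨g, rfl⟩ := QuotientGroup.mk_surjective x
      have hg : g ∈ (P : Subgroup G) ⊔ (Q₀ : Subgroup G) := htop ▸ Subgroup.mem_top g
      obtain ⟨a, ha, b, hb, rfl⟩ := Subgroup.mem_sup_of_normal_right.mp hg
      obtain ⟨j, hj⟩ := hP2 ⟨a, ha⟩
      have hj' : a ^ 2 ^ j = 1 := congrArg Subtype.val hj
      refine ⟨j, ?_⟩
      have e : ((a * b : G) : G ⧸ (Q₀ : Subgroup G)) = (a : G ⧸ (Q₀ : Subgroup G)) := by
        rw [QuotientGroup.mk_mul, (QuotientGroup.eq_one_iff b).mpr hb, mul_one]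
      rw [e, ← QuotientGroup.mk_pow, hj']
      rfl
    exact solvable_of_normal' (Q₀ : Subgroup G) (solvable_of_isPGroup Q₀.isPGroup')
      (solvable_of_isPGroup hquot)

/-- the counting argument: every element of `P` outside `N` has centralizer `P` -/
theorem centralizer_eq_of_count [Finite G] (N : Subgroup G) [N.Normal]
    (h2 : ∀ x : G, x ∉ N → ∃ k : ℕ, x ^ 2 ^ k = 1)
    (hS : ∀ x : G, x ∉ N →
      ∃ Q : Sylow 2 G, (Q : Subgroup G) = Subgroup.centralizer ({x} : Set G))
    (P : Sylow 2 G) (hP : IsCoatom (P : Subgroup G)) (hPn : ¬ (P : Subgroup G).Normal) :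
    ∀ y ∈ (P : Subgroup G), y ∉ N →
      Subgroup.centralizer ({y} : Set G) = (P : Subgroup G) := by
  classical
  by_contra hcon
  push Not at hcon
  obtain ⟨y₁, hy₁P, hy₁N, hy₁⟩ := hcon
  haveI : Fintype G := Fintype.ofFinite G
  haveI : Fintype (Sylow 2 G) := Fintype.ofFinite _
  -- `G / N` is a `2`-group
  have hGN : IsPGroup 2 (G ⧸ N) := by
    intro x
    obtain ⟨g, rfl⟩ := QuotientGroup.mk_surjective x
    by_cases hg : g ∈ N
    · exact ⟨0, by rw [pow_zero, pow_one]; exact (QuotientGroup.eq_one_iff g).mpr hg⟩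
    · obtain ⟨k, hk⟩ := h2 g hg
      exact ⟨k, by rw [← QuotientGroup.mk_pow, hk]; rfl⟩
  obtain ⟨a, ha⟩ := IsPGroup.iff_card.mp hGN
  have hNidx : N.index = 2 ^ a := by
    rw [Subgroup.index_eq_card]
    exact ha
  have hmpos : 0 < N.index := by
    rw [hNidx]
    positivity
  have hsup : ∀ Q : Sylow 2 G, (Q : Subgroup G) ⊔ N = ⊤ := by
    intro Q
    rw [← Subgroup.index_eq_one]
    have h1 : ((Q : Subgroup G) ⊔ N).index ∣ N.index := Subgroup.index_dvd_of_le le_sup_right
    have h3 : ((Q : Subgroup G) ⊔ N).index ∣ (Q : Subgroup G).index :=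
      Subgroup.index_dvd_of_le le_sup_left
    rw [hNidx] at h1
    obtain ⟨b, -, hb⟩ := (Nat.dvd_prime_pow Nat.prime_two).mp h1
    have hb0 : b = 0 := by
      by_contra hb0
      exact Q.not_dvd_index ((hb ▸ dvd_pow_self 2 hb0).trans h3)
    rw [hb, hb0, pow_zero]
  have ht : ∀ Q : Sylow 2 G,
      Nat.card (N.subgroupOf (Q : Subgroup G)) * N.index = Nat.card (Q : Subgroup G) := by
    intro Q
    have h1 := Subgroup.card_mul_index (N.subgroupOf (Q : Subgroup G))
    have h3 : (N.subgroupOf (Q : Subgroup G)).index = N.index := by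
      show N.relIndex (Q : Subgroup G) = N.index
      rw [← Subgroup.relIndex_sup_right (Q : Subgroup G) N, hsup Q, Subgroup.relIndex_top_right]
    rw [h3] at h1
    exact h1
  have hs : ∀ Q : Sylow 2 G, Nat.card (Q : Subgroup G) = Nat.card (P : Subgroup G) := by
    intro Q
    rw [Q.card_eq_multiplicity, P.card_eq_multiplicity]
  have htQ : ∀ Q : Sylow 2 G, Nat.card (N.subgroupOf (Q : Subgroup G)) =
      Nat.card (N.subgroupOf (P : Subgroup G)) := by
    intro Q
    have := (ht Q).trans ((hs Q).trans (ht P).symm)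
    exact Nat.eq_of_mul_eq_mul_right hmpos this
  let A : Sylow 2 G → Finset G :=
    fun Q => Finset.univ.filter (fun y => y ∈ (Q : Subgroup G) ∧ y ∉ N)
  have hA : ∀ Q : Sylow 2 G, (A Q).card + Nat.card (N.subgroupOf (Q : Subgroup G)) =
      Nat.card (Q : Subgroup G) := by
    intro Q
    have e1 : Nat.card (Q : Subgroup G) =
        (Finset.univ.filter (fun y : G => y ∈ (Q : Subgroup G))).card := by
      rw [Nat.card_eq_fintype_card]
      exact Fintype.card_of_subtype _ (fun x => by simp)
    have e2 : Nat.card (N.subgroupOf (Q : Subgroup G)) =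
        (Finset.univ.filter (fun y : G => y ∈ (Q : Subgroup G) ∧ y ∈ N)).card := by
      have e3 : Nat.card (N.subgroupOf (Q : Subgroup G)) =
          Nat.card {y : G // y ∈ (Q : Subgroup G) ∧ y ∈ N} :=
        Nat.card_congr ⟨fun z => ⟨z.1.1, z.1.2, z.2⟩, fun y => ⟨⟨y.1, y.2.1⟩, y.2.2⟩,
          fun _ => rfl, fun _ => rfl⟩
      rw [e3, Nat.card_eq_fintype_card]
      exact Fintype.card_of_subtype _ (fun x => by simp)
    have e4 := Finset.card_filter_add_card_filter_not
      (s := Finset.univ.filter (fun y : G => y ∈ (Q : Subgroup G))) (fun y => y ∈ N)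
    rw [Finset.filter_filter, Finset.filter_filter] at e4
    show (Finset.univ.filter (fun y => y ∈ (Q : Subgroup G) ∧ y ∉ N)).card + _ = _
    rw [e1, e2]
    omega
  choose σ hσ using hS
  let τ : G → Sylow 2 G := fun y => if hy : y ∉ N then σ y hy else P
  have hτ : ∀ y (hy : y ∉ N), ((τ y : Sylow 2 G) : Subgroup G) =
      Subgroup.centralizer ({y} : Set G) := by
    intro y hy
    simp only [τ, dif_pos hy]
    exact hσ y hy
  let U : Finset G := Finset.univ.filter (fun y => y ∉ N)
  have hU : U.card = ∑ Q : Sylow 2 G, (U.filter (fun y => τ y = Q)).card :=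
    Finset.card_eq_sum_card_fiberwise (fun _ _ => Finset.mem_univ _)
  have hfib : ∀ Q : Sylow 2 G, U.filter (fun y => τ y = Q) ⊆ A Q := by
    intro Q y hy
    rw [Finset.mem_filter] at hy
    obtain ⟨hyU, hyQ⟩ := hy
    have hyN : y ∉ N := (Finset.mem_filter.mp hyU).2
    refine Finset.mem_filter.mpr ⟨Finset.mem_univ _, ?_, hyN⟩
    rw [← hyQ, hτ y hyN]
    exact Subgroup.mem_centralizer_singleton_iff.mpr rfl
  have hAc : ∀ Q : Sylow 2 G, (A Q).card = (A P).card := by
    intro Q
    have h1 := hA Q
    have h3 := hA P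
    have h4 := htQ Q
    have h5 := hs Q
    omega
  have hlt : (U.filter (fun y => τ y = P)).card < (A P).card := by
    apply Finset.card_lt_card
    refine ⟨hfib P, fun hsub => ?_⟩
    have h1 : y₁ ∈ A P := Finset.mem_filter.mpr ⟨Finset.mem_univ _, hy₁P, hy₁N⟩
    have h3 := hsub h1
    rw [Finset.mem_filter] at h3
    apply hy₁
    rw [← hτ y₁ hy₁N, h3.2]
  have hsum : U.card < ∑ _Q : Sylow 2 G, (A P).card := by
    rw [hU]
    exact Finset.sum_lt_sum
      (fun Q _ => (Finset.card_le_card (hfib Q)).trans (hAc Q).le) ⟨P, Finset.mem_univ _, hlt⟩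
  rw [Finset.sum_const, Finset.card_univ, smul_eq_mul, ← Nat.card_eq_fintype_card] at hsum
  have hnorm : Subgroup.normalizer (P : Set G) = (P : Subgroup G) :=
    le_antisymm (fun g hg => MaxCent.mem_of_normalizes hP hPn hg) Subgroup.le_normalizer
  have hSyl : Nat.card (Sylow 2 G) = (P : Subgroup G).index := by
    rw [Sylow.card_eq_index_normalizer P, hnorm]
  have hUN : U.card + Nat.card N = Nat.card G := by
    have e1 : Nat.card N = (Finset.univ.filter (fun y : G => y ∈ N)).card := by
      rw [Nat.card_eq_fintype_card]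
      exact Fintype.card_of_subtype _ (fun x => by simp)
    have e4 := Finset.card_filter_add_card_filter_not
      (s := (Finset.univ : Finset G)) (fun y => y ∈ N)
    rw [Finset.card_univ, ← Nat.card_eq_fintype_card] at e4
    show (Finset.univ.filter (fun y => y ∉ N)).card + _ = _
    rw [e1]
    omega
  have hidx := Subgroup.index_mul_card (P : Subgroup G)
  have hmN := Subgroup.index_mul_card N
  have hct := hA P
  have htm := ht P
  have e1 : (P : Subgroup G).index * Nat.card (N.subgroupOf (P : Subgroup G)) = Nat.card N := by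
    apply Nat.eq_of_mul_eq_mul_right hmpos
    rw [mul_assoc, htm, hidx, mul_comm, hmN]
  have e2 : (P : Subgroup G).index * (A P).card +
      (P : Subgroup G).index * Nat.card (N.subgroupOf (P : Subgroup G)) = Nat.card G := by
    rw [← mul_add, hct, hidx]
  rw [hSyl] at hsum
  linarith

/-- the main theorem: if every element outside the proper normal subgroup `N` has prime power
order and a maximal subgroup as centralizer, then the whole group is solvable -/
theorem solvable_of_outside [Finite G] (N : Subgroup G) [N.Normal] (hN : N ≠ ⊤)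
    (h : ∀ x : G, x ∉ N →
      IsPrimePow (orderOf x) ∧ IsCoatom (Subgroup.centralizer ({x} : Set G))) :
    Group.IsSolvable G := by
  obtain ⟨x₀, hx₀⟩ : ∃ x : G, x ∉ N := by
    by_contra hcon
    push Not at hcon
    exact hN (eq_top_iff.mpr fun x _ => hcon x)
  have hpp : ∀ x : G, x ∉ N → IsPrimePow (orderOf x) := fun x hx => (h x hx).1
  by_cases hodd : ∃ x : G, x ∉ N ∧ ∃ p k : ℕ, p.Prime ∧ p ≠ 2 ∧ 0 < k ∧ orderOf x = p ^ k
  · obtain ⟨x, hx, p, k, hp, hp2, hk, hxo⟩ := hodd
    haveI : Fact p.Prime := ⟨hp⟩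
    have hM := isPGroup_centralizer N hpp hx hp hk hxo
    have hnil : Group.IsNilpotent (Subgroup.centralizer ({x} : Set G)) := hM.isNilpotent
    obtain ⟨n, hn⟩ := IsPGroup.iff_card.mp hM
    have hoddc : Odd (Nat.card (Subgroup.centralizer ({x} : Set G))) := by
      rw [hn]
      exact (hp.odd_of_ne_two hp2).pow
    exact Cfsg.Agent.S4040.result _ (h x hx).2 hnil hoddc
  · push Not at hodd
    -- every element outside `N` is a `2`-element
    have h2o : ∀ x : G, x ∉ N → ∃ k : ℕ, 0 < k ∧ orderOf x = 2 ^ k := by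
      intro x hx
      obtain ⟨p, k, hp, hk, hpk⟩ := (isPrimePow_nat_iff _).mp (hpp x hx)
      by_cases hp2 : p = 2
      · exact ⟨k, hk, by rw [← hpk, hp2]⟩
      · exact absurd hpk.symm (hodd x hx p k hp hp2 hk)
    have h2 : ∀ x : G, x ∉ N → ∃ k : ℕ, x ^ 2 ^ k = 1 := by
      intro x hx
      obtain ⟨k, -, hk⟩ := h2o x hx
      exact ⟨k, by rw [← hk]; exact pow_orderOf_eq_one x⟩
    have hC2 : ∀ x : G, x ∉ N → IsPGroup 2 (Subgroup.centralizer ({x} : Set G)) := by
      intro x hx
      obtain ⟨k, hk, hxo⟩ := h2o x hx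
      exact isPGroup_centralizer N hpp hx Nat.prime_two hk hxo
    by_cases hG2 : IsPGroup 2 G
    · exact solvable_of_isPGroup hG2
    · have hS : ∀ x : G, x ∉ N →
          ∃ Q : Sylow 2 G, (Q : Subgroup G) = Subgroup.centralizer ({x} : Set G) := by
        intro x hx
        refine ⟨⟨Subgroup.centralizer ({x} : Set G), hC2 x hx, ?_⟩, rfl⟩
        intro Q hQ hle
        rcases (h x hx).2.le_iff.mp hle with h1 | h1
        · exfalso
          apply hG2
          intro g
          obtain ⟨k, hk⟩ := hQ ⟨g, h1 ▸ Subgroup.mem_top g⟩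
          exact ⟨k, congrArg Subtype.val hk⟩
        · exact h1
      obtain ⟨P, hPc⟩ := hS x₀ hx₀
      have hP : IsCoatom (P : Subgroup G) := hPc ▸ (h x₀ hx₀).2
      by_cases hPn : (P : Subgroup G).Normal
      · haveI := hPn
        have hq := MaxCent.card_quotient_prime_of_coatom (P : Subgroup G) hP
        refine solvable_of_normal' (P : Subgroup G) (solvable_of_isPGroup P.isPGroup') ?_
        exact Group.isSolvable_of_comm (MaxCent.comm_of_prime_card hq)
      · have hcent := centralizer_eq_of_count N h2 hS P hP hPn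
        have hx₀P : x₀ ∈ (P : Subgroup G) := by
          rw [hPc]
          exact Subgroup.mem_centralizer_singleton_iff.mpr rfl
        have key : ∀ y ∈ (P : Subgroup G), y ∉ N → ∀ b ∈ (P : Subgroup G), y * b = b * y := by
          intro y hy hyN b hb
          rw [← hcent y hy hyN] at hb
          exact (Subgroup.mem_centralizer_singleton_iff.mp hb).symm
        apply solvable_of_coatom_two_abelian P hP
        intro a ha b hb
        by_cases haN : a ∈ N
        · have h1 : a * x₀ ∉ N := by
            intro hc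
            apply hx₀
            have e : x₀ = a⁻¹ * (a * x₀) := by group
            rw [e]
            exact N.mul_mem (N.inv_mem haN) hc
          have h3 := key (a * x₀) ((P : Subgroup G).mul_mem ha hx₀P) h1 b hb
          have h4 := key x₀ hx₀P hx₀ b hb
          have h5 : a * b * x₀ = b * a * x₀ := by
            calc a * b * x₀ = a * (b * x₀) := mul_assoc _ _ _
              _ = a * (x₀ * b) := by rw [h4]
              _ = a * x₀ * b := (mul_assoc _ _ _).symm
              _ = b * (a * x₀) := h3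
              _ = b * a * x₀ := (mul_assoc _ _ _).symm
          exact mul_right_cancel h5
        · exact key a ha haN b hb

end Cfsg.Agent.Lib.Helper69.PPO
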