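import Mathlib
import Cfsg.Agent.Lib.Helper69.BGLin
import Cfsg.Agent.Lib.Helper58.SAFTAU
import Cfsg.Agent.Lib.Helper4.SAFCOUNT
import Cfsg.Agent.Lib.Helper79.SAFARITH
import Cfsg.Agent.Lib.Helper58.SAFSUBFIELD
import Cfsg.Agent.Lib.Helper58.SAFAUT
import Cfsg.Agent.Lib.Helper58.SAFORBIT
import Cfsg.Agent.Lib.Helper79.SAFTRANSP

set_option autoImplicit false

namespace Cfsg.Agent.Lib.Helper69.SAF

open Cfsg.Agent.Lib.Helper69.BG
open Cfsg.Agent.Lib.Helper58.SAF Cfsg.Agent.Lib.Helper4.SAF Cfsg.Agent.Lib.Helper79.SAF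

universe u

/-- **Linear core.** A solvable group of linear automorphisms of an `F_p`-space of dimension
`n ≥ 3` that is transitive on the subgroups of each order is semilinear over `GF(p^n)`, and
`n = 3` or `(n, p) = (5, 2)`. -/
theorem lincore (p : ℕ) [Fact p.Prime] {V : Type u} [AddCommGroup V] [Module (ZMod p) V]
    [Finite V] (n : ℕ) (hn : 3 ≤ n) (hV : Nat.card V = p ^ n)
    (Γ : Subgroup (V ≃ₗ[ZMod p] V)) (hsol : Group.IsSolvable ↥Γ)
    (htr : ∀ U U' : AddSubgroup V, Nat.card ↥U = Nat.card ↥U' → ∃ g ∈ Γ, ∀ u ∈ U, g u ∈ U') :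
    ∃ e : V ≃+ GaloisField p n,
      (∀ g ∈ Γ, ∃ (a : GaloisField p n) (σ : GaloisField p n ≃+* GaloisField p n),
        ∀ v : V, e (g v) = a * σ (e v)) ∧
      (n = 3 ∨ (n = 5 ∧ p = 2)) ∧
      (p = 2 → n = 5 → 155 ∣ Nat.card ↥Γ) ∧
      (p = 2 → n = 3 → 7 ∣ Nat.card ↥Γ ∧
        ((∀ g ∈ Γ, ∃ a : GaloisField p n, ∀ v : V, e (g v) = a * e v) ∨
          21 ∣ Nat.card ↥Γ)) := by
  classical
  have hpp : p.Prime := Fact.out
  haveI : Finite (V ≃ₗ[ZMod p] V) :=
    Finite.of_injective (fun e : V ≃ₗ[ZMod p] V => (e : V → V)) DFunLike.coe_injective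
  haveI : Nontrivial V := by
    apply Finite.one_lt_card_iff_nontrivial.mp
    rw [hV]
    exact Nat.one_lt_pow (by omega) hpp.one_lt
  have htr' : ∀ v w : V, v ≠ 0 → w ≠ 0 → ∃ g ∈ Γ, ∃ k : ZMod p, g v = k • w := by
    intro v w hv hw
    have hcard : ∀ x : V, x ≠ 0 → Nat.card ↥(AddSubgroup.zmultiples x) = p := by
      intro x hx
      rw [Nat.card_zmultiples]
      have hpx : p • x = 0 := by
        have := ZModModule.char_nsmul_eq_zero p x
        exact this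
      exact addOrderOf_eq_prime hpx hx
    obtain ⟨g, hg, hgU⟩ := htr (AddSubgroup.zmultiples v) (AddSubgroup.zmultiples w)
      (by rw [hcard v hv, hcard w hw])
    have h1 := hgU v (AddSubgroup.mem_zmultiples v)
    obtain ⟨m, hm⟩ := AddSubgroup.mem_zmultiples_iff.mp h1
    refine ⟨g, hg, (m : ZMod p), ?_⟩
    rw [← hm, Int.cast_smul_eq_zsmul]
  -- Step 1: Huppert
  have hsemi : ∃ (F : Type) (_ : Field F) (_ : Fintype F) (e : V ≃+ F),
      ∀ g ∈ Γ, ∃ (a : F) (σ : F ≃+* F), ∀ v : V, e (g v) = a * σ (e v) := by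
    rcases huppert_apply p Γ hsol htr' with h | h
    · exact h
    · exfalso
      rw [hV] at h
      obtain ⟨hp3, hn4⟩ := exc_list p hn h
      subst hp3
      subst hn4
      have hV81 : Nat.card V = 81 := by rw [hV]; norm_num
      obtain ⟨h5, h13⟩ := Cfsg.Agent.Lib.Helper98.BG.card_dvd_81 hV81 Γ htr
      exact Cfsg.Agent.Lib.Helper60.BG.no_65 hV81 Γ hsol h5 h13
  obtain ⟨F, iF, iFt, e₁, hsl₁⟩ := hsemi
  have hF : Nat.card F = p ^ n := by
    rw [← hV]
    exact (Nat.card_congr e₁.toEquiv).symm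
  obtain ⟨τ, hτ⟩ := exists_sigma_hom p F e₁ Γ hsl₁
  haveI : Finite (F ≃+* F) :=
    Finite.of_injective (fun σ : F ≃+* F => (σ : F → F)) DFunLike.coe_injective
  have hAut : Nat.card (F ≃+* F) = n := card_ringAut p n F hF
  have hSdvd : Nat.card ↥τ.range ∣ n := by
    rw [← hAut]
    exact Subgroup.card_subgroup_dvd_card _
  have hSΓ : Nat.card ↥τ.range ∣ Nat.card ↥Γ := Subgroup.card_range_dvd τ
  -- Step 2: counting
  have hcount : p ^ n - p ≤ Nat.card ↥τ.range * (p ^ 2 * (p + 1)) := by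
    refine count_planes p n (by omega) F hF (τ.range : Set (F ≃+* F)) ?_
    intro U U' hU hU'
    have hmc : ∀ W : AddSubgroup F,
        Nat.card ↥(W.map e₁.symm.toAddMonoidHom) = Nat.card ↥W := fun W =>
      AddSubgroup.card_map_of_injective e₁.symm.injective
    obtain ⟨g, hg, hgU⟩ := htr (U.map e₁.symm.toAddMonoidHom) (U'.map e₁.symm.toAddMonoidHom)
      (by rw [hmc, hmc, hU, hU'])
    obtain ⟨a, ha, hav⟩ := hτ ⟨g, hg⟩
    refine ⟨a, τ ⟨g, hg⟩, ha, ⟨_, rfl⟩, ?_⟩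
    intro u hu
    obtain ⟨u', hu', hu'eq⟩ := hgU (e₁.symm u) ⟨u, hu, rfl⟩
    have h2 := hav (e₁.symm u)
    rw [AddEquiv.apply_symm_apply] at h2
    rw [← h2]
    have h3 : e₁ (g (e₁.symm u)) = u' := by
      have : e₁.symm u' = g (e₁.symm u) := hu'eq
      rw [← this, AddEquiv.apply_symm_apply]
    change e₁ (g (e₁.symm u)) ∈ U'
    rw [h3]
    exact hu'
  have hn0 : 0 < n := by omega
  have hle : p ^ n - p ≤ n * (p ^ 2 * (p + 1)) :=
    le_trans hcount (Nat.mul_le_mul_right _ (Nat.le_of_dvd hn0 hSdvd))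
  have harith := arith_bound p n hpp hn hle
  -- Step 3: no proper subfields
  have hodd : ¬ (2 ∣ n ∧ 2 < n) := by
    rintro ⟨h2, h2n⟩
    obtain ⟨E, hE0, hE1⟩ := exists_proper_subfield p n F hF h2 h2n
    exact Cfsg.Agent.Lib.Helper43.BG.subfield_contra p F e₁ E hE0 hE1 Γ hsl₁
      (fun U₁ U₂ h1 h2 => htr U₁ U₂ (by rw [h1, h2]))
  have hn35 : n = 3 ∨ (n = 5 ∧ p = 2) := by
    rcases harith with h | ⟨h2, h6⟩ | ⟨h3, h4⟩
    · exact Or.inl h
    · have h3456 : n = 3 ∨ n = 4 ∨ n = 5 ∨ n = 6 := by omega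
      rcases h3456 with h | h | h | h
      · exact Or.inl h
      · exfalso
        exact hodd ⟨⟨2, by omega⟩, by omega⟩
      · exact Or.inr ⟨h, h2⟩
      · exfalso
        exact hodd ⟨⟨3, by omega⟩, by omega⟩
    · exfalso
      exact hodd ⟨⟨2, by omega⟩, by omega⟩
  -- Step 4: transport to the Galois field
  obtain ⟨e, he⟩ := transport_galois p n F hF e₁
  refine ⟨e, ?_, hn35, ?_, ?_⟩
  · intro g hg
    exact (he g).1 (hsl₁ g hg)
  · intro hp2 hn5
    subst hp2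
    subst hn5
    have h31 : Nat.card V - 1 ∣ Nat.card ↥Γ := two_transitive_dvd Γ htr
    rw [hV] at h31
    have hS : Nat.card ↥τ.range = 5 := by
      have h1 : Nat.card ↥τ.range = 1 ∨ Nat.card ↥τ.range = 5 :=
        (Nat.dvd_prime (by norm_num)).mp hSdvd
      rcases h1 with h1 | h1
      · rw [h1] at hcount
        norm_num at hcount
      · exact h1
    have h5 : 5 ∣ Nat.card ↥Γ := hS ▸ hSΓ
    have h31' : 31 ∣ Nat.card ↥Γ := by
      have : (2 : ℕ) ^ 5 - 1 = 31 := by norm_num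
      rw [this] at h31
      exact h31
    exact Nat.Coprime.mul_dvd_of_dvd_of_dvd (m := 31) (n := 5) (by norm_num) h31' h5
  · intro hp2 hn3
    subst hp2
    subst hn3
    have h7 : Nat.card V - 1 ∣ Nat.card ↥Γ := two_transitive_dvd Γ htr
    rw [hV] at h7
    have h7' : 7 ∣ Nat.card ↥Γ := by
      have : (2 : ℕ) ^ 3 - 1 = 7 := by norm_num
      rw [this] at h7
      exact h7
    refine ⟨h7', ?_⟩
    have h1 : Nat.card ↥τ.range = 1 ∨ Nat.card ↥τ.range = 3 :=
      (Nat.dvd_prime (by norm_num)).mp hSdvd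
    rcases h1 with h1 | h1
    · left
      intro g hg
      apply (he g).2
      obtain ⟨a, ha, hav⟩ := hτ ⟨g, hg⟩
      have hτ1 : τ ⟨g, hg⟩ = 1 := by
        have hb : τ.range = ⊥ := Subgroup.card_eq_one.mp h1
        have hm : τ ⟨g, hg⟩ ∈ τ.range := ⟨_, rfl⟩
        rw [hb] at hm
        exact Subgroup.mem_bot.mp hm
      refine ⟨a, fun v => ?_⟩
      have h2 := hav v
      rw [hτ1] at h2
      exact h2
    · right
      have h3 : 3 ∣ Nat.card ↥Γ := h1 ▸ hSΓ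
      exact Nat.Coprime.mul_dvd_of_dvd_of_dvd (m := 7) (n := 3) (by norm_num) h7' h3

end Cfsg.Agent.Lib.Helper69.SAF
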