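import Mathlib
import Cfsg.Prelude.Def_Transfer
import Cfsg.Agent.Lib.Helper69.SAFLin
import Cfsg.Agent.Lib.Helper69.SAFPSI
import Cfsg.Agent.Lib.Helper82.SAFFUSION
import Cfsg.Agent.Lib.Helper82.SAFKER
import Cfsg.Agent.Lib.Helper78.SAFACT
import Cfsg.Agent.Lib.Helper79.SAFINDEX
import Cfsg.Agent.Lib.Helper79.SAFCARDAFF
import Cfsg.Agent.Lib.Helper79.SAFISO
import Cfsg.Agent.Lib.Helper79.SAFMEM

set_option autoImplicit false

namespace Cfsg.Agent.Lib.Helper69.SAF

open Cfsg.Agent.Lib.Helper58.SAF Cfsg.Agent.Lib.Helper79.SAF Cfsg.Agent.Lib.Helper82.SAF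
open Cfsg.Agent.Lib.Helper78.SAF

universe u

section core

variable {M : Type u} [Group M] [Finite M]

/-- the abstract core of S4025, with an additive model `V` of the normal Sylow subgroup -/
theorem core_model (p : ℕ) [Fact p.Prime] (n : ℕ) (hn : 3 ≤ n)
    (Q : Subgroup M) [hQn : Q.Normal] {V : Type u} [AddCommGroup V] [Module (ZMod p) V]
    (e₀ : ↥Q ≃* Multiplicative V)
    (hQc : Nat.card ↥Q = p ^ n) (hQi : ¬ p ∣ Q.index)
    (htr : ∀ A B : Subgroup M, A ≤ Q → B ≤ Q → Nat.card ↥A = Nat.card ↥B →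
      ∃ m : M, B = A.map (MulAut.conj m).toMonoidHom)
    (hsol : Group.IsSolvable (M ⧸ Cfsg.pPrimeCore p M)) :
    (n = 3 ∧ (∃ f : M ⧸ Cfsg.pPrimeCore p M →* ↥(Cfsg.semiaffineGroup (GaloisField p 3)),
        Function.Injective f) ∧
      (p = 2 → Nonempty (M ⧸ Cfsg.pPrimeCore p M ≃* Cfsg.semiaffineGroup (GaloisField 2 3)) ∨
               Nonempty (M ⧸ Cfsg.pPrimeCore p M ≃* Cfsg.affineGroup (GaloisField 2 3)))) ∨
    (n = 5 ∧ p = 2 ∧
      Nonempty (M ⧸ Cfsg.pPrimeCore p M ≃* Cfsg.semiaffineGroup (GaloisField 2 5))) := by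
  classical
  have hpp : p.Prime := Fact.out
  have hcomm : ∀ a ∈ Q, ∀ b ∈ Q, a * b = b * a := by
    intro a ha b hb
    have h : e₀ (⟨a, ha⟩ * ⟨b, hb⟩) = e₀ (⟨b, hb⟩ * ⟨a, ha⟩) := by
      rw [map_mul, map_mul, mul_comm]
    exact congrArg Subtype.val (e₀.injective h)
  have hQp : IsPGroup p ↥Q := IsPGroup.of_card hQc
  -- a complement
  have hcop : (Nat.card ↥Q).Coprime Q.index := by
    rw [hQc]
    exact Nat.Coprime.pow_left n ((Nat.Prime.coprime_iff_not_dvd hpp).mpr hQi)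
  obtain ⟨L, hL⟩ := Subgroup.exists_right_complement'_of_coprime hcop
  have hK : Cfsg.pPrimeCore p M = L.normalCore := pPrimeCore_eq_normalCore p Q hQp hQi L hL
  obtain ⟨θ, hθker, hθQ, hθL⟩ := exists_coset_action Q L hL
  -- automorphisms of `Q` act linearly
  let ι : MulAut ↥Q →* (V ≃ₗ[ZMod p] V) :=
    { toFun := fun f => (AddEquiv.toMultiplicative.symm ((e₀.symm.trans f).trans e₀)).toLinearEquiv
        (fun c x => ZMod.map_smul (AddEquiv.toMultiplicative.symm ((e₀.symm.trans f).trans e₀)) c x)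
      map_one' := by
        apply LinearEquiv.ext
        intro x
        simp [LinearEquiv.coe_one]
      map_mul' := by
        intro f f'
        apply LinearEquiv.ext
        intro x
        simp [LinearEquiv.mul_apply] }
  have hι : ∀ (f : MulAut ↥Q) (x : V),
      ι f x = Multiplicative.toAdd (e₀ (f (e₀.symm (Multiplicative.ofAdd x)))) :=
    fun f x => rfl
  let ρ : M →* (V ≃ₗ[ZMod p] V) := ι.comp (MulAut.conjNormal (H := Q))
  have hρ : ∀ (g : M) (x : V),
      ((e₀.symm (Multiplicative.ofAdd (ρ g x)) : ↥Q) : M) =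
        g * ((e₀.symm (Multiplicative.ofAdd x) : ↥Q) : M) * g⁻¹ := by
    intro g x
    change ((e₀.symm (Multiplicative.ofAdd (ι (MulAut.conjNormal g) x)) : ↥Q) : M) = _
    rw [hι]
    simp [MulAut.conjNormal_apply]
  haveI : Finite (Multiplicative V) := Finite.of_equiv ↥Q e₀.toEquiv
  haveI : Finite V := inferInstanceAs (Finite (Multiplicative V))
  haveI : Finite (V ≃ₗ[ZMod p] V) :=
    Finite.of_injective (fun e : V ≃ₗ[ZMod p] V => (e : V → V)) DFunLike.coe_injective
  have hVc : Nat.card V = p ^ n := by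
    rw [← hQc]
    exact (Nat.card_congr e₀.toEquiv).symm
  have hQker : Q ≤ ρ.ker := by
    intro g hg
    rw [MonoidHom.mem_ker]
    apply LinearEquiv.ext
    intro x
    apply Multiplicative.ofAdd.injective
    apply e₀.symm.injective
    apply Subtype.ext
    rw [hρ]
    change g * ((e₀.symm (Multiplicative.ofAdd x) : ↥Q) : M) * g⁻¹ = _
    rw [hcomm g hg _ (e₀.symm (Multiplicative.ofAdd x)).2, mul_inv_cancel_right]
    rfl
  have hKL : L.normalCore ≤ L := Subgroup.normalCore_le L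
  have hKker : Cfsg.pPrimeCore p M ≤ ρ.ker := by
    intro k hk
    rw [hK] at hk
    have hkθ : θ k = 1 := by
      rw [← MonoidHom.mem_ker, hθker]
      exact hk
    rw [MonoidHom.mem_ker]
    apply LinearEquiv.ext
    intro x
    apply Multiplicative.ofAdd.injective
    apply e₀.symm.injective
    apply Subtype.ext
    rw [hρ]
    have h1 := hθL k (hKL hk) (e₀.symm (Multiplicative.ofAdd x))
    rw [hkθ] at h1
    rw [← h1]
    rfl
  have hQK : Q ⊓ Cfsg.pPrimeCore p M = ⊥ := by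
    rw [hK, eq_bot_iff]
    have hd : Q ⊓ L = ⊥ := disjoint_iff.mp hL.disjoint
    rw [← hd]
    exact inf_le_inf_left Q hKL
  -- solvability of the linear group
  have hsolΓ : Group.IsSolvable ↥ρ.range := by
    haveI := hsol
    let f : M ⧸ Cfsg.pPrimeCore p M →* ↥ρ.range :=
      QuotientGroup.lift _ ρ.rangeRestrict (by
        intro k hk
        apply Subtype.ext
        exact hKker hk)
    have hf : Function.Surjective f := by
      rintro ⟨_, m, rfl⟩
      exact ⟨QuotientGroup.mk m, rfl⟩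
    exact solvable_of_surjective hf
  -- subgroups of `V` as subgroups of `M`
  let sub : AddSubgroup V → Subgroup M :=
    fun W => ((AddSubgroup.toSubgroup W).comap e₀.toMonoidHom).map Q.subtype
  have hsub_mem : ∀ (W : AddSubgroup V) (x : M), x ∈ sub W ↔
      ∃ h : x ∈ Q, Multiplicative.toAdd (e₀ ⟨x, h⟩) ∈ W := by
    intro W x
    constructor
    · rintro ⟨n, hn, rfl⟩
      exact ⟨n.2, hn⟩
    · rintro ⟨h, hW⟩
      exact ⟨⟨x, h⟩, hW, rfl⟩
  have hsub_card : ∀ W : AddSubgroup V, Nat.card ↥(sub W) = Nat.card ↥W := by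
    intro W
    rw [Subgroup.card_map_of_injective Q.subtype_injective]
    apply Nat.card_congr
    exact
      { toFun := fun x => ⟨Multiplicative.toAdd (e₀ x.1), x.2⟩
        invFun := fun w => ⟨e₀.symm (Multiplicative.ofAdd w.1), by
          change Multiplicative.toAdd (e₀ (e₀.symm (Multiplicative.ofAdd w.1))) ∈ W
          simpa using w.2⟩
        left_inv := fun x => by
          apply Subtype.ext
          simp
        right_inv := fun w => by
          apply Subtype.ext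
          simp }
  have hsub_le : ∀ W : AddSubgroup V, sub W ≤ Q := by
    intro W x hx
    exact ((hsub_mem W x).mp hx).1
  have htrΓ : ∀ W W' : AddSubgroup V, Nat.card ↥W = Nat.card ↥W' →
      ∃ g ∈ ρ.range, ∀ u ∈ W, g u ∈ W' := by
    intro W W' hc
    obtain ⟨g, hg⟩ := htr (sub W) (sub W') (hsub_le W) (hsub_le W')
      (by rw [hsub_card, hsub_card, hc])
    refine ⟨ρ g, ⟨g, rfl⟩, ?_⟩
    intro u hu
    have h1 : ((e₀.symm (Multiplicative.ofAdd u) : ↥Q) : M) ∈ sub W :=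
      (hsub_mem W _).mpr ⟨(e₀.symm (Multiplicative.ofAdd u)).2, by simpa using hu⟩
    have h2 : g * ((e₀.symm (Multiplicative.ofAdd u) : ↥Q) : M) * g⁻¹ ∈ sub W' := by
      rw [hg]
      exact ⟨_, h1, rfl⟩
    rw [← hρ g u] at h2
    obtain ⟨_, h3⟩ := (hsub_mem W' _).mp h2
    simpa using h3
  -- the linear core
  obtain ⟨e, hsl, hn35, h155, h7⟩ := lincore p n hn hVc ρ.range hsolΓ htrΓ
  -- the permutation representation
  obtain ⟨Ψ, hΨker, hΨQ, hΨL⟩ :=
    exists_perm_rep Q L θ hθker hθQ hθL p e₀ ρ hρ (GaloisField p n) e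
  have hΨK : Ψ.ker = Cfsg.pPrimeCore p M := by rw [hΨker, hK]
  have hLs : ∀ l ∈ L, ∃ (a : GaloisField p n) (σ : GaloisField p n ≃+* GaloisField p n),
      ∀ x : GaloisField p n, Ψ l x = a * σ x := by
    intro l hl
    obtain ⟨a, σ, h⟩ := hsl (ρ l) ⟨l, rfl⟩
    refine ⟨a, σ, fun x => ?_⟩
    rw [hΨL l hl x, h, AddEquiv.apply_symm_apply]
  have hsemi : ∀ m, Ψ m ∈ Cfsg.semiaffineGroup (GaloisField p n) :=
    mem_semiaffine_of Q L hL _ Ψ _ hΨQ hLs
  have hidx : Nat.card ↥Q * Nat.card ↥ρ.range ∣ Nat.card (M ⧸ Cfsg.pPrimeCore p M) :=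
    card_mul_card_range_dvd ρ Q _ hQker hKker hQK
  have hGFc : Nat.card (GaloisField p n) = p ^ n := GaloisField.card p n (by omega)
  have hMpos : 0 < Nat.card (M ⧸ Cfsg.pPrimeCore p M) := Nat.card_pos
  have hle : p ^ n * Nat.card ↥ρ.range ≤ Nat.card (M ⧸ Cfsg.pPrimeCore p M) := by
    rw [← hQc]
    exact Nat.le_of_dvd hMpos hidx
  rcases hn35 with h3 | ⟨h5, hp2⟩
  · left
    subst h3
    refine ⟨rfl, emb_of_range Ψ _ hΨK _ hsemi, ?_⟩
    intro hp2
    subst hp2
    obtain ⟨h7Γ, hcase⟩ := h7 rfl rfl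
    rcases hcase with hlin | h21
    · right
      have hLa : ∀ l ∈ L, ∃ a : GaloisField 2 3, ∀ x : GaloisField 2 3, Ψ l x = a * x := by
        intro l hl
        obtain ⟨a, h⟩ := hlin (ρ l) ⟨l, rfl⟩
        refine ⟨a, fun x => ?_⟩
        rw [hΨL l hl x, h, AddEquiv.apply_symm_apply]
      have haff : ∀ m, Ψ m ∈ Cfsg.affineGroup (GaloisField 2 3) :=
        mem_affine_of Q L hL _ Ψ _ hΨQ hLa
      have hc : Nat.card ↥(Cfsg.affineGroup (GaloisField 2 3)) ≤
          Nat.card (M ⧸ Cfsg.pPrimeCore 2 M) := by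
        have h1 := card_affineGroup_le (GaloisField 2 3)
        rw [hGFc] at h1
        have h2 : 7 ≤ Nat.card ↥ρ.range := Nat.le_of_dvd Nat.card_pos h7Γ
        have h8 : (2 : ℕ) ^ 3 = 8 := by norm_num
        rw [h8] at h1 hle
        omega
      exact iso_of_range Ψ _ hΨK _ haff hc
    · left
      have hc : Nat.card ↥(Cfsg.semiaffineGroup (GaloisField 2 3)) ≤
          Nat.card (M ⧸ Cfsg.pPrimeCore 2 M) := by
        letI : Fintype (GaloisField 2 3) := Fintype.ofFinite _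
        have h1 := card_semiaffineGroup_le (GaloisField 2 3)
        rw [hGFc, card_ringAut 2 3 (GaloisField 2 3) hGFc] at h1
        have h2 : 21 ≤ Nat.card ↥ρ.range := Nat.le_of_dvd Nat.card_pos h21
        have h8 : (2 : ℕ) ^ 3 = 8 := by norm_num
        rw [h8] at h1 hle
        omega
      exact iso_of_range Ψ _ hΨK _ hsemi hc
  · right
    subst h5
    subst hp2
    refine ⟨rfl, rfl, ?_⟩
    have h155Γ := h155 rfl rfl
    have hc : Nat.card ↥(Cfsg.semiaffineGroup (GaloisField 2 5)) ≤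
        Nat.card (M ⧸ Cfsg.pPrimeCore 2 M) := by
      letI : Fintype (GaloisField 2 5) := Fintype.ofFinite _
      have h1 := card_semiaffineGroup_le (GaloisField 2 5)
      rw [hGFc, card_ringAut 2 5 (GaloisField 2 5) hGFc] at h1
      have h2 : 155 ≤ Nat.card ↥ρ.range := Nat.le_of_dvd Nat.card_pos h155Γ
      have h32 : (2 : ℕ) ^ 5 = 32 := by norm_num
      rw [h32] at h1 hle
      omega
    exact iso_of_range Ψ _ hΨK _ hsemi hc

/-- the abstract core of S4025 -/
theorem core (p : ℕ) [Fact p.Prime] (n : ℕ) (hn : 3 ≤ n)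
    (Q : Subgroup M) [hQn : Q.Normal]
    (hcomm : ∀ a ∈ Q, ∀ b ∈ Q, a * b = b * a) (hexp : ∀ a ∈ Q, a ^ p = 1)
    (hQc : Nat.card ↥Q = p ^ n) (hQi : ¬ p ∣ Q.index)
    (htr : ∀ A B : Subgroup M, A ≤ Q → B ≤ Q → Nat.card ↥A = Nat.card ↥B →
      ∃ m : M, B = A.map (MulAut.conj m).toMonoidHom)
    (hsol : Group.IsSolvable (M ⧸ Cfsg.pPrimeCore p M)) :
    (n = 3 ∧ (∃ f : M ⧸ Cfsg.pPrimeCore p M →* ↥(Cfsg.semiaffineGroup (GaloisField p 3)),
        Function.Injective f) ∧
      (p = 2 → Nonempty (M ⧸ Cfsg.pPrimeCore p M ≃* Cfsg.semiaffineGroup (GaloisField 2 3)) ∨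
               Nonempty (M ⧸ Cfsg.pPrimeCore p M ≃* Cfsg.affineGroup (GaloisField 2 3)))) ∨
    (n = 5 ∧ p = 2 ∧
      Nonempty (M ⧸ Cfsg.pPrimeCore p M ≃* Cfsg.semiaffineGroup (GaloisField 2 5))) := by
  letI : CommGroup ↥Q :=
    { (inferInstance : Group ↥Q) with
      mul_comm := fun a b => Subtype.ext (hcomm a a.2 b b.2) }
  letI : Module (ZMod p) (Additive ↥Q) := AddCommGroup.zmodModule (n := p) (by
    intro x
    have h1 : (Additive.toMul x) ^ p = 1 := by
      apply Subtype.ext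
      rw [Subgroup.coe_pow, Subgroup.coe_one]
      exact hexp _ (Additive.toMul x).2
    have h2 : Additive.ofMul ((Additive.toMul x) ^ p) = p • x := rfl
    rw [← h2, h1]
    rfl)
  exact core_model p n hn Q (MulEquiv.multiplicativeAdditive ↥Q).symm hQc hQi htr hsol

end core

/-- S4025 -/
theorem main {G : Type u} [Group G] [Finite G]
    {p : ℕ} [Fact p.Prime] (hC : ∀ H K : Subgroup G, IsPGroup p H → IsPGroup p K →
      Nat.card H = Nat.card K → ∃ g : G, K = H.map (MulAut.conj g).toMonoidHom)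
    (P : Sylow p G) (n : ℕ) (hn : 3 ≤ n)
    (hel : Cfsg.IsElementaryAbelian p (P : Subgroup G)) (hcard : Nat.card P = p ^ n)
    (N : Subgroup G) (hN : N = Subgroup.normalizer ((P : Subgroup G) : Set G))
    (hsolv : Group.IsSolvable (↥N ⧸ Cfsg.pPrimeCore p ↥N)) :
    (n = 3 ∧ (∃ f : ↥N ⧸ Cfsg.pPrimeCore p ↥N →* ↥(Cfsg.semiaffineGroup (GaloisField p 3)),
        Function.Injective f) ∧
      (p = 2 → Nonempty (↥N ⧸ Cfsg.pPrimeCore p ↥N ≃* Cfsg.semiaffineGroup (GaloisField 2 3)) ∨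
               Nonempty (↥N ⧸ Cfsg.pPrimeCore p ↥N ≃* Cfsg.affineGroup (GaloisField 2 3)))) ∨
    (n = 5 ∧ p = 2 ∧
      Nonempty (↥N ⧸ Cfsg.pPrimeCore p ↥N ≃* Cfsg.semiaffineGroup (GaloisField 2 5))) := by
  classical
  subst hN
  obtain ⟨hel1, hel2⟩ := hel
  have hPcomm : ∀ a ∈ (P : Subgroup G), ∀ b ∈ (P : Subgroup G), a * b = b * a := by
    intro a ha b hb
    have h := hel1.is_comm.comm (⟨a, ha⟩ : ↥(P : Subgroup G)) ⟨b, hb⟩
    exact congrArg Subtype.val h
  have hPle : (P : Subgroup G) ≤ Subgroup.normalizer ((P : Subgroup G) : Set G) :=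
    Subgroup.le_normalizer
  haveI hQn : ((P : Subgroup G).subgroupOf
      (Subgroup.normalizer ((P : Subgroup G) : Set G))).Normal := Subgroup.normal_in_normalizer
  refine core p n hn ((P : Subgroup G).subgroupOf
      (Subgroup.normalizer ((P : Subgroup G) : Set G))) ?_ ?_ ?_ ?_ ?_ hsolv
  · intro a ha b hb
    apply Subtype.ext
    exact hPcomm a ha b hb
  · intro a ha
    apply Subtype.ext
    rw [Subgroup.coe_pow, Subgroup.coe_one]
    exact hel2 a ha
  · rw [Nat.card_congr (Subgroup.subgroupOfEquivOfLe hPle).toEquiv]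
    exact hcard
  · intro h
    exact P.not_dvd_index (dvd_trans h (Subgroup.relIndex_dvd_index_of_le hPle))
  · intro A B hA hB hAB
    have hA' : A.map (Subgroup.normalizer ((P : Subgroup G) : Set G)).subtype ≤ (P : Subgroup G) := by
      rintro _ ⟨a, ha, rfl⟩
      exact hA ha
    have hB' : B.map (Subgroup.normalizer ((P : Subgroup G) : Set G)).subtype ≤ (P : Subgroup G) := by
      rintro _ ⟨a, ha, rfl⟩
      exact hB ha
    obtain ⟨g, hg⟩ := hC _ _ (P.isPGroup'.to_le hA') (P.isPGroup'.to_le hB')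
      (by rw [Subgroup.card_map_of_injective (Subgroup.subtype_injective _),
        Subgroup.card_map_of_injective (Subgroup.subtype_injective _), hAB])
    obtain ⟨m, hm, hmB⟩ := burnside_fusion P hPcomm _ _ hA' hB' g hg
    refine ⟨⟨m, hm⟩, ?_⟩
    ext x
    constructor
    · intro hx
      have h1 : (x : G) ∈ B.map (Subgroup.normalizer ((P : Subgroup G) : Set G)).subtype :=
        ⟨x, hx, rfl⟩
      rw [hmB] at h1
      obtain ⟨_, ⟨a, ha, rfl⟩, hax⟩ := h1
      refine ⟨a, ha, ?_⟩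
      apply Subtype.ext
      exact hax
    · rintro ⟨a, ha, rfl⟩
      have h1 : m * (a : G) * m⁻¹ ∈
          B.map (Subgroup.normalizer ((P : Subgroup G) : Set G)).subtype := by
        rw [hmB]
        exact ⟨_, ⟨a, ha, rfl⟩, rfl⟩
      obtain ⟨b, hb, hbe⟩ := h1
      have h2 : b = (MulAut.conj (⟨m, hm⟩ : ↥(Subgroup.normalizer ((P : Subgroup G) : Set G)))).toMonoidHom a := by
        apply Subtype.ext
        exact hbe
      rw [← h2]
      exact hb

end Cfsg.Agent.Lib.Helper69.SAF
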